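import Cfsg.Agent.FTRows.DualSum
import Cfsg.Agent.Kinf.SectionCount
import Cfsg.Agent.Blocks.Congr
import Cfsg.Agent.Fusion.HomocyclicTwo

/-!
A group whose abelian Sylow 2-subgroup has an automorphism of order three without fixed points induced by
its normalizer, and exponent at least four, has a proper normal subgroup containing it (Brauer).
-/

set_option autoImplicit false
set_option linter.unusedSectionVars false
set_option linter.style.haveILetI false

namespace CfsgLib.FTRows.Homocyclic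

open Finset CfsgLib.Block CfsgLib.Block.Chr CfsgLib.Char CfsgLib.FTRows.Dual
open scoped ComplexConjugate

universe u

variable {G : Type u} [Group G] [Finite G] (P : Sylow 2 G)

local notation "N" => Subgroup.normalizer ((P : Subgroup G) : Set G)
local notation "C" => Subgroup.centralizer ((P : Subgroup G) : Set G)

/-- The hypotheses: abelian Sylow subgroup, `e` induces a fixed-point-free automorphism of order
three generating the automiser. -/
structure Data (e : G) : Prop where
  comm : ∀ a ∈ (P : Subgroup G), ∀ b ∈ (P : Subgroup G), a * b = b * a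
  mem : e ∈ N
  cube : e ^ 3 ∈ C
  rel : Subgroup.relIndex C N = 3
  fpf : ∀ s ∈ (P : Subgroup G), e * s * e⁻¹ = s → s = 1

variable {P} {e : G}

/-- Conjugation by `e` on the Sylow subgroup. -/
noncomputable def theta (D : Data P e) : (P : Subgroup G) →* (P : Subgroup G) :=
  ((MulAut.conj e).toMonoidHom.comp (P : Subgroup G).subtype).codRestrict (P : Subgroup G)
    fun s => (Subgroup.mem_normalizer_iff.1 D.mem s).1 s.2

theorem theta_apply (D : Data P e) (s : (P : Subgroup G)) : (theta D s : G) = e * s * e⁻¹ := rfl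

/-- The powers of `theta`. -/
noncomputable def th (D : Data P e) (j : Fin 3) : (P : Subgroup G) →* (P : Subgroup G) :=
  if j = 0 then MonoidHom.id _ else if j = 1 then theta D else (theta D).comp (theta D)

theorem th_apply (D : Data P e) (j : Fin 3) (s : (P : Subgroup G)) :
    (th D j s : G) = e ^ (j : ℕ) * s * (e ^ (j : ℕ))⁻¹ := by
  fin_cases j
  · simp [th]
  · simp [th, theta_apply]
  · simp [th, theta_apply, pow_two, mul_assoc]

theorem th_zero (D : Data P e) : th D 0 = MonoidHom.id _ := if_pos rfl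

theorem conj_cube (D : Data P e) (s : (P : Subgroup G)) : e ^ 3 * (s : G) * (e ^ 3)⁻¹ = s := by
  rw [← Subgroup.mem_centralizer_iff.1 D.cube s s.2, mul_inv_cancel_right]

theorem th_add (D : Data P e) (i j : Fin 3) (s : (P : Subgroup G)) :
    th D i (th D j s) = th D (i + j) s := by
  have hc := conj_cube D s
  refine Subtype.ext ?_
  rw [th_apply, th_apply, th_apply]
  have h : ∀ k : ℕ, e ^ k * (s : G) * (e ^ k)⁻¹ = e ^ (k % 3) * s * (e ^ (k % 3))⁻¹ := by
    intro k
    induction k using Nat.strong_induction_on with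
    | _ k ih =>
      by_cases hk : k < 3
      · rw [Nat.mod_eq_of_lt hk]
      · obtain ⟨l, rfl⟩ : ∃ l, k = l + 3 := ⟨k - 3, by omega⟩
        rw [Nat.add_mod_right, ← ih l (by omega)]
        conv_rhs => rw [← hc]
        group
  have h2 := h ((i : ℕ) + (j : ℕ))
  rw [← Fin.val_add] at h2
  rw [← h2, pow_add]
  group

theorem fixed_eq (D : Data P e) {i j : Fin 3} {s : (P : Subgroup G)} (hs : s ≠ 1)
    (h : th D i s = th D j s) : i = j := by
  have hinj : ∀ k : Fin 3, Function.Injective (th D k) := fun k a b hab => by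
    have := congrArg Subtype.val hab
    rw [th_apply, th_apply] at this
    exact Subtype.ext (mul_left_cancel (mul_right_cancel this))
  have h1 : th D (j - i) s = s := by
    refine hinj i ?_
    rw [th_add, add_sub_cancel, ← h]
  by_contra hne
  have h2 : th D (1 : Fin 3) s = s := by
    obtain hk | hk : j - i = 1 ∨ j - i = 2 := by
      have : j - i ≠ 0 := sub_ne_zero.2 (Ne.symm hne)
      revert this
      generalize j - i = k
      fin_cases k <;> simp
    · rwa [hk] at h1
    · rw [hk] at h1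
      conv_lhs => rw [← h1]
      rw [th_add]
      show th D ((1 : Fin 3) + 2) s = s
      rw [show (1 : Fin 3) + 2 = 0 from rfl, th_zero]
      rfl
  refine hs (Subtype.ext (D.fpf s s.2 ?_))
  have := congrArg Subtype.val h2
  rw [th_apply] at this
  simpa using this

theorem exists_index (D : Data P e) {n : G} (hn : n ∈ N) :
    ∃ j : Fin 3, (e ^ (j : ℕ))⁻¹ * n ∈ C := by
  by_cases heC : e ∈ C
  · refine ⟨0, ?_⟩
    have hPbot : ∀ s ∈ (P : Subgroup G), s = 1 := fun s hs => D.fpf s hs (by
      rw [← Subgroup.mem_centralizer_iff.1 heC s hs, mul_inv_cancel_right])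
    rw [Subgroup.mem_centralizer_iff]
    intro s hs
    rw [hPbot s hs, one_mul, mul_one]
  haveI : ((C).subgroupOf N).Normal := by
    refine ⟨fun x hx y => ?_⟩
    rw [Subgroup.mem_subgroupOf, Subgroup.mem_centralizer_iff] at hx ⊢
    intro b hb
    have hb' := (Subgroup.mem_normalizer_iff''.1 y.2 b).1 hb
    push_cast
    calc b * ((y : G) * x * (y : G)⁻¹) = (y : G) * (((y : G)⁻¹ * b * y) * x) * (y : G)⁻¹ := by group
      _ = (y : G) * (x * ((y : G)⁻¹ * b * y)) * (y : G)⁻¹ := by rw [hx _ hb']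
      _ = (y : G) * x * (y : G)⁻¹ * b := by group
  have hcard : Nat.card ((N : Subgroup G) ⧸ (C).subgroupOf N) = 3 := D.rel
  haveI : Fact (Nat.Prime 3) := ⟨Nat.prime_three⟩
  have hne : ((⟨e, D.mem⟩ : (N : Subgroup G)) : (N : Subgroup G) ⧸ (C).subgroupOf N) ≠ 1 := by
    rw [Ne, QuotientGroup.eq_one_iff, Subgroup.mem_subgroupOf]; exact heC
  obtain ⟨k, hk⟩ := mem_powers_of_prime_card hcard hne
    (g' := ((⟨n, hn⟩ : (N : Subgroup G)) : (N : Subgroup G) ⧸ (C).subgroupOf N))
  refine ⟨⟨k % 3, Nat.mod_lt _ (by norm_num)⟩, ?_⟩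
  have hk' : ((⟨e, D.mem⟩ : (N : Subgroup G)) ^ k)⁻¹ * (⟨n, hn⟩ : (N : Subgroup G)) ∈
      (C).subgroupOf N := by
    rw [← QuotientGroup.eq, QuotientGroup.mk_pow]; exact hk
  rw [Subgroup.mem_subgroupOf] at hk'
  push_cast at hk'
  show (e ^ (k % 3))⁻¹ * n ∈ C
  have h3 : e ^ k = e ^ (k % 3) * (e ^ 3) ^ (k / 3) := by
    rw [← pow_mul, ← pow_add, Nat.mod_add_div]
  rw [h3, mul_inv_rev, mul_assoc] at hk'
  have := mul_mem (pow_mem D.cube (k / 3)) hk'
  rwa [mul_inv_cancel_left] at this

/-- Fusion in the Sylow subgroup. -/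
theorem isConj_iff_th (D : Data P e) (s s' : (P : Subgroup G)) :
    IsConj (s : G) (s' : G) ↔ ∃ j : Fin 3, th D j s = s' := by
  constructor
  · intro h
    obtain ⟨g, hg⟩ := isConj_iff.1 h
    haveI : IsMulCommutative (P : Subgroup G) :=
      ⟨⟨fun a b => Subtype.ext (D.comm a a.2 b b.2)⟩⟩
    have hmem : g⁻¹⁻¹ * (s : G) * g⁻¹ ∈ P := by
      rw [inv_inv, hg]; exact s'.2
    obtain ⟨n, hn, hn'⟩ := P.conj_eq_normalizer_conj_of_mem (s : G) g⁻¹ s.2 hmem
    rw [inv_inv, hg] at hn'
    obtain ⟨j, hj⟩ := exists_index D (inv_mem hn)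
    refine ⟨j, Subtype.ext ?_⟩
    rw [th_apply]
    have h2 := Subgroup.mem_centralizer_iff.1 hj s s.2
    calc e ^ (j : ℕ) * (s : G) * (e ^ (j : ℕ))⁻¹
        = e ^ (j : ℕ) * ((s : G) * ((e ^ (j : ℕ))⁻¹ * n⁻¹)) * n := by group
      _ = e ^ (j : ℕ) * (((e ^ (j : ℕ))⁻¹ * n⁻¹) * s) * n := by rw [h2]
      _ = n⁻¹ * s * n := by group
      _ = s' := hn'.symm
  · rintro ⟨j, rfl⟩
    rw [th_apply]
    exact isConj_iff.2 ⟨_, rfl⟩

/-- The centralizer of a nontrivial element of the Sylow subgroup has a normal 2-complement. -/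
theorem core_index (D : Data P e) {s : (P : Subgroup G)} (hs : s ≠ 1) :
    (SectionCount.core 2 (s : G)).index = Nat.card (P : Subgroup G) := by
  set Cs := Subgroup.centralizer ({(s : G)} : Set G)
  have hle : (P : Subgroup G) ≤ Cs := fun x hx =>
    Subgroup.mem_centralizer_singleton_iff.2 (D.comm x hx s s.2)
  haveI : Fact (Nat.Prime 2) := ⟨Nat.prime_two⟩
  set T : Sylow 2 Cs := P.subtype hle
  have hT : Subgroup.normalizer ((T : Subgroup Cs) : Set Cs) ≤
      Subgroup.centralizer ((T : Subgroup Cs) : Set Cs) := by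
    intro n hn
    have hnN : (n : G) ∈ N := by
      refine Subgroup.mem_normalizer_iff.2 fun x => ⟨fun hx => ?_, fun hx => ?_⟩
      · exact (Subgroup.mem_normalizer_iff.1 hn ⟨x, hle hx⟩).1 hx
      · have hxC : x ∈ Cs := by
          have := mul_mem (mul_mem (inv_mem n.2) (hle hx)) n.2
          simpa [mul_assoc] using this
        exact (Subgroup.mem_normalizer_iff.1 hn ⟨x, hxC⟩).2 hx
    obtain ⟨j, hj⟩ := exists_index D hnN
    have hns : (n : G) * s = s * n := Subgroup.mem_centralizer_singleton_iff.1 n.2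
    have hj0 : th D j s = th D 0 s := by
      refine Subtype.ext ?_
      rw [th_apply, th_zero]
      have h2 := Subgroup.mem_centralizer_iff.1 hj s s.2
      show e ^ (j : ℕ) * (s : G) * (e ^ (j : ℕ))⁻¹ = s
      calc e ^ (j : ℕ) * (s : G) * (e ^ (j : ℕ))⁻¹
          = e ^ (j : ℕ) * ((s : G) * ((e ^ (j : ℕ))⁻¹ * n)) * (n : G)⁻¹ := by group
        _ = e ^ (j : ℕ) * (((e ^ (j : ℕ))⁻¹ * n) * s) * (n : G)⁻¹ := by rw [h2]
        _ = (n : G) * s * (n : G)⁻¹ := by group
        _ = s := by rw [hns, mul_inv_cancel_right]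
    rw [fixed_eq D hs hj0] at hj
    rw [Subgroup.mem_centralizer_iff]
    intro x hx
    refine Subtype.ext ?_
    have := Subgroup.mem_centralizer_iff.1 hj (x : G) hx
    simpa using this
  have hK := MonoidHom.ker_transferSylow_isComplement' T hT
  set K := (MonoidHom.transferSylow T hT).ker
  haveI : K.Normal := MonoidHom.normal_ker _
  have hTc : Nat.card (T : Subgroup Cs) = Nat.card (P : Subgroup G) :=
    Nat.card_congr (Subgroup.subgroupOfEquivOfLe hle).toEquiv
  have hKi : K.index = Nat.card (P : Subgroup G) := by rw [hK.symm.index_eq_card, hTc]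
  have hKc : (Nat.card K).Coprime 2 := by
    rw [Nat.coprime_comm, Nat.prime_two.coprime_iff_not_dvd, ← hK.index_eq_card]
    exact T.not_dvd_index
  have hcoc : Nat.Coprime (Nat.card (P : Subgroup G)) (Nat.card (SectionCount.core 2 (s : G))) := by
    obtain ⟨k, hk⟩ := IsPGroup.iff_card.1 P.2
    rw [hk]
    exact (CfsgLib.Solvable.coprime_card_pPrimeCore (G := Cs) 2).symm.pow_left k
  refine Nat.dvd_antisymm (hKi ▸ Subgroup.index_dvd_of_le
    (CfsgLib.Solvable.le_pPrimeCore (p := 2) inferInstance hKc)) (hcoc.dvd_of_dvd_mul_right ?_)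
  rw [Subgroup.index_mul_card, ← hTc]
  exact Subgroup.card_subgroup_dvd_card _

/-- **Brauer**: such a group has a proper normal subgroup containing the Sylow subgroup. -/
theorem exists_normal (D : Data P e) (h16 : 16 ∣ Nat.card (P : Subgroup G))
    (a : (P : Subgroup G)) (ha : a * a ≠ 1) (t : (P : Subgroup G)) (ht : orderOf t = 2) :
    ∃ K : Subgroup G, K.Normal ∧ K ≠ ⊤ ∧ (P : Subgroup G) ≤ K := by
  classical
  haveI : Fintype G := Fintype.ofFinite G
  haveI : Fact (Nat.Prime 2) := ⟨Nat.prime_two⟩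
  letI := irrFintype (G := G)
  obtain ⟨M, hM⟩ := exists_isPModular Nat.prime_two
  haveI := hM.2.1.isPrime
  haveI := finite_dual (S := (P : Subgroup G))
  haveI : Fintype ((P : Subgroup G) →* ℂˣ) := Fintype.ofFinite _
  have hab : ∀ x y : (P : Subgroup G), x * y = y * x := fun x y =>
    Subtype.ext (D.comm x x.2 y y.2)
  set B := univ.filter (· ∈ Cfsg.principalBlock M G) with hB
  set q : ℕ := Nat.card (P : Subgroup G) with hq
  have hq0 : (q : ℂ) ≠ 0 := Nat.cast_ne_zero.2 Nat.card_pos.ne'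
  have hpow : ∀ s : (P : Subgroup G), ∃ k : ℕ, orderOf (s : G) = 2 ^ k := fun s => by
    obtain ⟨k, hk⟩ := IsPGroup.iff_orderOf.1 P.2 s
    exact ⟨k, by rw [Subgroup.orderOf_coe, hk]⟩
  have hidx : ∀ s : (P : Subgroup G), s ≠ 1 → ∃ k, (SectionCount.core 2 (s : G)).index = 2 ^ k ∧
      2 ^ k = q := fun s hs => by
    obtain ⟨k, hk⟩ := IsPGroup.iff_card.1 P.2
    exact ⟨k, (core_index D hs).trans hk, hk.symm⟩
  -- orthogonality in the principal block on the Sylow subgroup
  have horth : ∀ s s' : (P : Subgroup G), s ≠ 1 → s' ≠ 1 →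
      ∑ χ ∈ B, (χ : G → ℂ) s * conj ((χ : G → ℂ) s') =
        (q : ℂ) * ∑ j : Fin 3, if th D j s = s' then 1 else 0 := by
    intro s s' hs hs'
    obtain ⟨k, hk⟩ := hpow s
    obtain ⟨k', hk', hkq⟩ := hidx s hs
    by_cases hc : IsConj (s : G) (s' : G)
    · obtain ⟨j, hj⟩ := (isConj_iff_th D s s').1 hc
      have h1 : ∀ χ : Cfsg.IrrCharacter G, (χ : G → ℂ) s' = (χ : G → ℂ) s := fun χ =>
        (IsClassFunction.apply_eq_of_isConj (isClassFunction_irr χ) hc).symm
      rw [Finset.sum_congr rfl fun χ _ => by rw [h1 χ],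
        SectionCount.sum_sq_principal hM hk hk', hkq, Finset.sum_eq_single j]
      · rw [if_pos hj, mul_one]
      · exact fun i _ hij => if_neg fun h => hij (fixed_eq D hs (h.trans hj.symm))
      · exact fun h => absurd (Finset.mem_univ j) h
    · rw [Finset.sum_eq_zero (s := (univ : Finset (Fin 3))) fun j _ =>
        if_neg fun h => hc ((isConj_iff_th D s s').2 ⟨j, h⟩), mul_zero]
      haveI : Fintype (SectionCount.core 2 (s : G)) := Fintype.ofFinite _
      have hzero : ∀ v : SectionCount.core 2 (s : G), ¬ IsConj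
          ((s : G) * ((v : Subgroup.centralizer ({(s : G)} : Set G)) : G)) (s' : G) := by
        intro v hv
        by_cases hv1 : ((v : Subgroup.centralizer ({(s : G)} : Set G)) : G) = 1
        · rw [hv1, mul_one] at hv; exact hc hv
        · obtain ⟨k₂, hk₂⟩ := hpow s'
          obtain ⟨g, hg⟩ := isConj_iff.1 hv
          have hord : orderOf ((s : G) * ((v : Subgroup.centralizer ({(s : G)} : Set G)) : G)) =
              orderOf (s' : G) := by
            rw [← hg]; exact (MulEquiv.orderOf_eq (MulAut.conj g) _).symm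
          have hvo : ¬ 2 ∣ orderOf ((v : Subgroup.centralizer ({(s : G)} : Set G)) : G) := by
            rw [Subgroup.orderOf_coe]; exact SectionCount.not_dvd_orderOf Nat.prime_two v.2
          have hcomm : Commute (s : G) ((v : Subgroup.centralizer ({(s : G)} : Set G)) : G) :=
            (Subgroup.mem_centralizer_singleton_iff.1 (v : Subgroup.centralizer ({(s : G)} : Set G)).2).symm
          rw [hcomm.orderOf_mul_eq_mul_orderOf_of_coprime (by
            rw [hk]; exact (Nat.prime_two.coprime_iff_not_dvd.2 hvo).pow_left k), hk₂] at hord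
          have hdvd : orderOf ((v : Subgroup.centralizer ({(s : G)} : Set G)) : G) ∣ 2 ^ k₂ :=
            ⟨_, by rw [← hord, mul_comm]⟩
          exact hv1 (orderOf_eq_one_iff.1 (Nat.eq_one_of_dvd_coprimes
            ((Nat.prime_two.coprime_iff_not_dvd.2 hvo).pow_left k₂) hdvd dvd_rfl))
      have hall : ∑ χ : Cfsg.IrrCharacter G,
          SectionCount.T 2 (s : G) χ * conj ((χ : G → ℂ) s') = 0 := by
        simp only [SectionCount.T_eq_sum, Finset.sum_mul]
        rw [Finset.sum_comm]
        exact Finset.sum_eq_zero fun v _ => by rw [column_orth, if_neg (hzero v)]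
      rw [← Finset.sum_filter_add_sum_filter_not univ (· ∈ Cfsg.principalBlock M G),
        Finset.sum_eq_zero (s := univ.filter fun χ => ¬ χ ∈ Cfsg.principalBlock M G) fun χ hχ => by
          rw [SectionCount.T_eq_zero hM hk hk' (mem_filter.1 hχ).2, zero_mul],
        add_zero, Finset.sum_congr rfl fun χ hχ => by
          rw [SectionCount.T_principal hM hk (mem_filter.1 hχ).2, mul_assoc],
        ← Finset.mul_sum] at hall
      exact (mul_eq_zero.1 hall).resolve_left (Nat.cast_ne_zero.2 Nat.card_pos.ne')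
  -- multiplicities
  have hm : ∀ (χ : Cfsg.IrrCharacter G) (l : (P : Subgroup G) →* ℂˣ), ∃ m : ℤ,
      (m : ℂ) = (q : ℂ)⁻¹ * ∑ s : (P : Subgroup G), (χ : G → ℂ) s * ev l s⁻¹ := by
    intro χ l
    obtain ⟨m, hm⟩ := IsCharacter.exists_classInner_eq_natCast'
      (IsCharacter.restrict (isCharacter_irr χ) (P : Subgroup G))
      (IsIrrCharacter.isCharacter (isIrrCharacter_ofHom l))
    refine ⟨(m : ℤ), ?_⟩
    rw [Cfsg.classInner] at hm
    rw [Int.cast_natCast, ← hm]
    simp only [conj_ev, hq]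
  choose m hm using hm
  set n : Cfsg.IrrCharacter G → ((P : Subgroup G) →* ℂˣ) → ℤ := fun χ l => m χ 1 - m χ l with hn'
  have hn : ∀ χ l, (n χ l : ℂ) =
      (q : ℂ)⁻¹ * ∑ s : (P : Subgroup G), (χ : G → ℂ) s * (1 - ev l s⁻¹) := by
    intro χ l
    rw [show n χ l = m χ 1 - m χ l from rfl, Int.cast_sub, hm, hm, ← mul_sub,
      ← Finset.sum_sub_distrib]
    congr 1
    refine Finset.sum_congr rfl fun s _ => ?_
    rw [show ev (1 : (P : Subgroup G) →* ℂˣ) s⁻¹ = 1 by simp [ev]]
    ring
  have hn1 : ∀ χ, n χ 1 = 0 := fun χ => sub_self _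
  -- the Gram matrix
  have hgram : ∀ l μ : (P : Subgroup G) →* ℂˣ, l ≠ 1 → μ ≠ 1 →
      ∑ χ ∈ B, n χ l * n χ μ = 3 + ((univ.filter fun j : Fin 3 => μ.comp (th D j) = l).card : ℤ) := by
    intro l μ hl hμ
    have hcast : ((∑ χ ∈ B, n χ l * n χ μ : ℤ) : ℂ) =
        ((3 + ((univ.filter fun j : Fin 3 => μ.comp (th D j) = l).card : ℤ) : ℤ) : ℂ) := by
      push_cast
      have hconj : ∀ χ, (n χ μ : ℂ) =
          (q : ℂ)⁻¹ * ∑ s : (P : Subgroup G), conj ((χ : G → ℂ) s) * (1 - ev μ s) := by
        intro χ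
        have h := congrArg conj (hn χ μ)
        rw [map_intCast, map_mul, map_inv₀, map_natCast, map_sum] at h
        rw [h]
        congr 1
        refine Finset.sum_congr rfl fun s _ => ?_
        rw [map_mul, map_sub, map_one, conj_ev, inv_inv]
      calc ∑ χ ∈ B, (n χ l : ℂ) * (n χ μ : ℂ)
          = (q : ℂ)⁻¹ * (q : ℂ)⁻¹ * ∑ s : (P : Subgroup G), ∑ s' : (P : Subgroup G),
              (1 - ev l s⁻¹) * (1 - ev μ s') *
                ∑ χ ∈ B, (χ : G → ℂ) s * conj ((χ : G → ℂ) s') := by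
            simp only [Finset.mul_sum]
            rw [Finset.sum_congr rfl fun χ _ => by
              rw [hn χ l, hconj χ, Finset.mul_sum, Finset.mul_sum, Finset.sum_mul_sum],
              Finset.sum_comm]
            refine Finset.sum_congr rfl fun s _ => ?_
            rw [Finset.sum_comm]
            exact Finset.sum_congr rfl fun s' _ => Finset.sum_congr rfl fun χ _ => by ring
        _ = (q : ℂ)⁻¹ * (q : ℂ)⁻¹ * ∑ s : (P : Subgroup G),
              (q : ℂ) * ∑ j : Fin 3, (1 - ev l s⁻¹) * (1 - ev μ (th D j s)) := by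
            congr 1
            refine Finset.sum_congr rfl fun s _ => ?_
            rcases eq_or_ne s 1 with rfl | hs
            · simp [ev]
            rw [Finset.sum_congr rfl fun s' _ => show (1 - ev l s⁻¹) * (1 - ev μ s') *
                (∑ χ ∈ B, (χ : G → ℂ) s * conj ((χ : G → ℂ) s')) =
                (q : ℂ) * ∑ j : Fin 3, (if th D j s = s' then
                  (1 - ev l s⁻¹) * (1 - ev μ s') else 0) by
              rcases eq_or_ne s' 1 with rfl | hs'
              · rw [show ev μ (1 : (P : Subgroup G)) = 1 by simp [ev]]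
                simp
              rw [horth s s' hs hs', ← mul_assoc, mul_comm _ (q : ℂ), mul_assoc, Finset.mul_sum]
              congr 1
              exact Finset.sum_congr rfl fun j _ => by rw [mul_ite, mul_one, mul_zero],
              ← Finset.mul_sum, Finset.sum_comm]
            congr 1
            exact Finset.sum_congr rfl fun j _ => by
              rw [Finset.sum_ite_eq, if_pos (Finset.mem_univ _)]
        _ = _ := by
            rw [← Finset.mul_sum, Finset.sum_comm,
              Finset.sum_congr rfl fun j _ => show ∑ s : (P : Subgroup G),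
                  (1 - ev l s⁻¹) * (1 - ev μ (th D j s)) =
                  (q : ℂ) * (1 + if μ.comp (th D j) = l then 1 else 0) by
                have hj : μ.comp (th D j) ≠ 1 := by
                  intro h
                  refine hμ (MonoidHom.ext fun x => ?_)
                  obtain ⟨y, rfl⟩ : ∃ y, th D j y = x := ⟨th D (-j) x, by
                    rw [th_add, add_neg_cancel, th_zero]; rfl⟩
                  exact DFunLike.congr_fun h y
                have e1 : ∀ s : (P : Subgroup G), (1 - ev l s⁻¹) * (1 - ev μ (th D j s)) =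
                    1 - ev l⁻¹ s - ev (μ.comp (th D j)) s + ev (l⁻¹ * μ.comp (th D j)) s :=
                  fun s => by simp [ev]; ring
                rw [Finset.sum_congr rfl fun s _ => e1 s, Finset.sum_add_distrib,
                  Finset.sum_sub_distrib, Finset.sum_sub_distrib, sum_ev (l := l⁻¹)
                    (fun h => hl (MonoidHom.ext fun x => by simpa using DFunLike.congr_fun h x)),
                  sum_ev hj, sum_ev_eq, Finset.sum_const, Finset.card_univ,
                  ← Nat.card_eq_fintype_card, nsmul_eq_mul, mul_add, mul_one, sub_zero, sub_zero,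
                  ← hq]
                congr 1
                rw [mul_ite, mul_one, mul_zero]
                by_cases hh : μ.comp (th D j) = l
                · rw [if_pos hh, if_pos (MonoidHom.ext fun x => by simp [hh])]
                · rw [if_neg hh, if_neg fun h => hh (MonoidHom.ext fun x =>
                    (inv_mul_eq_one.1 (DFunLike.congr_fun h x)).symm)],
              ← Finset.mul_sum, ← mul_assoc, Finset.sum_add_distrib, Finset.sum_boole,
              Finset.sum_const, Finset.card_univ, Fintype.card_fin]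
            field_simp
            simp
    exact_mod_cast hcast
  -- free action on the nontrivial linear characters
  have hfree : ∀ l : (P : Subgroup G) →* ℂˣ, l ≠ 1 → ∀ i j : Fin 3,
      l.comp (th D i) = l.comp (th D j) → i = j := by
    intro l hl i j h
    by_contra hne
    apply hl
    have hk : ∀ s, l (th D (j - i) s) = l s := fun s => by
      have := DFunLike.congr_fun h (th D (-i) s)
      simp only [MonoidHom.comp_apply, th_add, add_neg_cancel, th_zero, MonoidHom.id_apply] at this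
      rw [sub_eq_add_neg]
      exact this.symm
    have hinj : Function.Injective fun s : (P : Subgroup G) => th D (j - i) s * s⁻¹ := by
      intro x y hxy
      have h3 : th D (j - i) (y⁻¹ * x) = y⁻¹ * x := by
        have hx' : th D (j - i) x = th D (j - i) y * y⁻¹ * x := by
          calc th D (j - i) x = th D (j - i) x * x⁻¹ * x := by group
            _ = th D (j - i) y * y⁻¹ * x := congrArg (· * x) hxy
        rw [map_mul, map_inv, hx', mul_assoc (th D (j - i) y), inv_mul_cancel_left]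
      by_contra hxy'
      have hne' : y⁻¹ * x ≠ 1 := fun h => hxy' (inv_mul_eq_one.1 h).symm
      exact sub_ne_zero.2 (Ne.symm hne)
        (fixed_eq D hne' (h3.trans (by rw [th_zero]; rfl : y⁻¹ * x = th D 0 (y⁻¹ * x))))
    refine MonoidHom.ext fun s => ?_
    obtain ⟨y, rfl⟩ := Finite.surjective_of_injective hinj s
    simp [hk y]
  set L' := (univ : Finset ((P : Subgroup G) →* ℂˣ)).erase 1 with hL'
  have hone : oneIrr G ∈ B := mem_filter.2 ⟨mem_univ _, oneIrr_mem_principalBlock⟩
  have hnone : ∀ l : (P : Subgroup G) →* ℂˣ, l ≠ 1 → n (oneIrr G) l = 1 := by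
    intro l hl
    have h := hn (oneIrr G) l
    simp only [oneIrr_apply, one_mul, Finset.sum_sub_distrib, Finset.sum_const, Finset.card_univ,
      ← Nat.card_eq_fintype_card, nsmul_eq_mul, mul_one] at h
    rw [show ∑ x : (P : Subgroup G), ev l x⁻¹ = 0 by
      rw [Fintype.sum_equiv (Equiv.inv _) (fun x => ev l x⁻¹) (ev l) fun x => rfl, sum_ev hl],
      sub_zero, inv_mul_cancel₀ hq0] at h
    exact_mod_cast h
  set B' := B.erase (oneIrr G) with hB'
  set v : ((P : Subgroup G) →* ℂˣ) → Cfsg.IrrCharacter G → ℤ :=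
    fun l χ => if χ ∈ B' then n χ l else 0 with hv'
  have hv : ∀ l, ∀ χ ∈ B', v l χ = n χ l := fun l χ h => if_pos h
  have hinner : ∀ l μ, l ≠ 1 → μ ≠ 1 → ∑ χ ∈ B', v l χ * v μ χ =
      2 + ((univ.filter fun j : Fin 3 => μ.comp (th D j) = l).card : ℤ) := by
    intro l μ hl hμ
    have h := hgram l μ hl hμ
    rw [← Finset.add_sum_erase _ _ hone, hnone l hl, hnone μ hμ, one_mul] at h
    rw [Finset.sum_congr rfl fun χ hχ => by rw [hv l χ hχ, hv μ χ hχ]]
    linarith
  have hJself : ∀ l : (P : Subgroup G) →* ℂˣ, l ≠ 1 →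
      (univ.filter fun j : Fin 3 => l.comp (th D j) = l).card = 1 := by
    intro l hl
    rw [Finset.card_eq_one]
    refine ⟨0, Finset.eq_singleton_iff_unique_mem.2 ⟨?_, fun j hj => ?_⟩⟩
    · simp [th_zero, MonoidHom.comp_id]
    · exact hfree l hl j 0 (by rw [(mem_filter.1 hj).2, th_zero, MonoidHom.comp_id])
  have hveq : ∀ l μ, l ≠ 1 → μ ≠ 1 → (v μ = v l ↔ ∃ j, μ.comp (th D j) = l) := by
    intro l μ hl hμ
    constructor
    · intro h
      have h1 := hinner l μ hl hμ
      rw [Finset.sum_congr rfl fun χ _ => by rw [h], hinner l l hl hl, hJself l hl] at h1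
      obtain ⟨j, hj⟩ := Finset.card_pos.1
        (by omega : 0 < (univ.filter fun j : Fin 3 => μ.comp (th D j) = l).card)
      exact ⟨j, (mem_filter.1 hj).2⟩
    · rintro ⟨j, hj⟩
      have hJ : (univ.filter fun i : Fin 3 => μ.comp (th D i) = l).card = 1 := by
        rw [Finset.card_eq_one]
        exact ⟨j, Finset.eq_singleton_iff_unique_mem.2 ⟨by simp [hj],
          fun i hi => hfree μ hμ i j ((mem_filter.1 hi).2.trans hj.symm)⟩⟩
      have h0 : ∑ χ ∈ B', (v μ χ - v l χ) * (v μ χ - v l χ) = 0 := by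
        have e : ∀ χ, (v μ χ - v l χ) * (v μ χ - v l χ) =
            v μ χ * v μ χ + v l χ * v l χ - 2 * (v l χ * v μ χ) := fun χ => by ring
        rw [Finset.sum_congr rfl fun χ _ => e χ, Finset.sum_sub_distrib, Finset.sum_add_distrib,
          ← Finset.mul_sum, hinner μ μ hμ hμ, hinner l l hl hl, hinner l μ hl hμ, hJ,
          hJself μ hμ, hJself l hl]
        norm_num
      funext χ
      by_cases hχ : χ ∈ B'
      · have := (Finset.sum_eq_zero_iff_of_nonneg fun φ _ => mul_self_nonneg _).1 h0 χ hχ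
        exact sub_eq_zero.1 (mul_self_eq_zero.1 this)
      · simp [hv', hχ]
  set V := L'.image v with hV
  have hL'ne : ∀ l ∈ L', l ≠ 1 := fun l hl => (Finset.mem_erase.1 hl).1
  have hmemL' : ∀ l : (P : Subgroup G) →* ℂˣ, l ≠ 1 → l ∈ L' := fun l hl =>
    Finset.mem_erase.2 ⟨hl, mem_univ _⟩
  have hVcard : 5 ≤ V.card := by
    have h1 : L'.card ≤ 3 * V.card := by
      refine Finset.card_le_mul_card_image_of_maps_to (f := v) (fun l hl => Finset.mem_image_of_mem v hl) 3
        fun w hw => ?_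
      obtain ⟨l, hl, rfl⟩ := Finset.mem_image.1 hw
      refine le_trans (Finset.card_le_card (t := (univ : Finset (Fin 3)).image fun j => l.comp (th D j))
        fun μ hμ => ?_) (Finset.card_image_le.trans (by simp))
      obtain ⟨hμL, hμe⟩ := Finset.mem_filter.1 hμ
      obtain ⟨j, hj⟩ := (hveq μ l (hL'ne μ hμL) (hL'ne l hl)).1 hμe.symm
      exact Finset.mem_image.2 ⟨j, mem_univ _, hj⟩
    have h2 : L'.card = q - 1 := by
      rw [hL', Finset.card_erase_of_mem (mem_univ _), Finset.card_univ, ← Nat.card_eq_fintype_card,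
        card_dual hab]
    have h3 : 16 ≤ q := Nat.le_of_dvd Nat.card_pos h16
    omega
  obtain ⟨χp, hpB, χq, hqB, hpq, cp, cq, hcp, hcq, hsun⟩ := sunflower B' V hVcard
    (fun w hw χ hχ => by
      obtain ⟨l, _, rfl⟩ := Finset.mem_image.1 hw
      exact if_neg hχ)
    (fun w hw => by
      obtain ⟨l, hl, rfl⟩ := Finset.mem_image.1 hw
      rw [hinner l l (hL'ne l hl) (hL'ne l hl), hJself l (hL'ne l hl)]
      norm_num)
    (fun w hw w' hw' hne => by
      obtain ⟨l, hl, rfl⟩ := Finset.mem_image.1 hw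
      obtain ⟨μ, hμ, rfl⟩ := Finset.mem_image.1 hw'
      rw [hinner l μ (hL'ne l hl) (hL'ne μ hμ), Finset.card_eq_zero.2
        (Finset.filter_eq_empty_iff.2 fun j _ h =>
          hne ((hveq l μ (hL'ne l hl) (hL'ne μ hμ)).2 ⟨j, h⟩).symm)]
      norm_num)
  choose r hrB hrp hrq hvp hvq hvr hv0 using fun l : {l // l ∈ L'} =>
    hsun (v l.1) (Finset.mem_image_of_mem v l.2)
  -- inversion
  have hite1 : ∀ (s s' : (P : Subgroup G)) (X : ℂ),
      (if s'⁻¹ * s = 1 then X else 0) = if s' = s then X else 0 := fun s s' X =>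
    if_congr inv_mul_eq_one rfl rfl
  have hite2 : ∀ (s : (P : Subgroup G)) (X : ℂ),
      (if s⁻¹ = 1 then X else 0) = if s = 1 then X else 0 := fun s X =>
    if_congr inv_eq_one rfl rfl
  have hinv : ∀ (χ : Cfsg.IrrCharacter G) (s : (P : Subgroup G)), s ≠ 1 →
      (χ : G → ℂ) s = -∑ l ∈ L', (n χ l : ℂ) * ev l s := by
    intro χ s hs
    rw [hL', Finset.sum_erase _ (by rw [hn1 χ]; simp)]
    calc (χ : G → ℂ) s = -((q : ℂ)⁻¹ * ∑ s' : (P : Subgroup G), (χ : G → ℂ) s' *
          ∑ l : (P : Subgroup G) →* ℂˣ, (ev l s - ev l (s'⁻¹ * s))) := by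
            rw [Finset.sum_congr rfl fun s' _ => by
              rw [Finset.sum_sub_distrib, sum_dual hab hs, sum_dual_eq hab, zero_sub, mul_neg,
                mul_ite, mul_zero, hite1 s s'],
              Finset.sum_neg_distrib, Finset.sum_ite_eq' univ s, if_pos (mem_univ _), ← hq, mul_neg,
              neg_neg, mul_comm _ (q : ℂ), ← mul_assoc, inv_mul_cancel₀ hq0, one_mul]
      _ = -∑ l : (P : Subgroup G) →* ℂˣ, (n χ l : ℂ) * ev l s := by
            congr 1
            simp only [hn χ, Finset.mul_sum, Finset.sum_mul]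
            rw [Finset.sum_comm]
            refine Finset.sum_congr rfl fun l _ => Finset.sum_congr rfl fun s' _ => ?_
            rw [ev_mul]; ring
  -- degrees
  set f : Cfsg.IrrCharacter G → ℤ := fun χ => (Cfsg.charDegree (χ : G → ℂ) : ℤ) with hf'
  have hf : ∀ χ : Cfsg.IrrCharacter G, (χ : G → ℂ) 1 = (f χ : ℂ) := fun χ => by
    rw [(irr_one χ).1]; simp [hf']
  have hfpos : ∀ χ, 0 < f χ := fun χ => by
    have := (irr_one χ).2; simp [hf', this]
  have hfne : ∀ χ, (f χ : ℂ) ≠ 0 := fun χ => Int.cast_ne_zero.2 (hfpos χ).ne'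
  have hG0 : ∀ l, ∑ χ ∈ B, f χ * n χ l = 0 := by
    intro l
    have h : ((∑ χ ∈ B, f χ * n χ l : ℤ) : ℂ) = 0 := by
      push_cast
      rw [Finset.sum_congr rfl fun χ _ => by
        rw [hn χ l, ← hf χ, ← mul_assoc, mul_comm _ (q : ℂ)⁻¹, mul_assoc, Finset.mul_sum],
        ← Finset.mul_sum, Finset.sum_comm, Finset.sum_eq_zero, mul_zero]
      intro s _
      rcases eq_or_ne s 1 with rfl | hs
      · simp [ev]
      obtain ⟨k, hk⟩ := hpow s
      obtain ⟨k', hk', -⟩ := hidx s hs
      rw [Finset.sum_congr rfl fun χ _ => (mul_assoc _ _ _).symm, ← Finset.sum_mul]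
      have h0 := congrArg conj (SectionCount.sum_degree_mul hM hk
        (fun h => hs (Subtype.ext h)) hk')
      rw [map_sum, map_zero] at h0
      rw [Finset.sum_congr rfl fun (χ : Cfsg.IrrCharacter G) _ => show (χ : G → ℂ) 1 * (χ : G → ℂ) (s : G) =
        conj ((χ : G → ℂ) 1 * conj ((χ : G → ℂ) (s : G))) by
          rw [map_mul, Complex.conj_conj, hf χ, map_intCast], h0, zero_mul]
    exact_mod_cast h
  have hpval : ∀ l ∈ L', n χp l = cp := fun l hl => (hv l χp hpB).symm.trans (hvp ⟨l, hl⟩)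
  have hqval : ∀ l ∈ L', n χq l = cq := fun l hl => (hv l χq hqB).symm.trans (hvq ⟨l, hl⟩)
  have hsum_m : ∀ χ, f χ = (q : ℤ) * m χ 1 - ∑ l, n χ l := by
    intro χ
    have h1 : ((∑ l, m χ l : ℤ) : ℂ) = (f χ : ℂ) := by
      push_cast
      simp only [hm, ← Finset.mul_sum]
      rw [Finset.sum_comm, Finset.sum_congr rfl fun s _ => by
        rw [← Finset.mul_sum, sum_dual_eq hab, hite2 s,
          mul_ite, mul_zero], Finset.sum_ite_eq' univ (1 : (P : Subgroup G)), if_pos (mem_univ _),
        OneMemClass.coe_one, hf, ← hq, mul_comm _ (q : ℂ), ← mul_assoc, inv_mul_cancel₀ hq0, one_mul]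
    have h2 : f χ = ∑ l, m χ l := by exact_mod_cast h1.symm
    rw [h2, show ∑ l, n χ l = ∑ l, (m χ 1 - m χ l) from rfl, Finset.sum_sub_distrib,
      Finset.sum_const, Finset.card_univ, ← Nat.card_eq_fintype_card, card_dual hab, nsmul_eq_mul,
      ← hq]
    push_cast
    ring
  have hcong : ∀ χ (c : ℤ), (c = 1 ∨ c = -1) → (∀ l ∈ L', n χ l = c) →
      (16 : ℤ) ∣ c * f χ - 1 := by
    intro χ c hc hval
    have hL : (L'.card : ℤ) = (q : ℤ) - 1 := by
      have h3 : 1 ≤ q := Nat.card_pos
      rw [hL', Finset.card_erase_of_mem (mem_univ _), Finset.card_univ, ← Nat.card_eq_fintype_card,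
        card_dual hab]
      omega
    have hs : ∑ l, n χ l = c * ((q : ℤ) - 1) := by
      rw [← Finset.sum_erase (univ : Finset ((P : Subgroup G) →* ℂˣ)) (hn1 χ), ← hL',
        Finset.sum_congr rfl hval, Finset.sum_const, nsmul_eq_mul, hL, mul_comm]
    rw [hsum_m χ, hs]
    have hd : (16 : ℤ) ∣ (q : ℤ) := by exact_mod_cast h16
    have hcc : c * c = 1 := by rcases hc with rfl | rfl <;> norm_num
    rw [show c * ((q : ℤ) * m χ 1 - c * ((q : ℤ) - 1)) - 1 =
      (q : ℤ) * (c * m χ 1 - 1) + (1 - c * c) * ((q : ℤ) - 1) by ring, hcc, sub_self, zero_mul,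
      add_zero]
    exact hd.mul_right _
  set x : ℤ := cp * f χp with hx'
  set y : ℤ := cq * f χq with hy'
  set K : ℤ := 1 + x + y with hK'
  have hp1 : χp ≠ oneIrr G := (Finset.mem_erase.1 hpB).1
  have hq1 : χq ≠ oneIrr G := (Finset.mem_erase.1 hqB).1
  have hsupp : ∀ l : {l // l ∈ L'}, ∀ χ ∈ B, χ ∉ ({oneIrr G, χp, χq, r l} : Finset _) →
      n χ l.1 = 0 := by
    intro l χ hχ hnot
    simp only [Finset.mem_insert, Finset.mem_singleton, not_or] at hnot
    rw [← hv l.1 χ (Finset.mem_erase.2 ⟨hnot.1, hχ⟩)]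
    exact hv0 l χ hnot.2.1 hnot.2.2.1 hnot.2.2.2
  have hrval : ∀ l : {l // l ∈ L'}, n (r l) l.1 = 1 ∨ n (r l) l.1 = -1 := fun l => by
    rw [← hv l.1 _ (hrB l)]; exact hvr l
  have hr1 : ∀ l : {l // l ∈ L'}, r l ≠ oneIrr G := fun l => (Finset.mem_erase.1 (hrB l)).1
  have hsub : ∀ l : {l // l ∈ L'}, ({oneIrr G, χp, χq, r l} : Finset _) ⊆ B := fun l χ hχ => by
    simp only [Finset.mem_insert, Finset.mem_singleton] at hχ
    rcases hχ with rfl | rfl | rfl | rfl
    exacts [hone, Finset.mem_of_mem_erase hpB, Finset.mem_of_mem_erase hqB,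
      Finset.mem_of_mem_erase (hrB l)]
  have hfour : ∀ (l : {l // l ∈ L'}) (F : Cfsg.IrrCharacter G → ℂ),
      ∑ χ ∈ ({oneIrr G, χp, χq, r l} : Finset _), F χ =
        F (oneIrr G) + F χp + F χq + F (r l) := by
    intro l F
    rw [Finset.sum_insert (by simp [hp1.symm, hq1.symm, (hr1 l).symm]),
      Finset.sum_insert (by simp [hpq, (hrp l).symm]),
      Finset.sum_insert (by simp [(hrq l).symm]), Finset.sum_singleton]
    ring
  have hfone : f (oneIrr G) = 1 := by
    have := hf (oneIrr G)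
    rw [oneIrr_apply] at this
    exact_mod_cast this.symm
  have hcK : ∀ l : {l // l ∈ L'}, n (r l) l.1 * f (r l) = -K := by
    intro l
    have h : ((n (r l) l.1 * f (r l) : ℤ) : ℂ) = ((-K : ℤ) : ℂ) := by
      have h0 : ∑ χ ∈ B, (f χ : ℂ) * (n χ l.1 : ℂ) = 0 := by exact_mod_cast hG0 l.1
      rw [← Finset.sum_subset (hsub l) (fun χ hχ hnot => by
        rw [hsupp l χ hχ hnot, Int.cast_zero, mul_zero]), hfour l, hfone, hnone _ (hL'ne _ l.2),
        hpval _ l.2, hqval _ l.2] at h0
      simp only [hK', hx', hy']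
      push_cast at h0 ⊢
      linear_combination h0
    exact_mod_cast h
  have hK0 : K ≠ 0 := by
    obtain ⟨l, hl⟩ : L'.Nonempty := by
      obtain ⟨w, hw⟩ := Finset.card_pos.1 (by omega : 0 < V.card)
      obtain ⟨l, hl, -⟩ := Finset.mem_image.1 hw
      exact ⟨l, hl⟩
    intro h0
    have h := hcK ⟨l, hl⟩
    rw [h0, neg_zero, mul_eq_zero] at h
    rcases h with h | h
    · rcases hrval ⟨l, hl⟩ with e | e <;> rw [e] at h <;> norm_num at h
    · exact (hfpos _).ne' h
  have hx0 : x ≠ 0 := mul_ne_zero (by rcases hcp with rfl | rfl <;> norm_num) (hfpos _).ne'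
  have hy0 : y ≠ 0 := mul_ne_zero (by rcases hcq with rfl | rfl <;> norm_num) (hfpos _).ne'
  set A : ℂ := 1 + 1 / (x : ℂ) + 1 / (y : ℂ) with hA
  -- triple products
  have htriple : ∀ l₁ ∈ L', ∀ l₂ ∈ L', ∀ l₃ ∈ L',
      ∑ χ ∈ B, (n χ l₁ : ℂ) * n χ l₂ * n χ l₃ / (f χ : ℂ) =
        A + (if v l₂ = v l₁ ∧ v l₃ = v l₁ then -1 / (K : ℂ) else 0) := by
    intro l₁ h1 l₂ h2 l₃ h3
    have hcube : ∀ c : ℤ, (c = 1 ∨ c = -1) → ∀ χ,
        (c : ℂ) * c * c / (f χ : ℂ) = 1 / (((c * f χ : ℤ)) : ℂ) := fun c hc χ => by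
      rcases hc with rfl | rfl <;> push_cast <;> ring
    have hreq : ∀ l l' : {l // l ∈ L'}, r l = r l' → v l'.1 = v l.1 := by
      intro l l' he
      by_contra hne
      have h2' := hinner l.1 l'.1 (hL'ne _ l.2) (hL'ne _ l'.2)
      rw [Finset.card_eq_zero.2 (Finset.filter_eq_empty_iff.2 fun j _ h =>
        hne ((hveq l.1 l'.1 (hL'ne _ l.2) (hL'ne _ l'.2)).2 ⟨j, h⟩))] at h2'
      have hsum : ∑ χ ∈ B', v l.1 χ * v l'.1 χ =
          v l.1 χp * v l'.1 χp + v l.1 χq * v l'.1 χq + v l.1 (r l) * v l'.1 (r l) := by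
        rw [← Finset.sum_subset (s₁ := ({χp, χq, r l} : Finset _)) (fun χ hχ => by
            simp only [Finset.mem_insert, Finset.mem_singleton] at hχ
            rcases hχ with rfl | rfl | rfl
            exacts [hpB, hqB, hrB l])
          (fun χ _ hnot => by
            simp only [Finset.mem_insert, Finset.mem_singleton, not_or] at hnot
            rw [hv0 l χ hnot.1 hnot.2.1 hnot.2.2, zero_mul]),
          Finset.sum_insert (by simp [hpq, (hrp l).symm]),
          Finset.sum_insert (by simp [(hrq l).symm]), Finset.sum_singleton, add_assoc]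
      rw [hsum, hvp l, hvp l', hvq l, hvq l'] at h2'
      have h4 := hvr l'
      rw [← he] at h4
      rcases hcp with rfl | rfl <;> rcases hcq with rfl | rfl <;>
        rcases hvr l with e | e <;> rcases h4 with e' | e' <;> rw [e, e'] at h2' <;>
        norm_num at h2'
    rw [← Finset.sum_subset (hsub ⟨l₁, h1⟩) (fun χ hχ hnot => by
      rw [hsupp ⟨l₁, h1⟩ χ hχ hnot, Int.cast_zero, zero_mul, zero_mul, zero_div]),
      hfour ⟨l₁, h1⟩, hnone _ (hL'ne _ h1), hnone _ (hL'ne _ h2), hnone _ (hL'ne _ h3), hfone,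
      hpval _ h1, hpval _ h2, hpval _ h3, hqval _ h1, hqval _ h2, hqval _ h3, hcube cp hcp χp,
      hcube cq hcq χq, ← hx', ← hy']
    have hlast : (n (r ⟨l₁, h1⟩) l₁ : ℂ) * n (r ⟨l₁, h1⟩) l₂ * n (r ⟨l₁, h1⟩) l₃ /
        (f (r ⟨l₁, h1⟩) : ℂ) =
        if v l₂ = v l₁ ∧ v l₃ = v l₁ then -1 / (K : ℂ) else 0 := by
      split_ifs with hh
      · rw [← hv l₂ _ (hrB _), ← hv l₃ _ (hrB _), hh.1, hh.2, hv l₁ _ (hrB _),
          hcube _ (hrval ⟨l₁, h1⟩), hcK ⟨l₁, h1⟩, Int.cast_neg]
        ring
      · have hzero : ∀ (l : (P : Subgroup G) →* ℂˣ) (hl : l ∈ L'), v l ≠ v l₁ →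
            n (r ⟨l₁, h1⟩) l = 0 := by
          intro l hl hne
          rw [← hv l _ (hrB _)]
          exact hv0 ⟨l, hl⟩ _ (hrp _) (hrq _) fun he => hne (hreq ⟨l₁, h1⟩ ⟨l, hl⟩ he)
        rcases not_and_or.1 hh with hh | hh
        · rw [hzero l₂ h2 hh]; simp
        · rw [hzero l₃ h3 hh]; simp
    rw [hlast, hA]
    push_cast
    ring
  -- no products of two involutions in the section of `a`
  have ha1 : a ≠ 1 := fun h => ha (by rw [h, one_mul])
  have ht1 : t ≠ 1 := fun h => by rw [h, orderOf_one] at ht; omega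
  obtain ⟨ka, hka⟩ := hpow a
  obtain ⟨ka', hka', -⟩ := hidx a ha1
  have htG : (t : G) * (t : G) = 1 := by
    have h2 := congrArg Subtype.val (pow_orderOf_eq_one t)
    rw [ht, pow_two] at h2
    exact h2
  have hcount : ∑ χ ∈ B, conj ((χ : G → ℂ) a) * (χ : G → ℂ) t * (χ : G → ℂ) t / (χ : G → ℂ) 1
      = 0 := by
    have h := SectionCount.card_pairs hM hka hka' (t : G) (t : G)
    rw [Finset.card_eq_zero.2 (Finset.filter_eq_empty_iff.2 ?_), Nat.cast_zero, zero_mul] at h
    · have hne : ((univ.filter (IsConj (t : G))).card : ℂ) ≠ 0 :=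
        Nat.cast_ne_zero.2 (Finset.card_pos.2 ⟨(t : G), mem_filter.2 ⟨mem_univ _, IsConj.refl _⟩⟩).ne'
      exact ((mul_eq_zero.1 h.symm).resolve_left (mul_ne_zero hne hne))
    rintro ⟨u, w⟩ huw ⟨c, z, hz, hzc⟩
    obtain ⟨hu, hw⟩ := Finset.mem_product.1 huw
    have hinvol : ∀ g : G, IsConj (t : G) g → g * g = 1 := fun g hg => by
      obtain ⟨d, rfl⟩ := isConj_iff.1 hg
      calc d * (t : G) * d⁻¹ * (d * t * d⁻¹) = d * ((t : G) * t) * d⁻¹ := by group
        _ = 1 := by rw [htG]; group
    have huu := hinvol u (mem_filter.1 hu).2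
    have hww := hinvol w (mem_filter.1 hw).2
    set Z := (a : G) * ((z : Subgroup.centralizer ({(a : G)} : Set G)) : G)
    set d := c⁻¹ * u * c
    have huZ : d * Z * d⁻¹ = Z⁻¹ := by
      have e1 : Z = c⁻¹ * (u * w) * c := by rw [← hzc]; group
      have hu' : u⁻¹ = u := inv_eq_of_mul_eq_one_right huu
      have hw' : w⁻¹ = w := inv_eq_of_mul_eq_one_right hww
      rw [e1]
      calc c⁻¹ * u * c * (c⁻¹ * (u * w) * c) * (c⁻¹ * u * c)⁻¹
          = c⁻¹ * (u * u) * w * u⁻¹ * c := by group
        _ = c⁻¹ * w⁻¹ * u⁻¹ * c := by rw [huu, hw']; group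
        _ = (c⁻¹ * (u * w) * c)⁻¹ := by group
    have hvo : ¬ 2 ∣ orderOf z := SectionCount.not_dvd_orderOf Nat.prime_two hz
    obtain ⟨k, hk1, hk2⟩ := Nat.chineseRemainder
      (show (orderOf (a : G)).Coprime (orderOf z) by
        rw [hka]; exact (Nat.prime_two.coprime_iff_not_dvd.2 hvo).pow_left ka) 1 0
    have hcomm : Commute (a : G) ((z : Subgroup.centralizer ({(a : G)} : Set G)) : G) :=
      (Subgroup.mem_centralizer_singleton_iff.1 (z : Subgroup.centralizer ({(a : G)} : Set G)).2).symm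
    have hZk : Z ^ k = a := by
      rw [hcomm.mul_pow, pow_eq_pow_iff_modEq.2 hk1, pow_one, ← SubgroupClass.coe_pow,
        pow_eq_pow_iff_modEq.2 hk2, pow_zero, OneMemClass.coe_one, mul_one]
    have hda : IsConj (a : G) ((a⁻¹ : (P : Subgroup G)) : G) := isConj_iff.2 ⟨d, by
      rw [InvMemClass.coe_inv, ← hZk, ← conj_pow, huZ, inv_pow]⟩
    obtain ⟨j, hj⟩ := (isConj_iff_th D a a⁻¹).1 hda
    have h2j : th D (j + j) a = th D 0 a := by
      rw [← th_add, hj, map_inv, hj, inv_inv, th_zero]; rfl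
    have hj0 : j = 0 := by
      have := fixed_eq D ha1 h2j
      revert this
      fin_cases j <;> simp
    rw [hj0, th_zero] at hj
    exact ha (by
      calc a * a = a * a⁻¹ := congrArg (a * ·) hj
        _ = 1 := mul_inv_cancel a)
  -- evaluate
  have hmain : A - 9 / (K : ℂ) = 0 := by
    have hconj : ∀ χ : Cfsg.IrrCharacter G,
        conj ((χ : G → ℂ) a) = -∑ l ∈ L', (n χ l : ℂ) * ev l a⁻¹ := fun χ => by
      rw [hinv χ a ha1, map_neg, map_sum]
      congr 1
      exact Finset.sum_congr rfl fun l _ => by rw [map_mul, map_intCast, conj_ev]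
    have hS : ∀ s : (P : Subgroup G), s ≠ 1 → ∑ l ∈ L', ev l s = -1 := fun s hs => by
      rw [hL', Finset.sum_erase_eq_sub (mem_univ _), sum_dual hab hs,
        show ev (1 : (P : Subgroup G) →* ℂˣ) s = 1 by simp [ev], zero_sub]
    have horbit : ∀ l ∈ L', ∀ s : (P : Subgroup G),
        ∑ μ ∈ L', (if v μ = v l then ev μ s else 0) = ∑ j : Fin 3, ev l (th D j s) := by
      intro l hl s
      rw [← Finset.sum_filter]
      have he : L'.filter (fun μ => v μ = v l) = univ.image fun j : Fin 3 => l.comp (th D j) := by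
        ext μ
        simp only [Finset.mem_filter, Finset.mem_image, Finset.mem_univ, true_and]
        constructor
        · rintro ⟨hμ, he⟩
          exact (hveq μ l (hL'ne μ hμ) (hL'ne l hl)).1 he.symm
        · rintro ⟨j, rfl⟩
          have hne : l.comp (th D j) ≠ 1 := fun h => hL'ne l hl (MonoidHom.ext fun y => by
            have := DFunLike.congr_fun h (th D (-j) y)
            simpa [th_add, th_zero] using this)
          exact ⟨hmemL' _ hne, ((hveq _ l hne (hL'ne l hl)).2 ⟨j, rfl⟩).symm⟩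
      rw [he, Finset.sum_image fun i _ j _ h => hfree l (hL'ne l hl) i j h]
      exact Finset.sum_congr rfl fun j _ => rfl
    have h3 : ∑ l₁ ∈ L', ∑ l₂ ∈ L', ∑ l₃ ∈ L', ev l₁ a⁻¹ * ev l₂ t * ev l₃ t *
        (A + if v l₂ = v l₁ ∧ v l₃ = v l₁ then -1 / (K : ℂ) else 0) = 0 := by
      have h := hcount
      rw [Finset.sum_congr rfl fun (χ : Cfsg.IrrCharacter G) _ => show conj ((χ : G → ℂ) a) * (χ : G → ℂ) t *
          (χ : G → ℂ) t / (χ : G → ℂ) 1 = -∑ l₁ ∈ L', ∑ l₂ ∈ L', ∑ l₃ ∈ L',
            ev l₁ a⁻¹ * ev l₂ t * ev l₃ t * ((n χ l₁ : ℂ) * n χ l₂ * n χ l₃ / (f χ : ℂ)) by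
        rw [hconj χ, hinv χ t ht1, hf χ]
        rw [show ∀ X Y W : ℂ, -X * -Y * -Y / W = -(X * Y * Y / W) from fun X Y W => by ring]
        congr 1
        rw [Finset.sum_mul_sum, Finset.sum_mul, Finset.sum_div]
        refine Finset.sum_congr rfl fun l₁ _ => ?_
        rw [Finset.sum_mul, Finset.sum_div]
        refine Finset.sum_congr rfl fun l₂ _ => ?_
        rw [Finset.mul_sum, Finset.sum_div]
        exact Finset.sum_congr rfl fun l₃ _ => by ring,
        Finset.sum_neg_distrib, neg_eq_zero, Finset.sum_comm] at h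
      refine Eq.trans (Finset.sum_congr rfl fun l₁ h1 => ?_) h
      rw [Finset.sum_comm (s := B)]
      refine Finset.sum_congr rfl fun l₂ h2 => ?_
      rw [Finset.sum_comm (s := B)]
      refine Finset.sum_congr rfl fun l₃ h3 => ?_
      rw [← Finset.mul_sum, htriple l₁ h1 l₂ h2 l₃ h3]
    simp only [mul_add, Finset.sum_add_distrib] at h3
    have e1 : ∑ l₁ ∈ L', ∑ l₂ ∈ L', ∑ l₃ ∈ L', ev l₁ a⁻¹ * ev l₂ t * ev l₃ t * A = -A := by
      simp only [← Finset.sum_mul, ← Finset.mul_sum]
      rw [hS t ht1, hS a⁻¹ (inv_ne_one.2 ha1)]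
      ring
    have e2 : ∑ l₁ ∈ L', ∑ l₂ ∈ L', ∑ l₃ ∈ L', ev l₁ a⁻¹ * ev l₂ t * ev l₃ t *
        (if v l₂ = v l₁ ∧ v l₃ = v l₁ then -1 / (K : ℂ) else 0) = -1 / (K : ℂ) * (-9) := by
      calc _ = ∑ l₁ ∈ L', -1 / (K : ℂ) * (ev l₁ a⁻¹ *
              ((∑ μ ∈ L', if v μ = v l₁ then ev μ t else 0) *
                ∑ μ ∈ L', if v μ = v l₁ then ev μ t else 0)) := by
            refine Finset.sum_congr rfl fun l₁ _ => ?_
            simp only [Finset.sum_mul, Finset.mul_sum]
            refine Finset.sum_congr rfl fun l₂ _ => Finset.sum_congr rfl fun l₃ _ => ?_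
            by_cases h2 : v l₂ = v l₁ <;> by_cases h3 : v l₃ = v l₁ <;> simp [h2, h3] <;> ring
        _ = -1 / (K : ℂ) * ∑ i : Fin 3, ∑ j : Fin 3,
              ∑ l ∈ L', ev l (a⁻¹ * th D i t * th D j t) := by
            rw [← Finset.mul_sum]
            congr 1
            rw [Finset.sum_congr rfl fun l hl => by rw [horbit l hl t]]
            simp only [Finset.sum_mul, Finset.mul_sum]
            rw [Finset.sum_comm]
            refine Finset.sum_congr rfl fun i _ => ?_
            rw [Finset.sum_comm]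
            exact Finset.sum_congr rfl fun j _ => Finset.sum_congr rfl fun l _ => by
              simp [ev]; ring
        _ = _ := by
            congr 1
            rw [Finset.sum_congr rfl fun i _ => Finset.sum_congr rfl fun j _ => hS _ ?_]
            · simp; norm_num
            intro h
            refine ha ?_
            have hsq : ∀ i : Fin 3, th D i t * th D i t = 1 := fun i => by
              rw [← map_mul, show t * t = 1 from Subtype.ext htG, map_one]
            have e : a = th D i t * th D j t := by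
              rw [mul_assoc] at h
              exact inv_mul_eq_one.1 h
            rw [e, mul_assoc, ← mul_assoc (th D j t), hab (th D j t) (th D i t), mul_assoc,
              hsq, mul_one, hsq]
    rw [e1, e2] at h3
    linear_combination -h3
  have hrel : (1 + x + y) * (x * y + x + y) = 9 * (x * y) := by
    have h : (((1 + x + y) * (x * y + x + y) : ℤ) : ℂ) = ((9 * (x * y) : ℤ) : ℂ) := by
      have hxC : (x : ℂ) ≠ 0 := Int.cast_ne_zero.2 hx0
      have hyC : (y : ℂ) ≠ 0 := Int.cast_ne_zero.2 hy0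
      have hKC : (K : ℂ) ≠ 0 := Int.cast_ne_zero.2 hK0
      have h1 := hmain
      rw [hA] at h1
      field_simp at h1
      have hKe : (K : ℂ) = 1 + (x : ℂ) + y := by simp [hK']
      push_cast
      rw [hKe] at h1
      linear_combination h1
    exact_mod_cast h
  have hxone : x = 1 := eq_one_of_relation (hcong χp cp hcp hpval) (hcong χq cq hcq hqval) hrel
  have hcp1 : cp = 1 := by
    rcases hcp with h | h
    · exact h
    · have := hfpos χp
      rw [hx', h] at hxone
      omega
  have hfp : (χp : G → ℂ) 1 = 1 := by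
    have : f χp = 1 := by rw [hx', hcp1, one_mul] at hxone; exact hxone
    rw [hf, this, Int.cast_one]
  obtain ⟨lam, hlam⟩ := IsCharacter.exists_hom (isCharacter_irr χp) hfp
  refine ⟨lam.ker, inferInstance, fun htop => hp1 ?_, fun s hs => ?_⟩
  · refine Subtype.ext (funext fun g => ?_)
    rw [oneIrr_apply, congrFun hlam g]
    have hg : g ∈ lam.ker := htop ▸ Subgroup.mem_top g
    rw [MonoidHom.mem_ker.1 hg, Units.val_one]
  · rw [MonoidHom.mem_ker]
    rcases eq_or_ne (⟨s, hs⟩ : (P : Subgroup G)) 1 with h | h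
    · rw [show s = 1 from congrArg Subtype.val h, map_one]
    have h1 := hinv χp ⟨s, hs⟩ h
    rw [Finset.sum_congr rfl fun l hl => by rw [hpval l hl, hcp1, Int.cast_one, one_mul],
      hL', Finset.sum_erase_eq_sub (mem_univ _), sum_dual hab h,
      show ev (1 : (P : Subgroup G) →* ℂˣ) ⟨s, hs⟩ = 1 by simp [ev], zero_sub, neg_neg] at h1
    refine Units.ext ?_
    rw [Units.val_one, ← h1]
    exact (congrFun hlam s).symm

end CfsgLib.FTRows.Homocyclic
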