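import Cfsg.Agent.FTRows.PiSep
import Cfsg.Agent.FTRows.HomocyclicCount
import Cfsg.Agent.Fusion.MetacyclicTwo
import Cfsg.Agent.Fusion.InnerCriterion
import Cfsg.Agent.Fusion.GroupSystem
import Cfsg.Agent.Transfer.Frobenius

/-!
Groups with a metacyclic Sylow 2-subgroup having a cyclic quotient of order greater than two by a
cyclic normal subgroup are solvable, relative to the odd order theorem.
-/

set_option autoImplicit false
set_option linter.style.haveILetI false

namespace CfsgLib.FTRows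

open Cfsg Cfsg.FusionSystem CfsgLib.Fusion Subgroup

universe u v

theorem sq_eq_one_of_dsq {X : Type u} [Group X] [Finite X] (h : CfsgLib.TwoMax.DSQ X) {A : Type v}
    [CommGroup A] (f : X →* A) (x : X) : f x ^ 2 = 1 := by
  have key : ∀ {Y : Type} [Group Y] (g : Y →* A) (a b : Y), b * a * b⁻¹ = a⁻¹ → g a ^ 2 = 1 := by
    intro Y _ g a b hab
    have := congrArg g hab
    rw [map_mul, map_mul, map_inv, map_inv, mul_right_comm, mul_inv_cancel, one_mul] at this
    rw [pow_two]
    exact mul_eq_one_iff_eq_inv.2 this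
  rcases h with ⟨k, ⟨e⟩⟩ | ⟨k, hcard, a, b, ha, hb, hab⟩ | ⟨k, ⟨e⟩⟩
  · obtain ⟨y, rfl⟩ := e.symm.surjective x
    cases y with
    | r i =>
      exact key (f.comp e.symm.toMonoidHom) (DihedralGroup.r i) (DihedralGroup.sr 0) (by simp)
    | sr i =>
      rw [← map_pow, ← map_pow,
        show DihedralGroup.sr i ^ 2 = 1 by rw [pow_two, DihedralGroup.sr_mul_self],
        map_one, map_one]
  · have hfa : f a ^ 2 = 1 := by
      have h1 := congrArg f hab
      rw [map_mul, map_mul, map_inv, mul_right_comm, mul_inv_cancel, one_mul, map_pow] at h1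
      have h2 : f a ^ (2 ^ (k + 3)) = 1 := by rw [← map_pow, ← ha, pow_orderOf_eq_one, map_one]
      have h4 : 4 ≤ 2 ^ (k + 2) := by
        calc 4 = 2 ^ 2 := rfl
          _ ≤ _ := Nat.pow_le_pow_right two_pos (by omega)
      have h3 : f a ^ (2 ^ (k + 2) - 2) = 1 := by
        have h5 : f a ^ (2 ^ (k + 2) - 2) * f a = f a := by
          rw [← pow_succ, show 2 ^ (k + 2) - 2 + 1 = 2 ^ (k + 2) - 1 by omega, ← h1]
        exact mul_eq_right.1 h5
      have hg := pow_gcd_eq_one.2 ⟨h2, h3⟩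
      have hdvd : Nat.gcd (2 ^ (k + 3)) (2 ^ (k + 2) - 2) ∣ 2 := by
        have e : 2 ^ (k + 2) - 2 = 2 * (2 ^ (k + 1) - 1) := by
          rw [pow_succ' 2 (k + 1)]; omega
        rw [e, show (2 : ℕ) ^ (k + 3) = 2 * 2 ^ (k + 2) by ring, Nat.gcd_mul_left]
        have : Nat.Coprime (2 ^ (k + 2)) (2 ^ (k + 1) - 1) :=
          Nat.Coprime.pow_left _ (Nat.prime_two.coprime_iff_not_dvd.2 (by
            rw [pow_succ]; omega))
        rw [this, mul_one]
      obtain ⟨c, hc⟩ := hdvd
      rw [hc, pow_mul, hg, one_pow]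
    have hfb : f b ^ 2 = 1 := by rw [← map_pow, ← hb, pow_orderOf_eq_one, map_one]
    have hbn : b ∉ zpowers a := by
      intro hb'
      obtain ⟨i, rfl⟩ := mem_zpowers_iff.1 hb'
      rw [(Commute.zpow_self a i).eq, mul_inv_cancel_right] at hab
      have h4 : 4 ≤ 2 ^ (k + 2) := by
        calc 4 = 2 ^ 2 := rfl
          _ ≤ _ := Nat.pow_le_pow_right two_pos (by omega)
      have := (pow_eq_pow_iff_modEq (x := a) (m := 1) (n := 2 ^ (k + 2) - 1)).1 (by rw [pow_one]; exact hab.symm)
      rw [ha] at this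
      have h8 : 2 ^ (k + 3) = 2 * 2 ^ (k + 2) := by ring
      have := Nat.ModEq.eq_of_lt_of_lt this (by omega) (by omega)
      omega
    have htop : zpowers a ⊔ zpowers b = ⊤ := by
      refine Subgroup.eq_top_of_le_card _ ?_
      have hlt := two_mul_card_le (lt_of_le_of_ne (le_sup_left : zpowers a ≤ zpowers a ⊔ zpowers b)
        fun h => hbn (h.symm ▸ mem_sup_right (mem_zpowers b)))
      rw [Nat.card_zpowers, ha] at hlt
      rw [hcard, pow_succ']
      exact hlt
    have hx : x ∈ zpowers a ⊔ zpowers b := htop.symm ▸ mem_top x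
    have hle : zpowers a ⊔ zpowers b ≤ ((powMonoidHom 2).comp f).ker := by
      rw [sup_le_iff, zpowers_le, zpowers_le]
      exact ⟨hfa, hfb⟩
    exact hle hx
  · obtain ⟨y, rfl⟩ := e.symm.surjective x
    have hn : ∀ i, (f.comp e.symm.toMonoidHom) (QuaternionGroup.a i) ^ 2 = 1 := fun i =>
      key (f.comp e.symm.toMonoidHom) (QuaternionGroup.a i) (QuaternionGroup.xa 0)
        (mul_inv_eq_iff_eq_mul.2 (by
          rw [show (QuaternionGroup.a i)⁻¹ = QuaternionGroup.a (-i) from rfl,
            QuaternionGroup.xa_mul_a, QuaternionGroup.a_mul_xa]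
          simp))
    cases y with
    | a i => exact hn i
    | xa i =>
      show f.comp e.symm.toMonoidHom (QuaternionGroup.xa i) ^ 2 = 1
      rw [← map_pow, pow_two, QuaternionGroup.xa_mul_xa, add_sub_cancel_right]
      have := hn ((2 ^ k : ℕ) : ZMod (2 * 2 ^ (k + 1)))
      rw [← map_pow, pow_two, QuaternionGroup.a_mul_a, ← Nat.cast_add,
        show 2 ^ k + 2 ^ k = 2 ^ (k + 1) by ring] at this
      exact this

variable {G : Type u} [Group G] [Finite G]

theorem isSolvable_of_complement (hFT : OddSolvable.{u}) {P : Sylow 2 G} {K : Subgroup G}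
    (hn : K.Normal) (hK : K.IsComplement' (P : Subgroup G)) : Group.IsSolvable G := by
  haveI := hn
  haveI : Fact (Nat.Prime 2) := ⟨Nat.prime_two⟩
  obtain ⟨k, hk⟩ := IsPGroup.iff_card.1 P.2
  haveI : Group.IsSolvable K := hFT K (by
    rw [← hK.index_eq_card, Nat.odd_iff, ← Nat.two_dvd_ne_zero]
    exact P.not_dvd_index)
  haveI : Group.IsNilpotent (G ⧸ K) :=
    (IsPGroup.of_card (n := k) (by rw [← index_eq_card, hK.symm.index_eq_card]; exact hk)).isNilpotent
  exact Group.isSolvable_of_ker_le_range K.subtype (QuotientGroup.mk' K) (by simp)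

/-- Local control when the automorphisms of the metacyclic Sylow subgroup form a 2-group. -/
theorem centralizes_of_metacyclic (S : Sylow 2 G) (hm : Cfsg.IsMetacyclic (S : Subgroup G))
    (hdsq : ¬ CfsgLib.TwoMax.DSQ (S : Subgroup G)) (hA : IsPGroup 2 (MulAut (S : Subgroup G)))
    {Q : Subgroup G} (hQ : Q ≤ S) {g : G} (hg : g ∈ normalizer (Q : Set G))
    (ho : (orderOf g).Coprime 2) : g ∈ centralizer (Q : Set G) := by
  haveI : Fact (Nat.Prime 2) := ⟨Nat.prime_two⟩
  have hF := groupFusion_saturated (p := 2) S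
  set F := groupFusionSystem (S : Subgroup G)
  have hn : F.IsNormal S := isNormal_of_metacyclic_two S.2 hF stronglyClosed_self hm hdsq
  let φ : Q →* G := (MulAut.conj g).toMonoidHom.comp Q.subtype
  have hφ : φ ∈ F.Hom Q :=
    ⟨hQ, fun x => hQ ((mem_normalizer_iff.1 hg x).1 x.2), g, fun x => rfl⟩
  obtain ⟨ψ, hψ, he, hm'⟩ := hn.2 Q φ hφ
  let β := ψ.comp (Subgroup.inclusion (le_sup_right : (S : Subgroup G) ≤ Q ⊔ S))
  have hβ : β ∈ F.Hom S := restrict_mem hψ le_sup_right
  have hβr : β.range = S := (range_restrict ψ le_sup_right).trans hm'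
  obtain ⟨s, hs, hsx⟩ := aut_S_inner 2 S.2 hF (hA.to_subgroup _) (autOfRange_mem hβ hβr)
  have hc : ∀ x ∈ Q, g * x * g⁻¹ = s * x * s⁻¹ := fun x hx => by
    have h1 := hsx ⟨x, hQ hx⟩
    rw [coe_autOfRange] at h1
    rw [← h1]
    exact (he ⟨x, hx⟩).symm.trans (apply_congr ψ rfl)
  have hsN : s ∈ normalizer (Q : Set G) := by
    have h : g⁻¹ * s ∈ centralizer (Q : Set G) := mem_centralizer_iff.2 fun x hx => by
      have := hc x hx
      calc x * (g⁻¹ * s) = g⁻¹ * (g * x * g⁻¹) * s := by group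
        _ = g⁻¹ * s * x := by rw [this]; group
    have := mul_mem hg (centralizer_le_normalizer _ h)
    rwa [mul_inv_cancel_left] at this
  have heq : normalizerMonoidHom Q ⟨g, hg⟩ = normalizerMonoidHom Q ⟨s, hsN⟩ :=
    MulEquiv.ext fun x => Subtype.ext (hc x x.2)
  obtain ⟨j, hj⟩ := IsPGroup.iff_orderOf.1 S.2 ⟨s, hs⟩
  rw [orderOf_mk] at hj
  have h1 : orderOf (normalizerMonoidHom Q ⟨g, hg⟩) ∣ orderOf g := by
    refine (orderOf_map_dvd _ _).trans ?_
    rw [orderOf_mk]
  have h2 : orderOf (normalizerMonoidHom Q ⟨g, hg⟩) ∣ 2 ^ j := by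
    rw [heq, ← hj]
    refine (orderOf_map_dvd _ _).trans ?_
    rw [orderOf_mk]
  have h3 : (⟨g, hg⟩ : normalizer (Q : Set G)) ∈ (normalizerMonoidHom Q).ker :=
    orderOf_eq_one_iff.1 (Nat.eq_one_of_dvd_coprimes (ho.pow_right j) h1 h2)
  rwa [normalizerMonoidHom_ker, mem_subgroupOf] at h3

/-- A normal 2-complement when the automorphisms of the metacyclic Sylow subgroup form a
2-group. -/
theorem hasNormalPComplement_of_metacyclic (S : Sylow 2 G)
    (hm : Cfsg.IsMetacyclic (S : Subgroup G)) (hdsq : ¬ CfsgLib.TwoMax.DSQ (S : Subgroup G))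
    (hA : IsPGroup 2 (MulAut (S : Subgroup G))) : Cfsg.HasNormalPComplement 2 G := by
  haveI : Fact (Nat.Prime 2) := ⟨Nat.prime_two⟩
  refine hasNormalPComplement_of_localCondition fun Q hQ g hg ho => ?_
  obtain ⟨P, hQP⟩ := hQ.exists_le_sylow
  obtain ⟨y, hy⟩ := MulAction.exists_smul_eq G P S
  have hQ' : Q.map (MulAut.conj y).toMonoidHom ≤ (S : Subgroup G) := by
    rintro _ ⟨x, hx, rfl⟩
    rw [← hy]
    exact ⟨x, hQP hx, rfl⟩
  have hg' : y * g * y⁻¹ ∈ normalizer (Q.map (MulAut.conj y).toMonoidHom : Set G) := by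
    rw [Subgroup.coe_map]
    exact Subgroup.le_normalizer_map (MulAut.conj y).toMonoidHom ⟨g, hg, rfl⟩
  have h := centralizes_of_metacyclic S hm hdsq hA hQ' hg'
    (by rwa [show orderOf (y * g * y⁻¹) = orderOf g from (MulAut.conj y).orderOf_eq g])
  refine mem_centralizer_iff.2 fun x hx => ?_
  have h' := mem_centralizer_iff.1 h _ (mem_map_of_mem (MulAut.conj y).toMonoidHom hx)
  exact (MulAut.conj y).injective (by simp only [map_mul]; exact h')

/-- Homocyclic Sylow 2-subgroup of rank two and exponent at least four. -/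
theorem isSolvable_of_homocyclic (hFT : OddSolvable.{u}) {n : ℕ} (hn : 2 ≤ n) : ∀ (m : ℕ)
    (G : Type u) [Group G] [Finite G] (P : Sylow 2 G),
    Nat.card G ≤ m → Nonempty ((P : Subgroup G) ≃* Multiplicative (ZMod (2 ^ n) × ZMod (2 ^ n))) →
      Group.IsSolvable G := by
  intro m
  induction m with
  | zero => intro G _ _ P h _; exact absurd h (by have := Nat.card_pos (α := G); omega)
  | succ m ih =>
    intro G _ _ P hle ⟨e⟩
    haveI : Fact (Nat.Prime 2) := ⟨Nat.prime_two⟩
    have hS := HomocyclicTwo.setup_of_equiv P (le_trans one_le_two hn) e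
    rcases HomocyclicTwo.relIndex_one_or_three hS with h1 | h3
    · exact isSolvable_of_complement hFT (MonoidHom.normal_ker _)
        (MonoidHom.ker_transferSylow_isComplement' P (relIndex_eq_one.1 h1))
    obtain ⟨x, hx, hxC⟩ := SetLike.not_le_iff_exists.1 (fun hle' => by
      rw [relIndex_eq_one.2 hle'] at h3; omega :
      ¬ normalizer ((P : Subgroup G) : Set G) ≤ centralizer ((P : Subgroup G) : Set G))
    have D : Homocyclic.Data P x :=
      { comm := hS.comm
        mem := hx
        cube := h3 ▸ HomocyclicTwo.pow_mem_centralizer hS hx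
        rel := h3
        fpf := fun s hs hfix => by_contra fun hs1 => hxC
          (HomocyclicTwo.mem_centralizer_of_centralizes hS hs hs1 hx
            (mul_inv_eq_iff_eq_mul.1 hfix)) }
    have hcard : Nat.card (P : Subgroup G) = 2 ^ n * 2 ^ n := by
      rw [Nat.card_congr e.toEquiv, Nat.card_congr Multiplicative.toAdd, Nat.card_prod,
        Nat.card_zmod]
    have h16 : 16 ∣ Nat.card (P : Subgroup G) := by
      rw [hcard, ← pow_add]
      exact (pow_dvd_pow 2 (show 4 ≤ n + n by omega))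
    have ha : e.symm (Multiplicative.ofAdd (1, 1)) * e.symm (Multiplicative.ofAdd (1, 1)) ≠ 1 := by
      intro h
      rw [← map_mul, MulEquiv.map_eq_one_iff, ← ofAdd_add, ofAdd_eq_one] at h
      have h2 : ((2 : ℕ) : ZMod (2 ^ n)) = 0 := by
        have := congrArg Prod.fst h
        simpa [one_add_one_eq_two] using this
      rw [ZMod.natCast_eq_zero_iff] at h2
      have := Nat.le_of_dvd two_pos h2
      have : 4 ≤ 2 ^ n := (show 4 = 2 ^ 2 from rfl) ▸ Nat.pow_le_pow_right two_pos hn
      omega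
    obtain ⟨t, ht⟩ := exists_prime_orderOf_dvd_card' (G := (P : Subgroup G)) 2
      ((by norm_num : 2 ∣ 16).trans h16)
    obtain ⟨K, hKn, hKtop, hPK⟩ := Homocyclic.exists_normal D h16 _ ha t ht
    haveI := hKn
    have hlt : Nat.card K < Nat.card G := by
      refine lt_of_le_of_ne (Nat.card_le_card_of_injective _ K.subtype_injective) fun h => hKtop ?_
      exact Subgroup.eq_top_of_card_eq K h
    haveI : Group.IsSolvable K := ih K (P.subtype hPK) (by omega)
      ⟨(subgroupOfEquivOfLe hPK).trans e⟩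
    haveI : Group.IsSolvable (G ⧸ K) := hFT (G ⧸ K) (by
      rw [← index_eq_card, Nat.odd_iff, ← Nat.two_dvd_ne_zero]
      exact fun h => P.not_dvd_index (h.trans (index_dvd_of_le hPK)))
    exact Group.isSolvable_of_ker_le_range K.subtype (QuotientGroup.mk' K) (by simp)

/-- S4418 relative to the odd order theorem. -/
theorem metacyclic_solvable (hFT : OddSolvable.{u}) (S : Sylow 2 G)
    (N : Subgroup (S : Subgroup G)) [hN : N.Normal] (hNc : IsCyclic N)
    (hQc : IsCyclic ((S : Subgroup G) ⧸ N)) (hQ : 2 < Nat.card ((S : Subgroup G) ⧸ N)) :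
    Group.IsSolvable G := by
  haveI : Fact (Nat.Prime 2) := ⟨Nat.prime_two⟩
  have hm : Cfsg.IsMetacyclic (S : Subgroup G) := ⟨N, hN, hNc, hQc⟩
  -- a generator of the quotient has order greater than two
  have hbig : ¬ ∀ q : (S : Subgroup G) ⧸ N, q ^ 2 = 1 := by
    intro h
    obtain ⟨q, hq⟩ := IsCyclic.exists_ofOrder_eq_natCard (α := (S : Subgroup G) ⧸ N)
    have h2 := orderOf_dvd_of_pow_eq_one (h q)
    rw [hq] at h2
    have := Nat.le_of_dvd two_pos h2
    omega
  letI : CommGroup ((S : Subgroup G) ⧸ N) := IsCyclic.commGroup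
  have hdsq : ¬ CfsgLib.TwoMax.DSQ (S : Subgroup G) := fun h => hbig fun q => by
    obtain ⟨y, rfl⟩ := QuotientGroup.mk'_surjective N q
    exact sq_eq_one_of_dsq h (QuotientGroup.mk' N) y
  by_cases hA : IsPGroup 2 (MulAut (S : Subgroup G))
  · obtain ⟨P, K, hK, hc⟩ := hasNormalPComplement_of_metacyclic S hm hdsq hA
    exact isSolvable_of_complement hFT hK hc
  rcases CfsgLib.MetacyclicAut.quaternion_or_homocyclic S.2 hm hA with ⟨⟨e⟩⟩ | ⟨n, ⟨e⟩⟩
  · exact absurd (Or.inr (Or.inr ⟨0, ⟨e⟩⟩)) hdsq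
  have hn : 2 ≤ n := by
    by_contra hn
    refine hbig fun q => ?_
    obtain ⟨y, rfl⟩ := QuotientGroup.mk'_surjective N q
    have hy : y ^ 2 = 1 := e.injective (by
      rw [map_pow, map_one]
      have hz : ∀ c : Multiplicative (ZMod (2 ^ n)), c ^ 2 = 1 := fun c => by
        have h := pow_card_eq_one' (x := c)
        rw [Nat.card_congr Multiplicative.toAdd, Nat.card_zmod] at h
        obtain ⟨j, hj⟩ : 2 ^ n ∣ 2 :=
          (pow_dvd_pow 2 (by omega : n ≤ 1)).trans (pow_one 2).dvd
        calc c ^ 2 = c ^ (2 ^ n * j) := congrArg (c ^ ·) hj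
          _ = 1 := by rw [pow_mul, h, one_pow]
      exact Prod.ext (hz _) (hz _))
    rw [← map_pow, hy, map_one]
  exact isSolvable_of_homocyclic hFT hn _ G S le_rfl
    ⟨e.trans (MulEquiv.prodMultiplicative _ _).symm⟩

end CfsgLib.FTRows
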