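import Cfsg.Agent.FTRows.OutSylowGen
import Mathlib.LinearAlgebra.FiniteDimensional.Basic

/-!
Cases (a) and (b): two or three generators of the Sylow 2-subgroup.
-/

set_option autoImplicit false
set_option linter.unusedSectionVars false
set_option linter.style.haveILetI false

universe u

namespace CfsgLib.FTRows.OutSylow

open Subgroup

theorem card_mulAut_eight {Q : Type u} [Group Q] [Finite Q] (hsq : ∀ x : Q, x ^ 2 = 1)
    (hQ : Nat.card Q = 8) : Nat.card (MulAut Q) ∣ 168 := by
  classical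
  have hcomm : ∀ x y : Q, x * y = y * x := fun x y => by
    have hx := hsq x; have hy := hsq y; have hxy := hsq (x * y)
    rw [sq] at hx hy hxy
    have e1 := inv_eq_of_mul_eq_one_right hxy
    rw [mul_inv_rev, inv_eq_of_mul_eq_one_right hx, inv_eq_of_mul_eq_one_right hy] at e1
    exact e1.symm
  letI : CommGroup Q := { (inferInstance : Group Q) with mul_comm := hcomm }
  haveI : Fact (Nat.Prime 2) := ⟨Nat.prime_two⟩
  haveI : Module (ZMod 2) (Additive Q) := AddCommGroup.zmodModule fun v => by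
    apply Additive.toMul.injective
    rw [toMul_nsmul, toMul_zero]
    exact hsq v.toMul
  haveI : Fintype Q := Fintype.ofFinite Q
  have hdim : Module.finrank (ZMod 2) (Additive Q) = 3 := by
    have h := Module.card_eq_pow_finrank (K := ZMod 2) (V := Additive Q)
    rw [ZMod.card, show Fintype.card (Additive Q) = 8 by
      rw [← Nat.card_eq_fintype_card, ← hQ]; exact Nat.card_congr Additive.toMul] at h
    exact Nat.pow_right_injective le_rfl (show 2 ^ _ = 2 ^ 3 by rw [← h])
  let b := Module.finBasisOfFinrankEq (ZMod 2) (Additive Q) hdim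
  let j : MulAut Q →* (Additive Q →ₗ[ZMod 2] Additive Q) :=
    { toFun := fun φ => (MonoidHom.toAdditive φ.toMonoidHom).toZModLinearMap 2
      map_one' := LinearMap.ext fun v => rfl
      map_mul' := fun φ ψ => LinearMap.ext fun v => rfl }
  have hj : Function.Injective j.toHomUnits := fun φ ψ h => MulEquiv.ext fun x => by
    have h1 := congrArg (fun u : (Additive Q →ₗ[ZMod 2] Additive Q)ˣ =>
      (u : Additive Q →ₗ[ZMod 2] Additive Q) (Additive.ofMul x)) h
    exact congrArg Additive.toMul h1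
  have hd := Subgroup.card_dvd_of_injective _ hj
  rwa [Nat.card_congr (Units.mapEquiv (LinearMap.toMatrixAlgEquiv b).toMulEquiv).toEquiv,
    show Nat.card (Matrix (Fin 3) (Fin 3) (ZMod 2))ˣ = 168 from by
      rw [show (Matrix (Fin 3) (Fin 3) (ZMod 2))ˣ = GL (Fin 3) (ZMod 2) from rfl, Matrix.card_GL_field]
      simp [Fin.prod_univ_three, ZMod.card]] at hd

theorem isSolvable_of_normal_odd (hFT : OddSolvable.{u}) {Q : Type u} [Group Q] [Finite Q]
    (hsq : ∀ x : Q, x ^ 2 = 1) (hQ : Nat.card Q ≤ 8) (Y B : Subgroup (MulAut Q)) (hBY : B ≤ Y)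
    (hn : (B.subgroupOf Y).Normal) (hB : Odd (Nat.card B)) (hB1 : B ≠ ⊥) :
    Group.IsSolvable Y := by
  haveI := hn
  by_cases h4 : Nat.card Q ≤ 4
  · haveI := isSolvable_mulAut_small h4
    exact Group.isSolvable_of_isSolvable_injective (Subgroup.subtype_injective Y)
  have hQ8 : Nat.card Q = 8 := by
    haveI : Fact (Nat.Prime 2) := ⟨Nat.prime_two⟩
    obtain ⟨n, hn'⟩ := IsPGroup.iff_card.1 (fun x : Q => ⟨1, by rw [pow_one]; exact hsq x⟩ : IsPGroup 2 Q)
    have hn3 : n ≤ 3 := by
      by_contra h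
      have := Nat.pow_le_pow_right (show 1 ≤ 2 by norm_num) (show 4 ≤ n by omega)
      omega
    interval_cases n <;> omega
  have hY : Nat.card Y ∣ 168 :=
    (Subgroup.card_subgroup_dvd_card Y).trans (card_mulAut_eight hsq hQ8)
  set B' := B.subgroupOf Y with hB'
  have hBc : Nat.card B' = Nat.card B := Nat.card_congr (Subgroup.subgroupOfEquivOfLe hBY).toEquiv
  haveI : Group.IsSolvable B' := hFT B' (hBc ▸ hB)
  have hprod : Nat.card (Y ⧸ B') * Nat.card B ∣ 168 := by
    rw [← hBc, ← Subgroup.card_eq_card_quotient_mul_card_subgroup]; exact hY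
  have hB21 : Nat.card B ∣ 21 := by
    have h1 : Nat.card B ∣ 2 ^ 3 * 21 := (Dvd.intro_left _ rfl).trans hprod
    exact (Nat.Coprime.pow_right 3 (Nat.coprime_two_right.2 hB)).dvd_of_dvd_mul_left h1
  have hne : Nat.card B ≠ 1 := fun h => hB1 (Subgroup.card_eq_one.1 h)
  haveI : Group.IsSolvable (Y ⧸ B') := by
    have h21 : Nat.card B = 3 ∨ Nat.card B = 7 ∨ Nat.card B = 21 := by
      have := Nat.le_of_dvd (by norm_num) hB21
      interval_cases h : Nat.card B <;> simp_all
    rcases h21 with h | h | h <;> rw [h] at hprod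
    · exact CfsgLib.RadFree.isSolvable_of_dvd_two 2 7 3 1 Nat.prime_two (by norm_num)
        (Nat.dvd_of_mul_dvd_mul_right (show 0 < 3 by norm_num) (hprod.trans (by norm_num)))
    · exact CfsgLib.RadFree.isSolvable_of_dvd_two 2 3 3 1 Nat.prime_two Nat.prime_three
        (Nat.dvd_of_mul_dvd_mul_right (show 0 < 7 by norm_num) (hprod.trans (by norm_num)))
    · exact CfsgLib.RadFree.isSolvable_of_dvd_two 2 3 3 0 Nat.prime_two Nat.prime_three
        (Nat.dvd_of_mul_dvd_mul_right (show 0 < 21 by norm_num) (hprod.trans (by norm_num)))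
  exact Group.isSolvable_of_ker_le_range B'.subtype (QuotientGroup.mk' B')
    (by rw [QuotientGroup.ker_mk', Subgroup.range_subtype])

variable {G : Type u} [Group G] [Finite G]

theorem out_solvable_two_gen (hFT : OddSolvable.{u}) [IsSimpleGroup G] (hG : ¬ IsMulCommutative G)
    (S : Sylow 2 G) (hS1 : (S : Subgroup G) ≠ ⊥)
    (h : ∃ a b : ↥S, Subgroup.closure ({a, b} : Set ↥S) = ⊤) : Group.IsSolvable (Cfsg.Out G) := by
  obtain ⟨a, b, hab⟩ := h
  refine out_solvable hFT hG S hS1 (isSolvable_range_of_frat S.isPGroup' _ ?_)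
  haveI := isSolvable_mulAut_small ((card_quot_le S.isPGroup').1 a b hab)
  exact Group.isSolvable_of_isSolvable_injective (Subgroup.subtype_injective _)

theorem out_solvable_three_gen (hFT : OddSolvable.{u}) [IsSimpleGroup G] (hG : ¬ IsMulCommutative G)
    (S : Sylow 2 G) (hS1 : (S : Subgroup G) ≠ ⊥)
    (h : ∃ a b c : ↥S, Subgroup.closure ({a, b, c} : Set ↥S) = ⊤)
    (hN : ∃ g ∈ Subgroup.normalizer ((S : Subgroup G) : Set G), Odd (orderOf g) ∧
      g ∉ Subgroup.centralizer ((S : Subgroup G) : Set G)) : Group.IsSolvable (Cfsg.Out G) := by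
  classical
  haveI : Fact (Nat.Prime 2) := ⟨Nat.prime_two⟩
  obtain ⟨a, b, c, habc⟩ := h
  set H : Subgroup G := (S : Subgroup G) with hHdef
  let N := Subgroup.normalizer (H : Set G)
  let c0 : N →* stab H := MonoidHom.codRestrict ((MulAut.conj : G →* MulAut G).comp N.subtype) _
    fun g x => (Subgroup.mem_normalizer_iff.1 g.2 x).symm
  let w : N →* MulAut (H ⧸ frattini H) := ((fratAct H).comp (res H)).comp c0
  have hrange : w.range ≤ (res H).range.map (fratAct H) := by
    rintro x ⟨g, rfl⟩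
    exact ⟨res H (c0 g), ⟨_, rfl⟩, rfl⟩
  refine out_solvable hFT hG S hS1 (isSolvable_range_of_frat S.isPGroup' _ ?_)
  refine isSolvable_of_normal_odd hFT (sq_eq_one_quot S.isPGroup')
    ((card_quot_le S.isPGroup').2 a b c habc) _ w.range hrange ?_ ?_ ?_
  · refine ⟨fun y hy z => ?_⟩
    obtain ⟨g, hg⟩ := (Subgroup.mem_subgroupOf.1 hy : ((y : MulAut (H ⧸ frattini H)) ∈ w.range))
    obtain ⟨_, ⟨φ, rfl⟩, hz⟩ := z.2
    have hm : (φ : MulAut G) g ∈ N := by
      refine Subgroup.mem_normalizer_iff.2 fun x => ?_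
      have hx := fun t => φ.2 t
      obtain ⟨x, rfl⟩ := (φ : MulAut G).surjective x
      rw [← map_inv, ← map_mul, ← map_mul, hx, hx]
      exact Subgroup.mem_normalizer_iff.1 g.2 x
    refine Subgroup.mem_subgroupOf.2 ⟨⟨_, hm⟩, ?_⟩
    push_cast
    rw [← hz, ← hg]
    show (fratAct H) (res H (c0 ⟨_, hm⟩)) = _
    have he : c0 ⟨_, hm⟩ = φ * c0 g * φ⁻¹ := by
      refine Subtype.ext (MulEquiv.ext fun x => ?_)
      show (φ : MulAut G) g * x * ((φ : MulAut G) g)⁻¹ =
        (φ : MulAut G) ((g : G) * (φ : MulAut G)⁻¹ x * (g : G)⁻¹)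
      rw [map_mul, map_mul, map_inv, MulAut.apply_inv_self]
    rw [he, map_mul, map_mul, map_inv, map_mul, map_mul, map_inv]
    rfl
  · rw [← Nat.not_even_iff_odd, even_iff_two_dvd]
    intro h2
    -- the inner automorphisms from `S` act trivially on the quotient
    have hker : (H.subgroupOf N) ≤ w.ker := by
      intro s hs
      rw [MonoidHom.mem_ker]
      refine MulEquiv.ext fun x => ?_
      obtain ⟨y, rfl⟩ := QuotientGroup.mk'_surjective (frattini H) x
      have hs' : (s : G) ∈ H := Subgroup.mem_subgroupOf.1 hs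
      show ((res H (c0 s) y : H) : H ⧸ frattini H) = (y : H ⧸ frattini H)
      rw [show res H (c0 s) y = ⟨(s : G), hs'⟩ * y * ⟨(s : G), hs'⟩⁻¹ from Subtype.ext rfl,
        QuotientGroup.mk_mul, QuotientGroup.mk_mul, QuotientGroup.mk_inv]
      have hsq := sq_eq_one_quot (S := H) S.isPGroup'
      set u : H ⧸ frattini H := ((⟨(s : G), hs'⟩ : H) : H ⧸ frattini H)
      set v : H ⧸ frattini H := (y : H ⧸ frattini H)
      have hu := hsq u; have hv := hsq v; have huv := hsq (u * v)
      rw [sq] at hu hv huv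
      have e1 := inv_eq_of_mul_eq_one_right huv
      rw [mul_inv_rev, inv_eq_of_mul_eq_one_right hu, inv_eq_of_mul_eq_one_right hv] at e1
      rw [← e1, mul_inv_cancel_right]
    have hd : Nat.card w.range ∣ (H.subgroupOf N).index := by
      rw [← Subgroup.index_ker]
      exact Subgroup.index_dvd_of_le hker
    have hle : H ≤ N := Subgroup.le_normalizer
    exact (Sylow.subtype S hle).not_dvd_index (h2.trans hd)
  · obtain ⟨g, hgN, hodd, hgc⟩ := hN
    intro hbot
    apply hgc
    have h1 : w ⟨g, hgN⟩ = 1 := by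
      have : w ⟨g, hgN⟩ ∈ w.range := ⟨_, rfl⟩
      rwa [hbot, Subgroup.mem_bot] at this
    obtain ⟨k, hk⟩ := isPGroup_ker_fratAct S.isPGroup' ⟨res H (c0 ⟨g, hgN⟩), h1⟩
    have hk' : res H (c0 ⟨g, hgN⟩) ^ 2 ^ k = 1 := congrArg Subtype.val hk
    have ho : res H (c0 ⟨g, hgN⟩) ^ orderOf g = 1 := by
      rw [← map_pow, ← map_pow, show (⟨g, hgN⟩ : N) ^ orderOf g = 1 from
        Subtype.ext (by rw [SubmonoidClass.coe_pow, pow_orderOf_eq_one]; rfl), map_one, map_one]
    have hres : res H (c0 ⟨g, hgN⟩) = 1 := by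
      have : res H (c0 ⟨g, hgN⟩) ^ (2 ^ k).gcd (orderOf g) = 1 := pow_gcd_eq_one.2 ⟨hk', ho⟩
      have h1 : (2 ^ k).gcd (orderOf g) = 1 := Nat.Coprime.pow_left k (Nat.coprime_two_left.2 hodd)
      rw [h1, pow_one] at this
      exact this
    refine Subgroup.mem_centralizer_iff.2 fun x hx => ?_
    have := congrArg Subtype.val (DFunLike.congr_fun hres ⟨x, hx⟩)
    exact (mul_inv_eq_iff_eq_mul.1 this).symm

end CfsgLib.FTRows.OutSylow
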