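import Cfsg.Agent.S1238
import Cfsg.Agent.FTRows.MetacyclicSol
import Cfsg.Agent.OddDep.KleinFour
import Cfsg.Agent.Invol.IsolatedApps

/-!
Sylow 2-subgroups of simple groups of 2-rank at most two, relative to the solvability of groups of
odd order.
-/

set_option autoImplicit false

universe u v

namespace CfsgLib.FTRows

theorem simple_two_rank_two (hFT : OddSolvable.{u}) {G : Type u} [Group G] [Finite G]
    [IsSimpleGroup G] (hG : ¬ IsMulCommutative G) (h2 : Cfsg.PRankLE 2 2 G) (S : Sylow 2 G)
    {F : Type v} [Field F] [Fintype F] (hF : Fintype.card F = 16)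
    (P : Sylow 2 (Cfsg.PSU 3 F 4)) :
    (∃ n : ℕ, 2 ≤ n ∧ Nonempty ((S : Subgroup G) ≃* DihedralGroup n)) ∨
      Cfsg.IsQuasiDihedral (S : Subgroup G) ∨ Cfsg.IsWreathed (S : Subgroup G) ∨
        Nonempty ((S : Subgroup G) ≃* (P : Subgroup (Cfsg.PSU 3 F 4))) := by
  have hns : ¬ Group.IsSolvable G := fun h => hG ⟨⟨fun a b => IsSimpleGroup.comm_iff_isSolvable.2 h a b⟩⟩
  have hcyc : ¬ IsCyclic G := fun h => hG (by
    letI : CommGroup G := h.commGroup
    exact ⟨⟨fun a b => mul_comm a b⟩⟩)
  have heven : ¬ Odd (Nat.card G) := fun ho => hns (hFT G ho)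
  have h1 : ¬ Cfsg.PRankLE 2 1 G := by
    obtain ⟨E, hE⟩ := CfsgLib.OddDep.exists_klein_of_simple (fun ho => hFT G ho) hcyc
    intro h
    have h4 := h E IsKleinFour.isMulCommutative fun a ha => by
      have := IsKleinFour.mul_self (⟨a, ha⟩ : E)
      rw [sq]
      exact congrArg Subtype.val this
    rw [IsKleinFour.card_four] at h4
    norm_num at h4
  have hidx : ∀ H : Subgroup G, H.index ≠ 2 := by
    intro H hH
    haveI := Subgroup.normal_of_index_eq_two hH
    rcases IsSimpleGroup.eq_bot_or_eq_top_of_normal H inferInstance with h | h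
    · rw [h, Subgroup.index_bot] at hH
      haveI : Fact (Nat.Prime 2) := ⟨Nat.prime_two⟩
      exact hcyc (isCyclic_of_prime_card hH)
    · rw [h, Subgroup.index_top] at hH; omega
  have hiso : ∀ z : G, ¬ Cfsg.IsIsolatedInvolution z := by
    intro z hz
    obtain ⟨N, hN, hodd, hc⟩ := CfsgLib.ZStar.zstar hz
    have hNbot : N = ⊥ := by
      rcases hN.eq_bot_or_eq_top with h | h
      · exact h
      · rw [h, Subgroup.card_top] at hodd
        exact absurd hodd heven
    have hzc : z ∈ Subgroup.center G := Subgroup.mem_center_iff.2 fun g => by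
      have h := hc g
      rw [hNbot, Subgroup.mem_bot, mul_inv_eq_one, mul_inv_eq_iff_eq_mul] at h
      exact h.symm
    rcases (inferInstance : (Subgroup.center G).Normal).eq_bot_or_eq_top with h | h
    · rw [h, Subgroup.mem_bot] at hzc
      have := hz.1
      rw [hzc, orderOf_one] at this
      omega
    · exact hG ⟨⟨fun a b => Subgroup.mem_center_iff.1 (h ▸ Subgroup.mem_top b) a⟩⟩
  rcases Cfsg.Agent.S1238.result h2 h1 hidx hiso S hF P with h | h | h | ⟨n, hn, h⟩ | h
  · exact Or.inl h
  · exact Or.inr (Or.inl h)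
  · exact Or.inr (Or.inr (Or.inl h))
  · exact absurd (isSolvable_of_homocyclic hFT hn _ G S le_rfl h) hns
  · exact Or.inr (Or.inr (Or.inr h))

end CfsgLib.FTRows
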