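import Cfsg.Agent.FTRows.PiSep
import Cfsg.Agent.Invol.IsolatedApps

/-!
Automorphisms centralising a Sylow 2-subgroup (Glauberman): abelian Sylow 2-subgroups with normal
complements; solvability relative to solvability of groups of odd order.
-/

set_option autoImplicit false
set_option linter.unusedSectionVars false

universe u

namespace CfsgLib.FTRows.AutSylow

open Subgroup

variable {H : Type u} [Group H] [Finite H]

theorem exists_conj_of_le {K W : Subgroup H} (P : Sylow 2 H) (hPK : (P : Subgroup H) ≤ K)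
    (hWK : W ≤ K) (hW : IsPGroup 2 W) :
    ∃ c ∈ K, ∀ w ∈ W, c * w * c⁻¹ ∈ (P : Subgroup H) := by
  haveI : Fact (Nat.Prime 2) := ⟨Nat.prime_two⟩
  obtain ⟨R, hR⟩ := (hW.comap_subtype (K := K)).exists_le_sylow
  obtain ⟨c, hc⟩ := MulAction.exists_smul_eq K R (P.subtype hPK)
  refine ⟨(c : H), c.2, fun w hw => ?_⟩
  have h1 : c * (⟨w, hWK hw⟩ : K) * c⁻¹ ∈ ((c • R : Sylow 2 K) : Subgroup K) := by
    rw [Sylow.coe_subgroup_smul]
    exact ⟨_, hR (Subgroup.mem_subgroupOf.2 hw), rfl⟩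
  rw [hc] at h1
  exact h1

/-- The configuration: `P = S × T` with `S = P ∩ N`, `N` normal, `T` a complement of `N`. -/
structure Cfg (N T : Subgroup H) (P : Sylow 2 H) : Prop where
  le : T ≤ (P : Subgroup H)
  disj : T ⊓ N = ⊥
  dec : ∀ h : H, ∃ q ∈ T, ∃ n ∈ N, h = q * n
  cent : ∀ s ∈ (P : Subgroup H) ⊓ N, ∀ q ∈ T, s * q = q * s

variable {N T : Subgroup H} [N.Normal] {P : Sylow 2 H}

theorem Cfg.split (hc : Cfg N T P) {p : H} (hp : p ∈ (P : Subgroup H)) :
    ∃ a ∈ (P : Subgroup H) ⊓ N, ∃ q ∈ T, p = a * q := by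
  obtain ⟨q, hq, n, hn, e⟩ := hc.dec p
  have hnP : n ∈ (P : Subgroup H) ⊓ N := Subgroup.mem_inf.2 ⟨by
    have := mul_mem (inv_mem (hc.le hq)) hp
    rwa [e, inv_mul_cancel_left] at this, hn⟩
  exact ⟨n, hnP, q, hq, by rw [e, hc.cent n hnP q hq]⟩

/-- Moving a 2-subgroup into `P` by an element of `N`. -/
theorem Cfg.conjInto (hc : Cfg N T P) {W : Subgroup H} (hW : IsPGroup 2 W) :
    ∃ y ∈ N, ∀ w ∈ W, y * w * y⁻¹ ∈ (P : Subgroup H) := by
  obtain ⟨h, -, hh⟩ := exists_conj_of_le P le_top le_top hW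
  obtain ⟨q, hq, n, hn, rfl⟩ := hc.dec h
  refine ⟨n, hn, fun w hw => ?_⟩
  have := mul_mem (mul_mem (inv_mem (hc.le hq)) (hh w hw)) (hc.le hq)
  rwa [show q⁻¹ * (q * n * w * (q * n)⁻¹) * q = n * w * n⁻¹ by group] at this

/-- With a complement `M` of odd order containing all elements of odd order, the commutator of an
element with `τ` centralising `Q` lies in `M`. -/
theorem comm_mem_compl {K : Subgroup H} {M Q : Subgroup K} (hMQ : Subgroup.IsComplement' M Q)
    (hMo : Odd (Nat.card M)) (hMmem : ∀ a : K, Odd (orderOf a) → a ∈ M) {τ : H}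
    (hτK : ∀ a ∈ K, τ * a * τ⁻¹ ∈ K) (hτQ : ∀ z ∈ Q, (z : H) * τ * (z : H)⁻¹ = τ)
    {w : H} (hw : w ∈ K) : ∃ k : K, k ∈ M ∧ (k : H) = w * τ * w⁻¹ * τ⁻¹ := by
  obtain ⟨⟨⟨k, hkM⟩, ⟨z, hzQ⟩⟩, hkz⟩ := hMQ.2 ⟨w, hw⟩
  have hkz' : (k : H) * (z : H) = w := congrArg Subtype.val hkz
  have hko : Odd (orderOf (k : H)) := by
    rw [Subgroup.orderOf_coe]
    exact hMo.of_dvd_nat (Subgroup.orderOf_mk k hkM ▸ orderOf_dvd_natCard (⟨k, hkM⟩ : M))
  have hk2 : (⟨τ * (k : H)⁻¹ * τ⁻¹, hτK _ (inv_mem k.2)⟩ : K) ∈ M := hMmem _ (by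
    rw [← Subgroup.orderOf_coe, CfsgLib.Invol.orderOf_conj_eq, orderOf_inv]
    exact hko)
  refine ⟨k * ⟨_, hτK _ (inv_mem k.2)⟩, mul_mem hkM hk2, ?_⟩
  rw [← hkz']
  calc (k : H) * (τ * (k : H)⁻¹ * τ⁻¹)
      = (k : H) * ((z : H) * τ * (z : H)⁻¹) * (k : H)⁻¹ * τ⁻¹ := by rw [hτQ z hzQ]; group
    _ = _ := by group

/-- An involution `b` of `T ∩ Z(P)` which is `γ(q)q⁻¹` for some automorphism `γ` fixing `S`
pointwise and normalising `N` and `T` is isolated. -/
theorem Cfg.isolated (hc : Cfg N T P) {b q : H} (hb : orderOf b = 2) (hbT : b ∈ T)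
    (hbc : ∀ t ∈ T, t * b = b * t) (hq : q ∈ T) (γ : MulAut H)
    (hγS : ∀ s ∈ (P : Subgroup H) ⊓ N, γ s = s) (hγN : ∀ n ∈ N, γ n ∈ N)
    (hγq : γ q = b * q) : Cfsg.IsIsolatedInvolution b := by
  classical
  haveI : Fact (Nat.Prime 2) := ⟨Nat.prime_two⟩
  set S := (P : Subgroup H) ⊓ N with hS
  have hbS : ∀ s ∈ S, s * b = b * s := fun s hs => hc.cent s hs b hbT
  have hbP : ∀ p ∈ (P : Subgroup H), p * b = b * p := by
    intro p hp
    obtain ⟨a, ha, t, ht, rfl⟩ := hc.split hp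
    rw [mul_assoc, hbc t ht, ← mul_assoc, hbS a ha, mul_assoc]
  have hmod : ∀ h : H, h * b * h⁻¹ * b⁻¹ ∈ N := by
    intro h
    obtain ⟨t, ht, n, hn, rfl⟩ := hc.dec h
    have e : t * n * b * (t * n)⁻¹ * b⁻¹ = t * (n * (b * n⁻¹ * b⁻¹)) * t⁻¹ := by
      have e1 : t⁻¹ * b⁻¹ = b⁻¹ * t⁻¹ := by
        rw [← mul_inv_rev, ← mul_inv_rev, hbc t ht]
      calc t * n * b * (t * n)⁻¹ * b⁻¹ = t * n * b * n⁻¹ * (t⁻¹ * b⁻¹) := by group
        _ = _ := by rw [e1]; group
    rw [e]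
    exact Subgroup.Normal.conj_mem inferInstance _ (mul_mem hn
      (Subgroup.Normal.conj_mem inferInstance _ (inv_mem hn) b)) t
  refine CfsgLib.Invol.isolated_of_sylow P hb fun g hg => ?_
  by_contra hne
  -- bad elements
  let Bad : Set H := {s | s ∈ S ∧ s ≠ 1 ∧ ∃ g : H, g * b * g⁻¹ = s * b}
  have hBad : Bad.Nonempty := by
    refine ⟨g * b * g⁻¹ * b⁻¹, Subgroup.mem_inf.2 ⟨mul_mem hg (inv_mem (hc.le hbT)), hmod g⟩,
      fun e => hne (mul_inv_eq_one.1 e), g, by rw [inv_mul_cancel_right]⟩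
  obtain ⟨s0, hs0, hmax⟩ := (Set.toFinite Bad).exists_maximalFor
    (fun s => Nat.card ↥(S ⊓ centralizer ({s} : Set H))) Bad hBad
  obtain ⟨hs0S, hs01, g0, hg0⟩ := hs0
  set D := S ⊓ centralizer ({s0} : Set H) with hD
  have hDS : D ≤ S := inf_le_left
  have hs0D : s0 ∈ D := Subgroup.mem_inf.2 ⟨hs0S, Subgroup.mem_centralizer_singleton_iff.2 rfl⟩
  have hDs0 : ∀ d ∈ D, d * s0 = s0 * d := fun d hd =>
    Subgroup.mem_centralizer_singleton_iff.1 (Subgroup.mem_inf.1 hd).2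
  -- centralisers of bad elements containing a conjugate of `D` equal it
  have heq : ∀ s ∈ Bad, ∀ y : H, (∀ d ∈ D, y * d * y⁻¹ ∈ S ⊓ centralizer ({s} : Set H)) →
      ∀ a ∈ S ⊓ centralizer ({s} : Set H), y⁻¹ * a * y ∈ D := by
    intro s hs y hy a ha
    have hle : D.map (MulAut.conj y).toMonoidHom ≤ S ⊓ centralizer ({s} : Set H) := by
      rintro _ ⟨d, hd, rfl⟩; exact hy d hd
    have hcard : Nat.card ↥(S ⊓ centralizer ({s} : Set H)) ≤
        Nat.card ↥(D.map (MulAut.conj y).toMonoidHom) := by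
      rw [Subgroup.card_map_of_injective (MulAut.conj y).injective]
      rcases le_total (Nat.card ↥(S ⊓ centralizer ({s} : Set H))) (Nat.card ↥D) with h | h
      · exact h
      · exact hmax hs h
    rw [← Subgroup.eq_of_le_of_card_ge hle hcard] at ha
    obtain ⟨d, hd, rfl⟩ := ha
    show y⁻¹ * (y * d * y⁻¹) * y ∈ D
    rwa [show y⁻¹ * (y * d * y⁻¹) * y = d by group]
  set v := s0 * b with hv
  have hDv : ∀ d ∈ D, d * v = v * d := fun d hd => by
    rw [hv, ← mul_assoc, hDs0 d hd, mul_assoc, hbS d (hDS hd), ← mul_assoc]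
  have hTv : ∀ t ∈ T, t * v = v * t := fun t ht => by
    rw [hv, ← mul_assoc, ← hc.cent s0 hs0S t ht, mul_assoc, hbc t ht, ← mul_assoc]
  set E := D ⊔ T with hE
  have hEP : E ≤ (P : Subgroup H) := sup_le (hDS.trans inf_le_left) hc.le
  have hEv : E ≤ centralizer ({v} : Set H) := sup_le
    (fun d hd => Subgroup.mem_centralizer_singleton_iff.2 (hDv d hd))
    (fun t ht => Subgroup.mem_centralizer_singleton_iff.2 (hTv t ht))
  -- `x` takes `v` to `b` and `E` into `P`
  obtain ⟨x, hxN, hxv, hxE⟩ : ∃ x ∈ N, x * v * x⁻¹ = b ∧ ∀ e ∈ E, x * e * x⁻¹ ∈ (P : Subgroup H) := by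
    have hW : E.map (MulAut.conj g0⁻¹).toMonoidHom ≤ centralizer ({b} : Set H) := by
      rintro _ ⟨e, he, rfl⟩
      apply Subgroup.mem_centralizer_singleton_iff.2
      show g0⁻¹ * e * g0⁻¹⁻¹ * b = b * (g0⁻¹ * e * g0⁻¹⁻¹)
      have e1 : e * v = v * e := Subgroup.mem_centralizer_singleton_iff.1 (hEv he)
      calc g0⁻¹ * e * g0⁻¹⁻¹ * b = g0⁻¹ * (e * (g0 * b * g0⁻¹)) * g0 := by group
        _ = g0⁻¹ * ((g0 * b * g0⁻¹) * e) * g0 := by rw [hg0, e1]
        _ = _ := by group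
    obtain ⟨c, hcb, hcW⟩ := exists_conj_of_le P (fun p hp =>
      Subgroup.mem_centralizer_singleton_iff.2 (hbP p hp)) hW ((P.2.to_le hEP).map _)
    obtain ⟨t, ht, n, hn, en⟩ := hc.dec (c * g0⁻¹)
    have hn' : n = t⁻¹ * (c * g0⁻¹) := by rw [en, inv_mul_cancel_left]
    refine ⟨n, hn, ?_, fun e he => ?_⟩
    · have e1 := Subgroup.mem_centralizer_singleton_iff.1 hcb
      have e2 := hbc t ht
      rw [hn', ← hg0]
      calc t⁻¹ * (c * g0⁻¹) * (g0 * b * g0⁻¹) * (t⁻¹ * (c * g0⁻¹))⁻¹ = t⁻¹ * (c * b) * c⁻¹ * t := by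
            group
        _ = t⁻¹ * (b * t) := by rw [e1]; group
        _ = b := by rw [← e2]; group
    · have h1 := hcW _ ⟨e, he, rfl⟩
      have h2 := mul_mem (mul_mem (inv_mem (hc.le ht)) h1) (hc.le ht)
      rw [hn']
      convert h2 using 1
      show _ = t⁻¹ * (c * (g0⁻¹ * e * g0⁻¹⁻¹) * c⁻¹) * t
      group
  -- `Z(D)` is a Sylow subgroup of `C_N(D)`, and it is central there
  set K0 := N ⊓ centralizer (D : Set H) with hK0
  set Z0 := S ⊓ centralizer (D : Set H) with hZ0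
  have hZD : ∀ z ∈ Z0, z ∈ D := fun z hz => Subgroup.mem_inf.2 ⟨(Subgroup.mem_inf.1 hz).1,
    Subgroup.mem_centralizer_singleton_iff.2
      (Subgroup.mem_centralizer_iff.1 (Subgroup.mem_inf.1 hz).2 s0 hs0D).symm⟩
  obtain ⟨R, hZR, hTR, hR2, hRmax⟩ : ∃ R : Subgroup H, Z0 ≤ R ∧ T ≤ R ∧
      (IsPGroup 2 R ∧ R ≤ centralizer (D : Set H)) ∧
      ∀ W : Subgroup H, IsPGroup 2 W → W ≤ centralizer (D : Set H) →
        ∃ k ∈ centralizer (D : Set H), ∀ w ∈ W, k * w * k⁻¹ ∈ R := by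
    set C := centralizer (D : Set H)
    have h0 : Z0 ⊔ T ≤ C := sup_le inf_le_right fun t ht =>
      Subgroup.mem_centralizer_iff.2 fun d hd => hc.cent d (hDS hd) t ht
    have h0P : Z0 ⊔ T ≤ (P : Subgroup H) := sup_le (inf_le_left.trans inf_le_left) hc.le
    obtain ⟨R, hR⟩ := ((P.2.to_le h0P).comap_subtype (K := C)).exists_le_sylow
    refine ⟨(R : Subgroup C).map C.subtype, ?_, ?_, ⟨R.2.map _, Subgroup.map_subtype_le _⟩, ?_⟩
    · exact fun z hz => ⟨⟨z, h0 (Subgroup.mem_sup_left hz)⟩,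
        hR (Subgroup.mem_subgroupOf.2 (Subgroup.mem_sup_left hz)), rfl⟩
    · exact fun z hz => ⟨⟨z, h0 (Subgroup.mem_sup_right hz)⟩,
        hR (Subgroup.mem_subgroupOf.2 (Subgroup.mem_sup_right hz)), rfl⟩
    · intro W hW hWC
      obtain ⟨Q, hQ⟩ := (hW.comap_subtype (K := C)).exists_le_sylow
      obtain ⟨k, hk⟩ := MulAction.exists_smul_eq C Q R
      refine ⟨(k : H), k.2, fun w hw => ⟨k * ⟨w, hWC hw⟩ * k⁻¹, ?_, rfl⟩⟩
      rw [← hk, Sylow.coe_subgroup_smul]
      exact ⟨_, hQ (Subgroup.mem_subgroupOf.2 hw), rfl⟩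
  have hU : ∀ u ∈ R, u ∈ N → u ∈ Z0 := by
    intro u huR huN
    obtain ⟨hR2, hRD⟩ := hR2
    have hDn : R ≤ normalizer (D : Set H) := hRD.trans (Subgroup.centralizer_le_normalizer _)
    obtain ⟨y, hyN, hy⟩ := hc.conjInto
      (hR2.to_sup_of_normal_right' (P.2.to_le (hDS.trans inf_le_left)) hDn)
    have huD : ∀ d ∈ D, d * u = u * d := fun d hd =>
      Subgroup.mem_centralizer_iff.1 (hRD huR) d hd
    have hyS : ∀ a ∈ R ⊔ D, a ∈ N → y * a * y⁻¹ ∈ S := fun a ha haN =>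
      Subgroup.mem_inf.2 ⟨hy a ha, Subgroup.Normal.conj_mem inferInstance _ haN y⟩
    have hu' : y * u * y⁻¹ ∈ S := hyS u (Subgroup.mem_sup_left huR) huN
    have hyD : ∀ d ∈ D, y * d * y⁻¹ ∈ S := fun d hd =>
      hyS d (Subgroup.mem_sup_right hd) (Subgroup.mem_inf.1 (hDS hd)).2
    set σ := y * b * y⁻¹ * b⁻¹ with hσ
    have hσS : σ ∈ S := Subgroup.mem_inf.2
      ⟨mul_mem (hy b (Subgroup.mem_sup_left (hTR hbT))) (inv_mem (hc.le hbT)), hmod y⟩
    have hyb : y * b * y⁻¹ = σ * b := by rw [hσ, inv_mul_cancel_right]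
    have hcomm : ∀ d ∈ D, (y * d * y⁻¹) * σ = σ * (y * d * y⁻¹) := by
      intro d hd
      have e1 : (y * d * y⁻¹) * (σ * b) = (σ * b) * (y * d * y⁻¹) := by
        rw [← hyb]
        calc y * d * y⁻¹ * (y * b * y⁻¹) = y * (d * b) * y⁻¹ := by group
          _ = _ := by rw [hbS d (hDS hd)]; group
      have h := (show Commute (y * d * y⁻¹) (σ * b) from e1).mul_right
        (show Commute (y * d * y⁻¹) b from hbS _ (hyD d hd)).inv_right
      rw [mul_inv_cancel_right] at h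
      exact h.eq
    -- `b` commutes with `u`
    have hbu : u * b = b * u := by
      have hgoal : (y * u * y⁻¹) * (y * b * y⁻¹) = (y * b * y⁻¹) * (y * u * y⁻¹) := by
        by_cases h1 : σ = 1
        · rw [hyb, h1, one_mul]
          exact hbS _ hu'
        · have hσB : σ ∈ Bad := ⟨hσS, h1, y, hyb⟩
          have hall := heq σ hσB y fun d hd => Subgroup.mem_inf.2
            ⟨hyD d hd, Subgroup.mem_centralizer_singleton_iff.2 (hcomm d hd)⟩
          obtain ⟨a, ha, t, ht, e⟩ := hc.split (hy b (Subgroup.mem_sup_left (hTR hbT)))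
          have hat : a = σ := by
            have e2 : σ⁻¹ * a = b * t⁻¹ := by
              apply mul_left_cancel (a := σ); apply mul_right_cancel (b := t)
              rw [mul_inv_cancel_left, mul_assoc, inv_mul_cancel_right, ← e, hyb]
            have e3 : σ⁻¹ * a ∈ T ⊓ N := Subgroup.mem_inf.2 ⟨e2 ▸ mul_mem hbT (inv_mem ht),
              mul_mem (inv_mem (Subgroup.mem_inf.1 hσS).2) (Subgroup.mem_inf.1 ha).2⟩
            rw [hc.disj, Subgroup.mem_bot, inv_mul_eq_one] at e3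
            exact e3.symm
          have hσD : y⁻¹ * σ * y ∈ D := hall σ (Subgroup.mem_inf.2
            ⟨hσS, Subgroup.mem_centralizer_singleton_iff.2 rfl⟩)
          have e1 : (y * u * y⁻¹) * σ = σ * (y * u * y⁻¹) := by
            have := huD _ hσD
            calc y * u * y⁻¹ * σ = y * (u * (y⁻¹ * σ * y)) * y⁻¹ := by group
              _ = _ := by rw [← this]; group
          rw [hyb, ← mul_assoc, e1, mul_assoc, hbS _ hu', ← mul_assoc]
      calc u * b = y⁻¹ * ((y * u * y⁻¹) * (y * b * y⁻¹)) * y := by group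
        _ = y⁻¹ * ((y * b * y⁻¹) * (y * u * y⁻¹)) * y := by rw [hgoal]
        _ = _ := by group
    -- `u` lies in `D`
    have huv : (y * u * y⁻¹) * (y * v * y⁻¹) = (y * v * y⁻¹) * (y * u * y⁻¹) := by
      have e : u * v = v * u := by rw [hv, ← mul_assoc, ← huD s0 hs0D, mul_assoc, hbu, ← mul_assoc]
      calc y * u * y⁻¹ * (y * v * y⁻¹) = y * (u * v) * y⁻¹ := by group
        _ = _ := by rw [e]; group
    have huD' : u ∈ D := by
      set s' := (y * s0 * y⁻¹) * σ with hs'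
      have hyv : y * v * y⁻¹ = s' * b := by
        calc y * v * y⁻¹ = y * s0 * y⁻¹ * (y * b * y⁻¹) := by
              rw [hv]; group
          _ = s' * b := by rw [hyb, hs']; group
      have hs'S : s' ∈ S := mul_mem (hyD s0 hs0D) hσS
      have hget : ∀ s ∈ Bad, (∀ d ∈ D, (y * d * y⁻¹) * s = s * (y * d * y⁻¹)) →
          (y * u * y⁻¹) * s = s * (y * u * y⁻¹) → u ∈ D := fun s hs hd hu => by
        have h := heq s hs y (fun d hd' => Subgroup.mem_inf.2
          ⟨hyD d hd', Subgroup.mem_centralizer_singleton_iff.2 (hd d hd')⟩) _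
          (Subgroup.mem_inf.2 ⟨hu', Subgroup.mem_centralizer_singleton_iff.2 hu⟩)
        rwa [show y⁻¹ * (y * u * y⁻¹) * y = u by group] at h
      by_cases h1 : s' = 1
      · have hσ1 : σ ≠ 1 := fun e => by
          rw [hs', e, mul_one, conj_eq_one_iff] at h1
          exact hs01 h1
        refine hget σ ⟨hσS, hσ1, y, hyb⟩ hcomm ?_
        have e1 : Commute (y * u * y⁻¹) (σ * b) := by
          rw [← hyb]
          show _ = _
          calc y * u * y⁻¹ * (y * b * y⁻¹) = y * (u * b) * y⁻¹ := by group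
            _ = _ := by rw [hbu]; group
        have h := e1.mul_right (show Commute (y * u * y⁻¹) b from hbS _ hu').inv_right
        rw [mul_inv_cancel_right] at h
        exact h.eq
      · refine hget s' ⟨hs'S, h1, y * g0, ?_⟩ (fun d hd => ?_) ?_
        · rw [← hyv]
          calc y * g0 * b * (y * g0)⁻¹ = y * (g0 * b * g0⁻¹) * y⁻¹ := by group
            _ = _ := by rw [hg0]
        · rw [hs', ← mul_assoc, mul_assoc (y * s0 * y⁻¹), ← hcomm d hd]
          calc y * d * y⁻¹ * (y * s0 * y⁻¹) * σ = y * (d * s0) * y⁻¹ * σ := by group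
            _ = _ := by rw [hDs0 d hd]; group
        · rw [hyv] at huv
          have h := (show Commute (y * u * y⁻¹) (s' * b) from huv).mul_right
            (show Commute (y * u * y⁻¹) b from hbS _ hu').inv_right
          rw [mul_inv_cancel_right] at h
          exact h.eq
    exact Subgroup.mem_inf.2 ⟨hDS huD', Subgroup.mem_centralizer_iff.2 huD⟩
  -- the normal complement of `Z0` in `K0`
  have hZK : Z0 ≤ K0 := inf_le_inf_right _ inf_le_right
  have hZ2 : IsPGroup 2 Z0 := P.2.to_le (inf_le_left.trans inf_le_left)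
  obtain ⟨Q, hQ⟩ := (hZ2.comap_subtype (K := K0)).exists_le_sylow
  have hQeq : (Q : Subgroup K0) = Z0.subgroupOf K0 := by
    refine (Subgroup.eq_of_le_of_card_ge hQ ?_).symm
    obtain ⟨k, hk, hkW⟩ := hRmax ((Q : Subgroup K0).map K0.subtype) (Q.2.map _)
      ((Subgroup.map_subtype_le _).trans inf_le_right)
    have hle : ((Q : Subgroup K0).map K0.subtype).map (MulAut.conj k).toMonoidHom ≤ Z0 := by
      rintro _ ⟨w, hw, rfl⟩
      exact hU _ (hkW w hw) (Subgroup.Normal.conj_mem inferInstance _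
        (Subgroup.mem_inf.1 (Subgroup.map_subtype_le _ hw)).1 k)
    have hcard := Subgroup.card_le_of_le hle
    rw [Subgroup.card_map_of_injective (MulAut.conj k).injective,
      Subgroup.card_map_of_injective K0.subtype_injective] at hcard
    exact hcard.trans (Nat.card_congr (Subgroup.subgroupOfEquivOfLe hZK).toEquiv).ge
  have hQc : ∀ z ∈ (Q : Subgroup K0), ∀ a : K0, z * a = a * z := by
    intro z hz a
    rw [hQeq, Subgroup.mem_subgroupOf] at hz
    exact Subtype.ext (Subgroup.mem_centralizer_iff.1 (Subgroup.mem_inf.1 a.2).2 _ (hZD _ hz))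
  have hPN : normalizer ((Q : Subgroup K0) : Set K0) ≤ centralizer ((Q : Subgroup K0) : Set K0) :=
    fun a _ => Subgroup.mem_centralizer_iff.2 fun z hz => hQc z hz a
  set M := (MonoidHom.transferSylow Q hPN).ker with hM
  have hMQ : Subgroup.IsComplement' M (Q : Subgroup K0) :=
    MonoidHom.ker_transferSylow_isComplement' Q hPN
  have hMcard : Nat.Coprime 2 (Nat.card M) :=
    Nat.prime_two.coprime_iff_not_dvd.2 (MonoidHom.not_dvd_card_ker_transferSylow Q hPN)
  have hMmem : ∀ a : K0, Odd (orderOf a) → a ∈ M := by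
    intro a ha
    obtain ⟨j, hj⟩ := Q.2 (MonoidHom.transferSylow Q hPN a)
    rw [hM, MonoidHom.mem_ker, ← orderOf_eq_one_iff]
    exact Nat.eq_one_of_dvd_coprimes (Nat.Coprime.pow_left j (Nat.coprime_two_left.2 ha))
      (orderOf_dvd_of_pow_eq_one hj) (orderOf_map_dvd _ a)
  -- `γ` moves `x` by an element of `K0`
  set w := x⁻¹ * γ x with hw
  have hxD : ∀ d ∈ D, x * d * x⁻¹ ∈ S := fun d hd => Subgroup.mem_inf.2
    ⟨hxE d (Subgroup.mem_sup_left hd),
      Subgroup.Normal.conj_mem inferInstance _ (Subgroup.mem_inf.1 (hDS hd)).2 x⟩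
  have hwK : w ∈ K0 := by
    refine Subgroup.mem_inf.2 ⟨mul_mem (inv_mem hxN) (hγN x hxN),
      Subgroup.mem_centralizer_iff.2 fun d hd => ?_⟩
    have e := hγS _ (hxD d hd)
    rw [map_mul, map_mul, map_inv, hγS d (hDS hd)] at e
    calc d * w = x⁻¹ * (x * d * x⁻¹) * γ x := by rw [hw]; group
      _ = x⁻¹ * (γ x * d * (γ x)⁻¹) * γ x := by rw [e]
      _ = w * d := by rw [hw]; group
  -- the image of `b`
  set s1 := x * b * x⁻¹ * b⁻¹ with hs1
  have hxb : x * b * x⁻¹ = s1 * b := by rw [hs1, inv_mul_cancel_right]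
  have hs1S : s1 ∈ S := Subgroup.mem_inf.2
    ⟨mul_mem (hxE b (Subgroup.mem_sup_right hbT)) (inv_mem (hc.le hbT)), hmod x⟩
  have hs11 : s1 ≠ 1 := by
    intro e
    rw [e, one_mul] at hxb
    have e2 : x * s0 * x⁻¹ * (x * b * x⁻¹) = b := by
      refine Eq.trans ?_ hxv
      show _ = x * (s0 * b) * x⁻¹
      group
    rw [hxb, mul_eq_right, conj_eq_one_iff] at e2
    exact hs01 e2
  obtain ⟨a, ha, t, ht, he⟩ := hc.split (hxE q (Subgroup.mem_sup_right hq))
  have htq : t = q := by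
    have e2 : t⁻¹ * q ∈ N := by
      have e5 : a⁻¹ * (x * (q * x⁻¹ * q⁻¹)) ∈ N := mul_mem (inv_mem (Subgroup.mem_inf.1 ha).2)
        (mul_mem hxN (Subgroup.Normal.conj_mem inferInstance _ (inv_mem hxN) q))
      have e6 : a⁻¹ * (x * (q * x⁻¹ * q⁻¹)) = t * q⁻¹ := by
        calc a⁻¹ * (x * (q * x⁻¹ * q⁻¹)) = a⁻¹ * (x * q * x⁻¹) * q⁻¹ := by group
          _ = _ := by rw [he, inv_mul_cancel_left]
      rw [e6] at e5
      have := Subgroup.Normal.conj_mem inferInstance _ (inv_mem e5) t⁻¹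
      rwa [show t⁻¹ * (t * q⁻¹)⁻¹ * t⁻¹⁻¹ = t⁻¹ * q by group] at this
    have e7 : t⁻¹ * q ∈ T ⊓ N := Subgroup.mem_inf.2 ⟨mul_mem (inv_mem ht) hq, e2⟩
    rw [hc.disj, Subgroup.mem_bot, inv_mul_eq_one] at e7
    exact e7
  subst htq
  have has1 : Commute a s1 := by
    have e : (a * t) * (s1 * b) = (s1 * b) * (a * t) := by
      rw [← he, ← hxb]
      calc x * t * x⁻¹ * (x * b * x⁻¹) = x * (t * b) * x⁻¹ := by group
        _ = _ := by rw [hbc t hq]; group
    have e1 : (a * t) * (s1 * b) = a * s1 * (t * b) := by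
      rw [mul_assoc, ← mul_assoc t, ← hc.cent s1 hs1S t hq]; group
    have e2 : (s1 * b) * (a * t) = s1 * a * (t * b) := by
      rw [mul_assoc, ← mul_assoc b, ← hbS a ha, hbc t hq]; group
    rw [e1, e2] at e
    exact mul_right_cancel e
  set ee := w * (b * t) * w⁻¹ * (b * t)⁻¹ with hee
  have hbt : b * t ∈ T := mul_mem hbT hq
  have hτ : ∀ c ∈ K0, b * t * c * (b * t)⁻¹ ∈ K0 := fun c hc' => Subgroup.mem_inf.2
    ⟨Subgroup.Normal.conj_mem inferInstance _ (Subgroup.mem_inf.1 hc').1 _,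
      Subgroup.mem_centralizer_iff.2 fun d hd => by
        have e1 : Commute d (b * t) := hc.cent d (hDS hd) _ hbt
        have e2 : Commute d c := Subgroup.mem_centralizer_iff.1 (Subgroup.mem_inf.1 hc').2 d hd
        exact ((e1.mul_right e2).mul_right e1.inv_right).eq⟩
  have hτQ : ∀ z ∈ (Q : Subgroup K0), (z : H) * (b * t) * (z : H)⁻¹ = b * t := fun z hz => by
    have hz2 : (z : H) ∈ Z0 := Subgroup.mem_subgroupOf.1 ((SetLike.ext_iff.1 hQeq z).1 hz)
    rw [hc.cent _ (Subgroup.mem_inf.1 hz2).1 _ hbt, mul_inv_cancel_right]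
  have heodd := comm_mem_compl hMQ (Nat.coprime_two_left.1 hMcard) hMmem hτ hτQ hwK
  obtain ⟨k, hkM, hke⟩ := heodd
  have hkey : x * ee * x⁻¹ = s1⁻¹ := by
    have e1 : γ x * (b * t) * (γ x)⁻¹ = a * (b * t) := by
      rw [← hγq, ← map_inv, ← map_mul, ← map_mul, he, map_mul, hγS a ha]
    have e2 : x * (ee * (b * t)) * x⁻¹ = a * (b * t) := by
      rw [← e1, hee, hw]; group
    have e3 : x * (b * t) * x⁻¹ = s1 * a * (b * t) := by
      calc x * (b * t) * x⁻¹ = (x * b * x⁻¹) * (x * t * x⁻¹) := by group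
        _ = _ := by rw [hxb, he, mul_assoc s1, ← mul_assoc b, ← hbS a ha]; group
    have e4 : x * ee * x⁻¹ * (s1 * a * (b * t)) = a * (b * t) := by
      rw [← e3, ← e2]; group
    have e5 : x * ee * x⁻¹ * (s1 * a) = a := by
      apply mul_right_cancel (b := b * t)
      rw [← e4]; group
    rw [← has1.eq, ← mul_assoc] at e5
    calc x * ee * x⁻¹ = x * ee * x⁻¹ * a * s1 * (a * s1)⁻¹ := by group
      _ = a * (a * s1)⁻¹ := by rw [e5]
      _ = _ := by rw [has1.eq]; group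
  apply hs11
  obtain ⟨j, hj⟩ := P.2 ⟨s1, (Subgroup.mem_inf.1 hs1S).1⟩
  have hj' : s1⁻¹ ^ 2 ^ j = 1 := by rw [inv_pow, inv_eq_one]; exact congrArg Subtype.val hj
  rw [← inv_eq_one, ← orderOf_eq_one_iff]
  refine Nat.eq_one_of_dvd_coprimes (Nat.Coprime.pow_left j hMcard) (orderOf_dvd_of_pow_eq_one hj') ?_
  rw [← hkey, CfsgLib.Invol.orderOf_conj_eq, show ee = (k : H) from hke.symm, Subgroup.orderOf_coe]
  exact Subgroup.orderOf_mk k hkM ▸ orderOf_dvd_natCard (⟨k, hkM⟩ : M)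

end CfsgLib.FTRows.AutSylow

namespace CfsgLib.FTRows.AutSylow

open Subgroup

variable {G : Type u} [Group G] [Finite G]

/-- No involution of `Z(T)` is a twist `γqγ⁻¹q⁻¹` inside a 2-group `T` of automorphisms fixing a
Sylow 2-subgroup pointwise. -/
theorem no_twist (hO : ∀ M : Subgroup G, M.Normal → Odd (Nat.card M) → M = ⊥) (S : Sylow 2 G)
    (T : Subgroup (MulAut G)) (hT2 : IsPGroup 2 T) (hTS : ∀ q ∈ T, ∀ s ∈ S, q s = s)
    {β q : MulAut G} (hβT : β ∈ T) (hβ : orderOf β = 2) (hβc : ∀ t ∈ T, t * β = β * t)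
    (hq : q ∈ T) (γ : MulAut G) (hγS : ∀ s ∈ S, γ s = s) (hγT : ∀ t ∈ T, γ * t * γ⁻¹ ∈ T)
    (hγq : γ * q * γ⁻¹ = β * q) : False := by
  classical
  haveI : Fact (Nat.Prime 2) := ⟨Nat.prime_two⟩
  set φ : ↥T →* MulAut G := T.subtype with hφ
  haveI : Finite (G ⋊[φ] ↥T) := Finite.of_equiv _ SemidirectProduct.equivProd.symm
  let P₀ : Subgroup (G ⋊[φ] ↥T) :=
    { carrier := {h | h.left ∈ (S : Subgroup G)}
      one_mem' := one_mem (S : Subgroup G)
      mul_mem' := fun {a b} ha hb => by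
        show (a * b).left ∈ (S : Subgroup G)
        rw [SemidirectProduct.mul_left]
        refine mul_mem ha ?_
        rw [show φ a.right b.left = b.left from hTS _ a.right.2 _ hb]
        exact hb
      inv_mem' := fun {a} ha => by
        show (a⁻¹).left ∈ (S : Subgroup G)
        rw [SemidirectProduct.inv_left]
        rw [show φ a.right⁻¹ a.left⁻¹ = a.left⁻¹ from hTS _ a.right⁻¹.2 _ (inv_mem (show _ ∈ S from ha))]
        exact inv_mem ha }
  let eP : ↥P₀ ≃ ↥(S : Subgroup G) × ↥T :=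
    { toFun := fun h => (⟨h.1.left, h.2⟩, h.1.right)
      invFun := fun x => ⟨⟨x.1.1, x.2⟩, x.1.2⟩
      left_inv := fun _ => rfl
      right_inv := fun _ => rfl }
  have hcard : Nat.card P₀ = Nat.card (S : Subgroup G) * Nat.card ↥T := by
    rw [Nat.card_congr eP, Nat.card_prod]
  have hP2 : IsPGroup 2 P₀ := by
    obtain ⟨i, hi⟩ := IsPGroup.iff_card.1 S.2
    obtain ⟨j, hj⟩ := IsPGroup.iff_card.1 hT2
    exact IsPGroup.of_card (n := i + j) (by rw [hcard, hi, hj, pow_add])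
  have hidx : P₀.index = (S : Subgroup G).index := by
    have h1 := P₀.card_mul_index
    rw [SemidirectProduct.card, hcard, ← (S : Subgroup G).card_mul_index] at h1
    have h2 : 0 < Nat.card (S : Subgroup G) * Nat.card ↥T := Nat.mul_pos Nat.card_pos Nat.card_pos
    apply Nat.eq_of_mul_eq_mul_left h2
    rw [h1]; ring
  set P := hP2.toSylow (hidx ▸ S.not_dvd_index) with hP
  set N := (SemidirectProduct.inl : G →* G ⋊[φ] ↥T).range with hN
  haveI : N.Normal := by
    show ((SemidirectProduct.inl (φ := φ)).range).Normal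
    rw [SemidirectProduct.range_inl_eq_ker_rightHom]; infer_instance
  have hmemN : ∀ {h : G ⋊[φ] ↥T}, h ∈ N → SemidirectProduct.inl h.left = h ∧ h.right = 1 := by
    rintro h ⟨g, rfl⟩
    exact ⟨by rw [SemidirectProduct.left_inl], SemidirectProduct.right_inl g⟩
  set T₁ := (SemidirectProduct.inr : ↥T →* G ⋊[φ] ↥T).range with hT₁
  have hcfg : Cfg N T₁ P :=
    { le := by
        rintro _ ⟨t, rfl⟩
        show (SemidirectProduct.inr t : G ⋊[φ] ↥T).left ∈ (S : Subgroup G)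
        rw [SemidirectProduct.left_inr]; exact one_mem _
      disj := by
        refine (Subgroup.eq_bot_iff_forall _).2 ?_
        rintro h ⟨⟨t, rfl⟩, hN'⟩
        have := (hmemN hN').2
        rw [SemidirectProduct.right_inr] at this
        rw [this, map_one]
      dec := fun h => by
        refine ⟨SemidirectProduct.inr h.right, ⟨_, rfl⟩, (SemidirectProduct.inr h.right)⁻¹ * h, ?_,
          (mul_inv_cancel_left _ _).symm⟩
        rw [hN, SemidirectProduct.range_inl_eq_ker_rightHom, MonoidHom.mem_ker, map_mul, map_inv,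
          SemidirectProduct.rightHom_inr]
        exact inv_mul_cancel _
      cent := by
        intro s hs q hq
        obtain ⟨t, rfl⟩ := hq
        obtain ⟨e1, -⟩ := hmemN (Subgroup.mem_inf.1 hs).2
        have hsS : s.left ∈ S := (Subgroup.mem_inf.1 hs).1
        rw [← e1]
        ext
        · simp only [SemidirectProduct.mul_left, SemidirectProduct.left_inl,
            SemidirectProduct.right_inl, SemidirectProduct.left_inr, SemidirectProduct.right_inr,
            map_one, mul_one, one_mul, MulAut.one_apply]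
          exact (hTS _ t.2 _ hsS).symm
        · simp }
  let fg : ↥T ≃* ↥T :=
    MulEquiv.ofBijective
      (({ toFun := fun t => ⟨γ * t * γ⁻¹, hγT _ t.2⟩
          map_one' := Subtype.ext (by simp)
          map_mul' := fun a b => Subtype.ext (by simp [mul_assoc]) } : ↥T →* ↥T))
      (Finite.injective_iff_bijective.1 fun a b h => Subtype.ext
        (mul_left_cancel (mul_right_cancel (congrArg Subtype.val h))))
  let Γ : MulAut (G ⋊[φ] ↥T) := SemidirectProduct.congr γ fg fun t => by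
    ext x
    show γ ((t : MulAut G) x) = ((γ * (t : MulAut G) * γ⁻¹ : MulAut G)) (γ x)
    simp [MulAut.mul_apply]
  have hΓl : ∀ h, (Γ h).left = γ h.left := fun _ => rfl
  have hΓr : ∀ h, (Γ h).right = fg h.right := fun _ => rfl
  have hb2 : orderOf (SemidirectProduct.inr ⟨β, hβT⟩ : G ⋊[φ] ↥T) = 2 := by
    rw [orderOf_injective _ SemidirectProduct.inr_injective, Subgroup.orderOf_mk, hβ]
  have hiso := hcfg.isolated hb2 ⟨_, rfl⟩
    (fun t ht => by
      obtain ⟨t, rfl⟩ := ht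
      rw [← map_mul, ← map_mul]
      exact congrArg _ (Subtype.ext (hβc t t.2)))
    ⟨⟨q, hq⟩, rfl⟩ Γ
    (fun s hs => by
      obtain ⟨-, e2⟩ := hmemN (Subgroup.mem_inf.1 hs).2
      refine SemidirectProduct.ext ?_ ?_
      · rw [hΓl]; exact hγS _ (Subgroup.mem_inf.1 hs).1
      · rw [hΓr, e2, map_one])
    (fun n hn => by
      obtain ⟨g, rfl⟩ := hn
      refine ⟨γ g, SemidirectProduct.ext ?_ ?_⟩
      · rw [hΓl, SemidirectProduct.left_inl, SemidirectProduct.left_inl]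
      · rw [hΓr, SemidirectProduct.right_inl, SemidirectProduct.right_inl, map_one])
    (by
      rw [← map_mul]
      refine SemidirectProduct.ext ?_ ?_
      · rw [hΓl, SemidirectProduct.left_inr, SemidirectProduct.left_inr, map_one]
      · rw [hΓr, SemidirectProduct.right_inr, SemidirectProduct.right_inr]
        exact Subtype.ext hγq)
  obtain ⟨M, hMn, hModd, hM⟩ := CfsgLib.ZStar.zstar hiso
  have hMN : M ≤ N := by
    intro m hm
    rw [hN, SemidirectProduct.range_inl_eq_ker_rightHom, MonoidHom.mem_ker]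
    obtain ⟨j, hj⟩ := hT2 (SemidirectProduct.rightHom m)
    rw [← orderOf_eq_one_iff]
    refine Nat.eq_one_of_dvd_coprimes
      (Nat.Coprime.pow_left j (Nat.coprime_two_left.2 ?_))
      (orderOf_dvd_of_pow_eq_one hj) (orderOf_map_dvd _ m)
    exact hModd.of_dvd_nat (Subgroup.orderOf_mk m hm ▸ orderOf_dvd_natCard (⟨m, hm⟩ : M))
  have hMbot : M.comap SemidirectProduct.inl = (⊥ : Subgroup G) := by
    haveI := hMn
    refine hO _ inferInstance ?_
    have e : (M.comap (SemidirectProduct.inl : G →* G ⋊[φ] ↥T)).map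
        (SemidirectProduct.inl : G →* G ⋊[φ] ↥T) = M :=
      Subgroup.map_comap_eq_self hMN
    rw [← Subgroup.card_map_of_injective
      (SemidirectProduct.inl_injective : Function.Injective (SemidirectProduct.inl : G →* G ⋊[φ] ↥T)), e]
    exact hModd
  have hfix : ∀ g : G, β g = g := by
    intro g
    have h1 := hM (SemidirectProduct.inl g)
    simp only [← map_inv] at h1
    rw [← SemidirectProduct.inl_aut] at h1
    have h2 : φ ⟨β, hβT⟩ g * g⁻¹ ∈ M.comap (SemidirectProduct.inl : G →* G ⋊[φ] ↥T) := by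
      rw [Subgroup.mem_comap, map_mul, map_inv]; exact h1
    rw [hMbot, Subgroup.mem_bot, mul_inv_eq_one] at h2
    exact h2
  have h1 : β = 1 := MulEquiv.ext hfix
  rw [h1, orderOf_one] at hβ
  exact absurd hβ (by decide)

/-- Sylow 2-subgroups of the automorphisms fixing `S` pointwise are abelian and have normal
complements. -/
theorem sylow_fixed (hO : ∀ M : Subgroup G, M.Normal → Odd (Nat.card M) → M = ⊥) (S : Sylow 2 G)
    (C : Subgroup (MulAut G)) (hC : ∀ φ : MulAut G, φ ∈ C → ∀ s : G, s ∈ S → φ s = s)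
    (T : Sylow 2 ↥C) :
    (∀ a b : ↥T, a * b = b * a) ∧
      ∃ N : Subgroup ↥C, N.Normal ∧ Odd (Nat.card N) ∧
        Subgroup.IsComplement' N (T : Subgroup ↥C) := by
  classical
  haveI : Fact (Nat.Prime 2) := ⟨Nat.prime_two⟩
  set T' := (T : Subgroup ↥C).map C.subtype with hT'
  have hT2 : IsPGroup 2 T' := T.2.map _
  have hTC : T' ≤ C := Subgroup.map_subtype_le _
  have key : ∀ (γ : ↥C) (q z : (T : Subgroup ↥C)), (∀ t : (T : Subgroup ↥C), t * z = z * t) →
      orderOf z = 2 → (∀ t : (T : Subgroup ↥C), γ * (t : ↥C) * γ⁻¹ ∈ (T : Subgroup ↥C)) →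
      γ * (q : ↥C) * γ⁻¹ = (z : ↥C) * q → False := by
    intro γ q z hzc hz hγT hγq
    refine no_twist hO S T' hT2 (fun t ht s hs => hC t (hTC ht) s hs)
      (Subgroup.mem_map_of_mem _ z.2) ?_ ?_ (Subgroup.mem_map_of_mem _ q.2) (γ : MulAut G)
      (fun s hs => hC _ γ.2 s hs) ?_ (congrArg Subtype.val hγq)
    · show orderOf ((z : ↥C) : MulAut G) = 2
      rw [Subgroup.orderOf_coe, Subgroup.orderOf_coe, hz]
    · rintro _ ⟨t, ht, rfl⟩
      exact congrArg Subtype.val (congrArg Subtype.val (hzc ⟨t, ht⟩))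
    · rintro _ ⟨t, ht, rfl⟩
      exact ⟨_, hγT ⟨t, ht⟩, rfl⟩
  have hab : ∀ a b : ↥T, a * b = b * a := by
    by_contra hne
    push Not at hne
    obtain ⟨a, b, hab⟩ := hne
    haveI : Nontrivial ((T : Subgroup ↥C) ⧸ Subgroup.center (T : Subgroup ↥C)) := by
      refine ⟨(a : (T : Subgroup ↥C)), 1, fun e => hab ?_⟩
      exact ((Subgroup.mem_center_iff.1 ((QuotientGroup.eq_one_iff _).1 e)) b).symm
    haveI := (T.2.to_quotient (Subgroup.center (T : Subgroup ↥C))).center_nontrivial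
    obtain ⟨⟨c, hc⟩, hc1⟩ := exists_ne (1 : Subgroup.center
      ((T : Subgroup ↥C) ⧸ Subgroup.center (T : Subgroup ↥C)))
    induction c using QuotientGroup.induction_on with
    | _ p =>
    have hp : p ∉ Subgroup.center (T : Subgroup ↥C) := fun h => hc1 (Subtype.ext
      ((QuotientGroup.eq_one_iff p).2 h))
    rw [Subgroup.mem_center_iff] at hp
    push Not at hp
    obtain ⟨q, hq⟩ := hp
    set z := p * q * p⁻¹ * q⁻¹ with hz
    have hzc : z ∈ Subgroup.center (T : Subgroup ↥C) := by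
      rw [← QuotientGroup.eq_one_iff]
      have e := Subgroup.mem_center_iff.1 hc (q : (T : Subgroup ↥C) ⧸ _)
      simp only [hz, QuotientGroup.mk_mul, QuotientGroup.mk_inv]
      rw [← e]; group
    obtain ⟨k, hk⟩ := IsPGroup.iff_orderOf.1 T.2 z
    have hk0 : k ≠ 0 := fun e => hq (by
      rw [e, pow_zero, orderOf_eq_one_iff, hz, mul_inv_eq_one, mul_inv_eq_iff_eq_mul] at hk
      exact hk.symm)
    obtain ⟨j, rfl⟩ := Nat.exists_eq_succ_of_ne_zero hk0
    set m := 2 ^ j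
    have hzm : orderOf (z ^ m) = 2 := by
      rw [orderOf_pow' z (pow_ne_zero j two_ne_zero), hk, pow_succ,
        Nat.gcd_eq_right (Dvd.intro _ rfl), Nat.mul_div_cancel_left _ (pow_pos two_pos j)]
    have hpow : ∀ i : ℕ, p ^ i * q * (p ^ i)⁻¹ = z ^ i * q := by
      intro i
      induction i with
      | zero => simp
      | succ i ih =>
        have h1 : p * q * p⁻¹ = z * q := by rw [hz]; group
        have h2 : p ^ i * z * (p ^ i)⁻¹ = z := by
          rw [Subgroup.mem_center_iff.1 hzc (p ^ i), mul_inv_cancel_right]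
        calc p ^ (i + 1) * q * (p ^ (i + 1))⁻¹ = p ^ i * (p * q * p⁻¹) * (p ^ i)⁻¹ := by
              rw [pow_succ]; group
          _ = (p ^ i * z * (p ^ i)⁻¹) * (p ^ i * q * (p ^ i)⁻¹) := by rw [h1]; group
          _ = _ := by rw [h2, ih, pow_succ', ← mul_assoc]
    refine key ((p ^ m : (T : Subgroup ↥C)) : ↥C) q (z ^ m)
      (fun t => Subgroup.mem_center_iff.1 (pow_mem hzc m) t) hzm
      (fun t => SetLike.coe_mem (p ^ m * t * (p ^ m)⁻¹)) ?_
    exact congrArg Subtype.val (hpow m)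
  refine ⟨hab, ?_⟩
  have hPN : normalizer ((T : Subgroup ↥C) : Set ↥C) ≤ centralizer ((T : Subgroup ↥C) : Set ↥C) := by
    intro γ hγ
    rw [Subgroup.mem_centralizer_iff]
    by_contra hne
    push Not at hne
    obtain ⟨t, ht, hne⟩ := hne
    have hγT : ∀ t : (T : Subgroup ↥C), γ * (t : ↥C) * γ⁻¹ ∈ (T : Subgroup ↥C) :=
      fun t => (Subgroup.mem_normalizer_iff.1 hγ t).1 t.2
    let δ : (T : Subgroup ↥C) →* (T : Subgroup ↥C) :=
      { toFun := fun t => ⟨γ * (t : ↥C) * γ⁻¹, hγT t⟩ * t⁻¹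
        map_one' := by ext; simp
        map_mul' := fun x y => by
          have e : (⟨γ * ((x * y : (T : Subgroup ↥C)) : ↥C) * γ⁻¹, hγT _⟩ : (T : Subgroup ↥C)) =
              ⟨γ * (x : ↥C) * γ⁻¹, hγT x⟩ * ⟨γ * (y : ↥C) * γ⁻¹, hγT y⟩ := by
            ext; simp [mul_assoc]
          rw [e, mul_inv_rev]
          set X := (⟨γ * (x : ↥C) * γ⁻¹, hγT x⟩ : (T : Subgroup ↥C))
          set Y := (⟨γ * (y : ↥C) * γ⁻¹, hγT y⟩ : (T : Subgroup ↥C))
          calc X * Y * (y⁻¹ * x⁻¹) = X * ((Y * y⁻¹) * x⁻¹) := by group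
            _ = _ := by rw [show Y * y⁻¹ * x⁻¹ = x⁻¹ * (Y * y⁻¹) from hab _ _]; group }
    obtain ⟨k, hk⟩ := IsPGroup.iff_orderOf.1 T.2 (δ ⟨t, ht⟩)
    have hk0 : k ≠ 0 := fun e => by
      rw [e, pow_zero, orderOf_eq_one_iff] at hk
      have h1 : γ * t * γ⁻¹ = t := mul_inv_eq_one.1 (congrArg Subtype.val hk)
      exact hne (mul_inv_eq_iff_eq_mul.1 h1).symm
    obtain ⟨j, rfl⟩ := Nat.exists_eq_succ_of_ne_zero hk0
    set q := (⟨t, ht⟩ : (T : Subgroup ↥C)) ^ (2 ^ j) with hq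
    have hz : orderOf (δ q) = 2 := by
      rw [hq, map_pow, orderOf_pow' _ (pow_ne_zero j two_ne_zero), hk, pow_succ,
        Nat.gcd_eq_right (Dvd.intro _ rfl), Nat.mul_div_cancel_left _ (pow_pos two_pos j)]
    refine key γ q (δ q) (fun u => hab u _) hz hγT ?_
    show γ * (q : ↥C) * γ⁻¹ = γ * (q : ↥C) * γ⁻¹ * (q : ↥C)⁻¹ * (q : ↥C)
    rw [inv_mul_cancel_right]
  exact ⟨_, inferInstance,
    Nat.coprime_two_left.1 (Nat.prime_two.coprime_iff_not_dvd.2
      (MonoidHom.not_dvd_card_ker_transferSylow T hPN)),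
    MonoidHom.ker_transferSylow_isComplement' T hPN⟩

end CfsgLib.FTRows.AutSylow

namespace CfsgLib.FTRows

/-- S0227 relative to the solvability of groups of odd order. -/
theorem aut_fixing_sylow_two (hFT : OddSolvable.{u}) {G : Type u} [Group G] [Finite G]
    (hO : ∀ N : Subgroup G, N.Normal → Odd (Nat.card N) → N = ⊥) (S : Sylow 2 G)
    (C : Subgroup (MulAut G)) (hC : ∀ φ : MulAut G, φ ∈ C ↔ ∀ s : G, s ∈ S → φ s = s) :
    (∀ T : Sylow 2 ↥C, (∀ a b : ↥T, a * b = b * a) ∧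
      ∃ N : Subgroup ↥C, N.Normal ∧ Subgroup.IsComplement' N (T : Subgroup ↥C)) ∧
    Group.IsSolvable ↥C := by
  have h := fun T => AutSylow.sylow_fixed hO S C (fun φ => (hC φ).1) T
  refine ⟨fun T => ⟨(h T).1, ?_⟩, ?_⟩
  · obtain ⟨N, hN, -, hc⟩ := (h T).2
    exact ⟨N, hN, hc⟩
  · obtain ⟨T⟩ : Nonempty (Sylow 2 ↥C) := inferInstance
    obtain ⟨hab, N, hN, hodd, hc⟩ := h T
    haveI := hN
    haveI := hFT N hodd
    haveI : Group.IsSolvable (T : Subgroup ↥C) :=
      Group.isSolvable_of_comm hab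
    haveI : Group.IsSolvable (↥C ⧸ N) :=
      Group.isSolvable_of_surjective (f := (QuotientGroup.mk' N).comp (T : Subgroup ↥C).subtype)
        (fun x => by
          obtain ⟨g, rfl⟩ := QuotientGroup.mk'_surjective N x
          obtain ⟨⟨⟨n, hn⟩, t⟩, e⟩ := hc.2 g
          refine ⟨t, ?_⟩
          show ((t : ↥C) : ↥C ⧸ N) = (g : ↥C ⧸ N)
          rw [← e]
          show _ = (((n * (t : ↥C)) : ↥C) : ↥C ⧸ N)
          rw [QuotientGroup.mk_mul, (QuotientGroup.eq_one_iff n).2 hn, one_mul])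
    exact Group.isSolvable_of_ker_le_range N.subtype (QuotientGroup.mk' N)
      (by rw [QuotientGroup.ker_mk', N.range_subtype])

end CfsgLib.FTRows
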