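import Cfsg.Agent.FTRows.PiSep
import Cfsg.Agent.FGSA.ClassSizeGraph
import Mathlib

/-!
No class size divisible by four forces solvability, relative to the solvability of groups of odd
order. In a simple group some involution has a conjugate in every subgroup of index at most two of
a Sylow 2-subgroup, so its centraliser would meet every conjugacy class.
-/

set_option autoImplicit false
set_option linter.unusedSectionVars false

universe u

namespace CfsgLib.FTRows.ClassFour

open Subgroup
open scoped Classical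

variable {G : Type u} [Group G] [Finite G]

/-- For an abelian subgroup of odd index in `N`, a nontrivial element with no nontrivial fixed
product has a conjugate in every subgroup of index two. -/
theorem exists_conj_mem {N P : Subgroup G} (hPN : P ≤ N) (hab : ∀ a ∈ P, ∀ b ∈ P, a * b = b * a)
    (hodd : Odd (P.relIndex N)) (hn : ∀ a ∈ P, ∀ g ∈ N, g * a * g⁻¹ ∈ P)
    (hfix : ∀ a ∈ P, (∀ g ∈ N, g * a * g⁻¹ = a) → a = 1)
    {M : Subgroup G} (hM : M ≤ P) (h2 : M.relIndex P = 2) {z : G} (hz : z ∈ P) :
    ∃ g ∈ N, g * z * g⁻¹ ∈ M := by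
  by_contra hne
  push Not at hne
  letI : CommGroup P := { (inferInstance : Group P) with
    mul_comm := fun a b => Subtype.ext (hab a a.2 b b.2) }
  haveI : Fintype (↥N ⧸ P.subgroupOf N) := Fintype.ofFinite _
  let f : ↥N ⧸ P.subgroupOf N → P :=
    Quotient.lift (fun g : N => (⟨(g : G) * z * (g : G)⁻¹, hn z hz g g.2⟩ : P)) fun g g' hgg => by
      apply Subtype.ext
      have h1 : ((g⁻¹ * g' : N) : G) ∈ P := Subgroup.mem_subgroupOf.1 (QuotientGroup.leftRel_apply.1 hgg)
      have e : g' = g * (g⁻¹ * g') := (mul_inv_cancel_left g g').symm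
      show (g : G) * z * (g : G)⁻¹ = (g' : G) * z * (g' : G)⁻¹
      rw [e]
      push_cast
      have e2 := hab _ h1 z hz
      push_cast at e2
      calc (g : G) * z * (g : G)⁻¹ = (g : G) * (z * ((g : G)⁻¹ * g')) * ((g : G)⁻¹ * g')⁻¹ * (g : G)⁻¹ := by
            group
        _ = _ := by rw [← e2]; group
  set u : P := ∏ c, f c with hu
  have hu1 : u = 1 := by
    apply Subtype.ext
    refine hfix u u.2 fun g hg => ?_
    let γ : P →* P :=
      { toFun := fun a => ⟨g * a * g⁻¹, hn a a.2 g hg⟩
        map_one' := Subtype.ext (by simp)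
        map_mul' := fun a b => Subtype.ext (by
          show g * ((a : G) * b) * g⁻¹ = g * a * g⁻¹ * (g * b * g⁻¹)
          group) }
    have h1 : γ u = u := by
      rw [hu, map_prod]
      refine Fintype.prod_equiv (MulAction.toPerm (⟨g, hg⟩ : N)) _ _ fun c => ?_
      induction c using QuotientGroup.induction_on with
      | _ h =>
      apply Subtype.ext
      show g * ((h : G) * z * (h : G)⁻¹) * g⁻¹ = (g * (h : G)) * z * (g * (h : G))⁻¹
      group
    exact congrArg Subtype.val h1
  have h2' : (M.subgroupOf P).index = 2 := h2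
  haveI : (M.subgroupOf P).Normal := Subgroup.normal_of_index_eq_two h2'
  have hnot : ∀ c, f c ∉ M.subgroupOf P := by
    intro c
    induction c using QuotientGroup.induction_on with
    | _ h => exact fun hm => hne h h.2 (Subgroup.mem_subgroupOf.1 hm)
  have key : ∀ s : Finset (↥N ⧸ P.subgroupOf N),
      ((∏ c ∈ s, f c) ∈ M.subgroupOf P ↔ Even s.card) := by
    intro s
    induction s using Finset.induction_on with
    | empty => simp
    | insert c s hc ih =>
      rw [Finset.prod_insert hc, Finset.card_insert_of_notMem hc,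
        Subgroup.mul_mem_iff_of_index_two h2', Nat.even_add_one]
      simp only [hnot c, false_iff, ih]
  have h3 := (key Finset.univ).1 (by rw [← hu, hu1]; exact one_mem _)
  rw [Finset.card_univ, ← Nat.card_eq_fintype_card] at h3
  exact (Nat.not_even_iff_odd.2 hodd) h3

/-- Centralisers in a normal subgroup. -/
theorem relIndex_centralizer_dvd (N C : Subgroup G) [N.Normal] : C.relIndex N ∣ C.index := by
  obtain ⟨m, hm⟩ := Subgroup.relIndex_dvd_index_of_normal N C
  have h1 : (C ⊓ N).relIndex N * N.index = (C ⊓ N).index := Subgroup.relIndex_mul_index inf_le_right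
  have h2 : (C ⊓ N).relIndex C * C.index = (C ⊓ N).index := Subgroup.relIndex_mul_index inf_le_left
  rw [Subgroup.inf_relIndex_right] at h1
  rw [Subgroup.inf_relIndex_left, ← h1, hm] at h2
  refine ⟨m, ?_⟩
  have hpos : 0 < N.relIndex C := Nat.pos_of_ne_zero fun e => by
    rw [e, zero_mul] at hm
    exact N.index_ne_zero_of_finite hm
  apply Nat.eq_of_mul_eq_mul_left hpos
  rw [h2]; ring

/-- The hypothesis. -/
def NoFour (G : Type u) [Group G] : Prop :=
  ∀ x : G, ¬ 4 ∣ (Subgroup.centralizer ({x} : Set G)).index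

theorem NoFour.normal (h : NoFour G) (N : Subgroup G) [N.Normal] : NoFour N := by
  intro x h4
  refine h x (h4.trans ?_)
  have e : Subgroup.centralizer ({x} : Set N) =
      (Subgroup.centralizer ({(x : G)} : Set G)).subgroupOf N := by
    ext y
    rw [Subgroup.mem_subgroupOf, Subgroup.mem_centralizer_singleton_iff,
      Subgroup.mem_centralizer_singleton_iff]
    exact Subtype.ext_iff
  rw [e]
  exact relIndex_centralizer_dvd N _

theorem NoFour.quotient (h : NoFour G) (N : Subgroup G) [N.Normal] : NoFour (G ⧸ N) := by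
  intro x h4
  induction x using QuotientGroup.induction_on with
  | _ g =>
  refine h g (h4.trans ?_)
  refine (Subgroup.index_dvd_of_le ?_).trans
    (Subgroup.index_map_dvd _ (QuotientGroup.mk'_surjective N))
  rintro _ ⟨y, hy, rfl⟩
  rw [Subgroup.mem_centralizer_singleton_iff]
  show (y : G ⧸ N) * g = g * y
  rw [← QuotientGroup.mk_mul, Subgroup.mem_centralizer_singleton_iff.1 hy, QuotientGroup.mk_mul]

/-- A simple group of even order has an involution class meeting every subgroup of index at most
two of a Sylow 2-subgroup. -/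
theorem exists_class [IsSimpleGroup G] (hne : ¬ ∀ a b : G, a * b = b * a) (P : Sylow 2 G)
    (hP : (P : Subgroup G) ≠ ⊥) :
    ∃ z : G, z ≠ 1 ∧ ∀ M : Subgroup G, M ≤ (P : Subgroup G) → M.relIndex (P : Subgroup G) ∣ 2 →
      ∃ g : G, g * z * g⁻¹ ∈ M := by
  haveI : Fact (Nat.Prime 2) := ⟨Nat.prime_two⟩
  by_cases hsq : ∃ x ∈ (P : Subgroup G), x ^ 2 ≠ 1
  · obtain ⟨x, hx, hx2⟩ := hsq
    refine ⟨x ^ 2, hx2, fun M hM hd => ⟨1, ?_⟩⟩
    rw [one_mul, inv_one, mul_one]
    rcases (Nat.dvd_prime Nat.prime_two).1 hd with h1 | h1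
    · exact pow_mem (Subgroup.relIndex_eq_one.1 h1 hx) 2
    · haveI : (M.subgroupOf (P : Subgroup G)).Normal := Subgroup.normal_of_index_eq_two h1
      exact Subgroup.mem_subgroupOf.1 (Subgroup.sq_mem_of_index_two h1 ⟨x, hx⟩)
  · push Not at hsq
    have hab : ∀ a ∈ (P : Subgroup G), ∀ b ∈ (P : Subgroup G), a * b = b * a := by
      intro a ha b hb
      have h1 := hsq _ (mul_mem ha hb)
      have ea := hsq a ha
      have eb := hsq b hb
      rw [sq] at h1 ea eb
      calc a * b = a * ((a * b) * (a * b)) * b := by rw [h1, mul_one]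
        _ = a * a * (b * a) * (b * b) := by group
        _ = b * a := by rw [ea, eb, one_mul, mul_one]
    set N := Subgroup.normalizer ((P : Subgroup G) : Set G)
    have hfix : ∀ a ∈ (P : Subgroup G), (∀ g ∈ N, g * a * g⁻¹ = a) → a = 1 := by
      intro a ha hcent
      letI : CommGroup (P : Subgroup G) := { (inferInstance : Group (P : Subgroup G)) with
        mul_comm := fun a b => Subtype.ext (hab a a.2 b b.2) }
      have htr : ∀ (k : ℕ) (g₀ : G), g₀⁻¹ * a ^ k * g₀ ∈ (P : Subgroup G) → g₀⁻¹ * a ^ k * g₀ = a ^ k := by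
        intro k g₀ hk
        obtain ⟨g, hg, e⟩ := P.conj_eq_normalizer_conj_of_mem (a ^ k) g₀
          (pow_mem ha k) hk
        rw [e, ← mul_inv_cancel_right (g⁻¹ * a ^ k) g]
        have h1 : g⁻¹ * a * g = a := by
          have := hcent g⁻¹ (inv_mem hg)
          rwa [inv_inv] at this
        have h2 : g⁻¹ * a ^ k * g = a ^ k := by
          have := conj_pow (i := k) (a := g⁻¹) (b := a)
          rw [inv_inv, h1] at this
          exact this.symm
        rw [mul_inv_cancel_right]
        exact h2
      haveI := hne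
      let V : G →* (P : Subgroup G) := MonoidHom.transfer (MonoidHom.id (P : Subgroup G))
      have hVker : V.ker = ⊤ := by
        rcases IsSimpleGroup.eq_bot_or_eq_top_of_normal V.ker inferInstance with h0 | h0
        · exfalso
          refine hne fun x y => ((MonoidHom.ker_eq_bot_iff V).1 h0) ?_
          rw [map_mul, map_mul, mul_comm]
        · exact h0
      have h1 : V a = 1 := MonoidHom.mem_ker.1 (hVker ▸ Subgroup.mem_top a)
      rw [MonoidHom.transfer_eq_pow _ a htr] at h1
      have h2 : a ^ (P : Subgroup G).index = 1 := congrArg Subtype.val h1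
      obtain ⟨j, hj⟩ := P.2 ⟨a, ha⟩
      rw [← orderOf_eq_one_iff]
      exact Nat.eq_one_of_dvd_coprimes
        (Nat.Coprime.pow_left j (Nat.prime_two.coprime_iff_not_dvd.2 P.not_dvd_index))
        (orderOf_dvd_of_pow_eq_one (congrArg Subtype.val hj)) (orderOf_dvd_of_pow_eq_one h2)
    obtain ⟨z, hz, hz1⟩ : ∃ z ∈ (P : Subgroup G), z ≠ 1 := by
      by_contra hh
      push Not at hh
      exact hP ((Subgroup.eq_bot_iff_forall _).2 hh)
    refine ⟨z, hz1, fun M hM hd => ?_⟩
    rcases (Nat.dvd_prime Nat.prime_two).1 hd with h1 | h1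
    · exact ⟨1, by simpa using Subgroup.relIndex_eq_one.1 h1 hz⟩
    · obtain ⟨g, -, hg⟩ := exists_conj_mem (N := N) Subgroup.le_normalizer hab
        (Nat.not_even_iff_odd.1 fun he => P.not_dvd_index (he.two_dvd.trans
          (Subgroup.relIndex_dvd_index_of_le Subgroup.le_normalizer)))
        (fun a ha g hg => (Subgroup.mem_normalizer_iff.1 hg a).1 ha) hfix hM h1 hz
      exact ⟨g, hg⟩

end CfsgLib.FTRows.ClassFour

namespace CfsgLib.FTRows

/-- S4167 relative to the solvability of groups of odd order. -/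
theorem class_sizes_not_four (hFT : OddSolvable.{u}) :
    ∀ (n : ℕ) (G : Type u) [Group G] [Finite G], Nat.card G = n →
      ClassFour.NoFour G → Group.IsSolvable G := by
  intro n
  induction n using Nat.strong_induction_on with
  | _ n ih =>
  intro G _ _ hn h
  haveI : Fact (Nat.Prime 2) := ⟨Nat.prime_two⟩
  by_cases hN : ∃ N : Subgroup G, N.Normal ∧ N ≠ ⊥ ∧ N ≠ ⊤
  · obtain ⟨N, hNn, h1, h2⟩ := hN
    haveI := hNn
    have hlt : Nat.card N < n := hn ▸ lt_of_le_of_ne N.card_le_card_group
      fun e => h2 (Subgroup.eq_top_of_card_eq N e)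
    haveI := ih _ hlt N rfl (h.normal N)
    haveI := ih _ (hn ▸ CfsgLib.Solvable.card_quotient_lt h1) (G ⧸ N) rfl (h.quotient N)
    exact Group.isSolvable_of_ker_le_range N.subtype (QuotientGroup.mk' N)
      (by rw [QuotientGroup.ker_mk', N.range_subtype])
  push Not at hN
  rcases subsingleton_or_nontrivial G with hs | hs
  · infer_instance
  haveI : IsSimpleGroup G :=
    ⟨fun N hNn => or_iff_not_imp_left.2 (hN N hNn)⟩
  by_cases hab : ∀ a b : G, a * b = b * a
  · exact Group.isSolvable_of_comm hab
  rcases Nat.even_or_odd (Nat.card G) with he | ho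
  swap
  · exact hFT G ho
  exfalso
  obtain ⟨P⟩ : Nonempty (Sylow 2 G) := inferInstance
  have hP : (P : Subgroup G) ≠ ⊥ := fun e => by
    have := P.dvd_card_of_dvd_card he.two_dvd
    rw [e, Subgroup.card_bot] at this
    exact absurd this (by decide)
  obtain ⟨z, hz1, hz⟩ := ClassFour.exists_class hab P hP
  have hcover : ∀ x : G, ∃ g : G, g * x * g⁻¹ ∈ Subgroup.centralizer ({z} : Set G) := by
    intro x
    set C := Subgroup.centralizer ({x} : Set G) with hC
    obtain ⟨Q⟩ : Nonempty (Sylow 2 C) := inferInstance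
    set Q' := (Q : Subgroup C).map C.subtype with hQ'
    obtain ⟨R, hR⟩ := (Q.2.map C.subtype).exists_le_sylow
    obtain ⟨c, hc⟩ := MulAction.exists_smul_eq G R P
    set M := Q'.map (MulAut.conj c).toMonoidHom with hM
    have hMP : M ≤ (P : Subgroup G) := by
      rw [← hc, Sylow.coe_subgroup_smul]
      rintro _ ⟨w, hw, rfl⟩
      exact ⟨w, hR hw, rfl⟩
    have hd : M.relIndex (P : Subgroup G) ∣ 2 := by
      obtain ⟨j, hj⟩ := P.2.index (M.subgroupOf (P : Subgroup G))
      have hdvd : M.relIndex (P : Subgroup G) ∣ C.index * (Q : Subgroup C).index := by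
        have e1 : M.relIndex (P : Subgroup G) * (P : Subgroup G).index = M.index :=
          Subgroup.relIndex_mul_index hMP
        have e2 : M.index = C.index * (Q : Subgroup C).index := by
          apply Nat.eq_of_mul_eq_mul_left (Nat.card_pos (α := M))
          rw [M.card_mul_index, hM, Subgroup.card_map_of_injective (MulAut.conj c).injective, hQ',
            Subgroup.card_map_of_injective C.subtype_injective, mul_left_comm,
            (Q : Subgroup C).card_mul_index, mul_comm, C.card_mul_index]
        exact ⟨_, (e2.symm.trans e1.symm)⟩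
      rw [show M.relIndex (P : Subgroup G) = 2 ^ j from hj] at hdvd ⊢
      have h3 : 2 ^ j ∣ C.index :=
        ((Nat.prime_two.coprime_iff_not_dvd.2 Q.not_dvd_index).pow_left j).dvd_of_dvd_mul_right hdvd
      rcases j with _ | _ | j
      · simp
      · simp
      · exact absurd ((pow_dvd_pow 2 (show 2 ≤ j + 1 + 1 by omega)).trans h3) (h x)
    obtain ⟨g, hg⟩ := hz M hMP hd
    rw [hM, Subgroup.mem_map] at hg
    obtain ⟨w, hw, e⟩ := hg
    have hwC : w * x = x * w :=
      Subgroup.mem_centralizer_singleton_iff.1 (Subgroup.map_subtype_le _ hw)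
    have e' : c * w * c⁻¹ = g * z * g⁻¹ := e
    refine ⟨g⁻¹ * c, Subgroup.mem_centralizer_singleton_iff.2 ?_⟩
    have ez : z = (g⁻¹ * c) * w * (g⁻¹ * c)⁻¹ := by
      calc z = g⁻¹ * (g * z * g⁻¹) * g := by group
        _ = _ := by rw [← e']; group
    calc g⁻¹ * c * x * (g⁻¹ * c)⁻¹ * z = g⁻¹ * c * (x * w) * (g⁻¹ * c)⁻¹ := by rw [ez]; group
      _ = g⁻¹ * c * (w * x) * (g⁻¹ * c)⁻¹ := by rw [hwC]
      _ = z * (g⁻¹ * c * x * (g⁻¹ * c)⁻¹) := by rw [ez]; group
  have htop := CfsgLib.ClassSizeGraph.eq_top_of_forall_conj_mem _ hcover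
  have hzc : z ∈ Subgroup.center G := Subgroup.mem_center_iff.2 fun g =>
    Subgroup.mem_centralizer_singleton_iff.1 (htop ▸ Subgroup.mem_top g)
  rcases IsSimpleGroup.eq_bot_or_eq_top_of_normal (Subgroup.center G) inferInstance with h0 | h0
  · exact hz1 (by rwa [h0, Subgroup.mem_bot] at hzc)
  · exact hab fun a b => (Subgroup.mem_center_iff.1 (h0 ▸ Subgroup.mem_top b) a)

end CfsgLib.FTRows
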