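import Cfsg.Agent.FTRows.PiSep
import Cfsg.Agent.FGSB.Small
import Mathlib

/-!
Pairwise non-coprime class sizes in every subgroup force solvability (S4159), relative to the
solvability of groups of odd order: an element of prime order inverted by a 2-element gives two
coprime class sizes in the subgroup they generate, so no element of odd order is real and the
Sylow 2-subgroup is normal.
-/

set_option autoImplicit false
set_option linter.style.haveILetI false
set_option linter.unusedSectionVars false

universe u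

namespace CfsgLib.FTRows.CommonFactorClass

open Subgroup

variable {G : Type u} [Group G] [Finite G]

/-- The hypothesis of S4159. -/
def NonCoprime (G : Type u) [Group G] : Prop :=
  ∀ (H : Subgroup G) (x y : H), 1 < (centralizer ({x} : Set H)).index →
    1 < (centralizer ({y} : Set H)).index →
    ¬ ((centralizer ({x} : Set H)).index).Coprime (centralizer ({y} : Set H)).index

theorem one_lt_index {H : Type u} [Group H] [Finite H] {a b : H} (hab : a * b ≠ b * a) :
    1 < (centralizer ({a} : Set H)).index :=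
  Subgroup.one_lt_index_of_ne_top fun he => hab (by
    have hb : b ∈ centralizer ({a} : Set H) := he ▸ Subgroup.mem_top b
    exact mem_centralizer_singleton_iff.1 hb ▸ rfl)

/-- No element of prime order is inverted by an element of coprime order unless it is fixed. -/
theorem comm_of_inverted (h : NonCoprime G) {x t : G}
    (hcop : (orderOf x).Coprime (orderOf t)) (htx : t * x * t⁻¹ = x⁻¹) : x * t = t * x := by
  by_contra hne
  set H : Subgroup G := zpowers x ⊔ zpowers t
  have hxH : x ∈ H := le_sup_left (a := zpowers x) (mem_zpowers x)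
  have htH : t ∈ H := le_sup_right (a := zpowers x) (mem_zpowers t)
  have hn : zpowers t ≤ normalizer (zpowers x : Set G) := by
    refine zpowers_le.2 ?_
    rw [mem_normalizer_iff_map_conj_eq, MonoidHom.map_zpowers]
    simp [htx]
  have hcard : Nat.card H ∣ orderOf x * orderOf t := by
    rw [← Nat.card_zpowers x, ← Nat.card_zpowers t]
    have := CfsgLib.Solvable.card_sup_mul_card_inf hn
    rw [sup_comm (zpowers t)] at this
    exact Dvd.intro _ (by rw [this, mul_comm])
  have key : ∀ {a : G} (ha : a ∈ H) (b : ℕ), Nat.card H ∣ orderOf a * b →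
      (centralizer ({(⟨a, ha⟩ : H)} : Set H)).index ∣ b := by
    intro a ha b hb
    have h1 : orderOf a ∣ Nat.card (centralizer ({(⟨a, ha⟩ : H)} : Set H)) := by
      rw [← Subgroup.orderOf_mk (a := a) ha, ← Nat.card_zpowers (⟨a, ha⟩ : H)]
      exact card_dvd_of_le (zpowers_le.2 (mem_centralizer_singleton_iff.2 rfl))
    obtain ⟨k, hk⟩ := h1
    rw [← Subgroup.card_mul_index (centralizer ({(⟨a, ha⟩ : H)} : Set H)), hk, mul_assoc] at hb
    exact (dvd_mul_left _ _).trans (Nat.dvd_of_mul_dvd_mul_left (orderOf_pos a) hb)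
  have hne' : (⟨x, hxH⟩ : H) * ⟨t, htH⟩ ≠ ⟨t, htH⟩ * ⟨x, hxH⟩ := fun he =>
    hne (congrArg Subtype.val he)
  exact h H ⟨x, hxH⟩ ⟨t, htH⟩ (one_lt_index hne') (one_lt_index fun he => hne' he.symm)
    (Nat.Coprime.coprime_dvd_left (key hxH (orderOf t) hcard)
      (Nat.Coprime.coprime_dvd_right (key htH (orderOf x) (by rwa [mul_comm])) hcop.symm))

/-- No non-trivial element of odd order is inverted. -/
theorem no_inverted (h : NonCoprime G) {x g : G} (hx : Odd (orderOf x))
    (hgx : g * x * g⁻¹ = x⁻¹) : x = 1 := by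
  obtain ⟨k, m, hm, he⟩ := Nat.exists_eq_two_pow_mul_odd (orderOf_pos g).ne'
  have key : ∀ n : ℕ, (g ^ 2) ^ n * x * ((g ^ 2) ^ n)⁻¹ = x := by
    intro n
    induction n with
    | zero => simp
    | succ n ih =>
      calc (g ^ 2) ^ (n + 1) * x * ((g ^ 2) ^ (n + 1))⁻¹
          = (g ^ 2) ^ n * (g * (g * x * g⁻¹) * g⁻¹) * ((g ^ 2) ^ n)⁻¹ := by
            rw [pow_succ, sq]; group
        _ = x := by rw [hgx, ← conj_inv, hgx, inv_inv, ih]
  obtain ⟨r, hr⟩ := hm
  have ht : g ^ m * x * (g ^ m)⁻¹ = x⁻¹ := by
    calc g ^ m * x * (g ^ m)⁻¹ = g * ((g ^ 2) ^ r * x * ((g ^ 2) ^ r)⁻¹) * g⁻¹ := by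
          rw [hr, pow_succ', pow_mul]; group
      _ = x⁻¹ := by rw [key, hgx]
  have hord : orderOf (g ^ m) = 2 ^ k := by
    rw [orderOf_pow, he, Nat.gcd_mul_left_left, Nat.mul_div_cancel _ (by omega)]
  have hcomm := comm_of_inverted h (x := x) (t := g ^ m)
    (by rw [hord]; exact hx.coprime_two_right.pow_right k) ht
  have hxx : x = x⁻¹ := by
    rw [← ht, ← hcomm, mul_assoc, mul_inv_cancel, mul_one]
  have h2 : orderOf x ∣ 2 := orderOf_dvd_of_pow_eq_one (by rw [sq]; nth_rewrite 2 [hxx]; simp)
  refine orderOf_eq_one_iff.1 ?_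
  rcases (Nat.dvd_prime Nat.prime_two).1 h2 with h1 | h1
  · exact h1
  · rw [h1] at hx; exact absurd hx (by decide)

theorem isSolvable (hFT : OddSolvable.{u}) (h : NonCoprime G) : Group.IsSolvable G := by
  have P : Sylow 2 G := default
  haveI := Fact.mk Nat.prime_two
  haveI hn : (P : Subgroup G).Normal :=
    CfsgLib.FGSBSmall.sylow_two_normal_of_no_inverted (fun _ _ hx hg => no_inverted h hx hg) P
  haveI : Group.IsNilpotent (P : Subgroup G) := P.isPGroup'.isNilpotent
  haveI : Group.IsSolvable (P : Subgroup G) := inferInstance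
  haveI : Group.IsSolvable (G ⧸ (P : Subgroup G)) := hFT _ (by
    rw [← Subgroup.index_eq_card]
    exact Nat.not_even_iff_odd.1 fun he => P.not_dvd_index (even_iff_two_dvd.1 he))
  exact Group.isSolvable_of_ker_le_range (P : Subgroup G).subtype
    (QuotientGroup.mk' (P : Subgroup G))
    (by rw [Subgroup.range_subtype, QuotientGroup.ker_mk'])

end CfsgLib.FTRows.CommonFactorClass
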