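import Cfsg.Agent.FTRows.PiSep
import Cfsg.Agent.ZJ.Constrained
import Cfsg.Agent.FGSB.NilMaximal
import Cfsg.Agent.Coprime.Sylow

/-!
Coprime action with all invariant proper subgroups nilpotent (S4240), relative to the solvability
of groups of odd order.
-/

set_option autoImplicit false
set_option linter.style.haveILetI false

universe u v

namespace CfsgLib.FTRows

open Subgroup Pointwise CfsgLib.Coprime

variable {A : Type v} [Group A] [Finite A] {G : Type u} [Group G] [Finite G]
  [MulDistribMulAction A G]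

/-- An invariant Sylow subgroup for a coprime action on a solvable group. -/
theorem exists_invariant_sylow_of_solvable [Group.IsSolvable G]
    (hcop : (Nat.card A).Coprime (Nat.card G)) (p : ℕ) [Fact p.Prime] :
    ∃ P : Sylow p G, IsInvariant A (P : Subgroup G) := by
  set φ := MulDistribMulAction.toMulAut A G
  haveI : Finite (G ⋊[φ] A) := Finite.of_equiv _ SemidirectProduct.equivProd.symm
  letI : MulAction (G ⋊[φ] A) (Sylow p G) :=
    { smul := fun w P => w.left • (w.right • P)
      one_smul := fun P => by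
        show (1 : G ⋊[φ] A).left • ((1 : G ⋊[φ] A).right • P) = P
        rw [SemidirectProduct.one_left, SemidirectProduct.one_right, one_smul, one_smul]
      mul_smul := fun v w P => by
        show (v * w).left • ((v * w).right • P) = v.left • (v.right • (w.left • (w.right • P)))
        rw [SemidirectProduct.mul_left, SemidirectProduct.mul_right, smul_sylow_smul, mul_smul,
          mul_smul]
        rfl }
  set Ab : Subgroup (G ⋊[φ] A) := (SemidirectProduct.inr (φ := φ)).range
  set Kb : Subgroup (G ⋊[φ] A) := (SemidirectProduct.inl (φ := φ)).range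
  haveI : Kb.Normal := by
    show ((SemidirectProduct.inl (φ := φ)).range).Normal
    rw [SemidirectProduct.range_inl_eq_ker_rightHom]; infer_instance
  have hcA : Nat.card Ab = Nat.card A :=
    (Nat.card_congr (MonoidHom.ofInjective SemidirectProduct.inr_injective).toEquiv).symm
  have hcK : Nat.card Kb = Nat.card G :=
    (Nat.card_congr (MonoidHom.ofInjective SemidirectProduct.inl_injective).toEquiv).symm
  have hKs : Group.IsSolvable Kb :=
    Group.isSolvable_of_surjective (f := (SemidirectProduct.inl (φ := φ)).rangeRestrict)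
      (MonoidHom.rangeRestrict_surjective _)
  have hinl : ∀ (g : G) (P : Sylow p G), (SemidirectProduct.inl g : G ⋊[φ] A) • P = g • P :=
    fun g P => by
      show (SemidirectProduct.inl g : G ⋊[φ] A).left •
        ((SemidirectProduct.inl g : G ⋊[φ] A).right • P) = g • P
      simp
  have hinr : ∀ (a : A) (P : Sylow p G), (SemidirectProduct.inr a : G ⋊[φ] A) • P = a • P :=
    fun a P => by
      show (SemidirectProduct.inr a : G ⋊[φ] A).left •
        ((SemidirectProduct.inr a : G ⋊[φ] A).right • P) = a • P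
      simp
  obtain ⟨P, -, hP⟩ := CfsgLib.SZ.exists_fixed (A := Ab) (K := Kb)
    (by rw [Subgroup.normalizer_eq_top]; exact le_top) (by rw [hcA, hcK]; exact hcop)
    (Or.inr hKs) (Set.univ : Set (Sylow p G)) Set.univ_nonempty
    (fun _ _ _ _ => Set.mem_univ _)
    (fun P _ Q _ => by
      obtain ⟨g, hg⟩ := MulAction.exists_smul_eq G P Q
      exact ⟨_, ⟨g, rfl⟩, by rw [hinl, hg]⟩)
    (fun _ _ _ _ => Set.mem_univ _)
  refine ⟨P, isInvariant_of_smul_eq fun a => ?_⟩
  conv_rhs => rw [← hP _ ⟨a, rfl⟩, hinr]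
  rfl

theorem exists_invariant_sylow_or (h : Group.IsSolvable A ∨ Group.IsSolvable G)
    (hcop : (Nat.card A).Coprime (Nat.card G)) (p : ℕ) [Fact p.Prime] :
    ∃ P : Sylow p G, IsInvariant A (P : Subgroup G) := by
  rcases h with h | h <;> haveI := h
  · exact exists_invariant_sylow hcop p
  · exact exists_invariant_sylow_of_solvable hcop p

theorem isInvariant_of_map_eq {U : Subgroup G}
    (h : ∀ a : A, U.map (MulDistribMulAction.toMonoidHom G a) = U) : IsInvariant A U :=
  fun a x hx => h a ▸ mem_map_of_mem (MulDistribMulAction.toMonoidHom G a) hx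

theorem map_eq_of_isInvariant {U : Subgroup G} (h : IsInvariant A U) (a : A) :
    U.map (MulDistribMulAction.toMonoidHom G a) = U := by
  refine le_antisymm (map_le_iff_le_comap.2 fun x hx => h a x hx) fun x hx => ?_
  exact ⟨a⁻¹ • x, h a⁻¹ x hx, smul_inv_smul a x⟩

theorem isInvariant_centerThompson {P : Subgroup G} (hP : IsInvariant A P) :
    IsInvariant A (Cfsg.centerThompsonAOf P) := by
  refine isInvariant_of_map_eq fun a => ?_
  have hz := CfsgLib.ZJ.centerThompsonAOf_map (MulDistribMulAction.toMonoidHom G a) P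
    fun x _ hx => by
      simpa using congrArg (fun y => a⁻¹ • y)
        (show a • x = 1 from hx)
  rw [map_eq_of_isInvariant hP a] at hz
  exact hz.symm

theorem isInvariant_normalizer {U : Subgroup G} (hU : IsInvariant A U) :
    IsInvariant A (normalizer (U : Set G)) := by
  intro a n hn
  refine mem_normalizer_iff.2 fun x => ?_
  have h := mem_normalizer_iff.1 hn (a⁻¹ • x)
  rw [smul_subgroup_mem_iff hU] at h
  rw [h, ← smul_subgroup_mem_iff hU a]
  simp [smul_mul', smul_inv']

/-- The action on the quotient by an invariant normal subgroup. -/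
@[reducible] def quotAction (N : Subgroup G) [N.Normal] (hN : IsInvariant A N) :
    MulDistribMulAction A (G ⧸ N) where
  smul a := QuotientGroup.map N N (MulDistribMulAction.toMonoidHom G a) (fun x hx => hN a x hx)
  one_smul x := by
    induction x using QuotientGroup.induction_on with
    | _ g => exact congrArg (QuotientGroup.mk (s := N)) (one_smul A g)
  mul_smul a b x := by
    induction x using QuotientGroup.induction_on with
    | _ g => exact congrArg (QuotientGroup.mk (s := N)) (mul_smul a b g)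
  smul_mul a x y := map_mul (QuotientGroup.map N N (MulDistribMulAction.toMonoidHom G a)
    (fun x hx => hN a x hx)) x y
  smul_one a := map_one (QuotientGroup.map N N (MulDistribMulAction.toMonoidHom G a)
    (fun x hx => hN a x hx))

/-- All proper invariant subgroups are nilpotent. -/
def InvNilp (A : Type v) (G : Type u) [Group A] [Group G] [MulDistribMulAction A G] : Prop :=
  ∀ H : Subgroup G, IsInvariant A H → H ≠ ⊤ → Group.IsNilpotent H

theorem isSolvable_of_invNilp (hu : OddSolvable.{u}) (hv : OddSolvable.{v}) :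
    ∀ (n : ℕ) (G : Type u) [Group G] [Finite G] [MulDistribMulAction A G], Nat.card G = n →
      (Nat.card A).Coprime (Nat.card G) → InvNilp A G → Group.IsSolvable G := by
  intro n
  induction n using Nat.strong_induction_on with
  | _ n ih =>
  intro G _ _ _ hn hcop hmin
  by_cases hN : ∃ N : Subgroup G, N.Normal ∧ IsInvariant A N ∧ N ≠ ⊥ ∧ N ≠ ⊤
  · obtain ⟨N, hNn, hNi, hN1, hN2⟩ := hN
    haveI := hNn
    haveI := hmin N hNi hN2
    letI := quotAction N hNi
    have hlt : Nat.card (G ⧸ N) < n := hn ▸ CfsgLib.Solvable.card_quotient_lt hN1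
    have hQ : Group.IsSolvable (G ⧸ N) := by
      refine ih _ hlt (G ⧸ N) rfl (hcop.coprime_dvd_right ?_) fun H hH hHt => ?_
      · exact N.card_quotient_dvd_card
      · have h1 : IsInvariant A (H.comap (QuotientGroup.mk' N)) := fun a x hx => hH a _ hx
        have h2 : H.comap (QuotientGroup.mk' N) ≠ ⊤ := fun e => hHt (by
          rw [← Subgroup.map_comap_eq_self_of_surjective (QuotientGroup.mk'_surjective N) H, e,
            Subgroup.map_top_of_surjective _ (QuotientGroup.mk'_surjective N)])
        haveI := hmin _ h1 h2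
        exact Group.nilpotent_of_surjective ((QuotientGroup.mk' N).subgroupComap H)
          ((QuotientGroup.mk' N).subgroupComap_surjective_of_surjective H
            (QuotientGroup.mk'_surjective N))
    exact Group.isSolvable_of_ker_le_range N.subtype (QuotientGroup.mk' N)
      (by rw [QuotientGroup.ker_mk', N.range_subtype])
  push Not at hN
  by_contra hns
  have hA : Group.IsSolvable A := (solvable_or_of_coprime hv hu hcop).resolve_right hns
  have hnp : ∀ p : ℕ, p.Prime → ¬ IsPGroup p G := fun p hp hG => by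
    haveI := Fact.mk hp
    haveI := hG.isNilpotent
    exact hns inferInstance
  obtain ⟨p, hp, hpG, hp2⟩ : ∃ p : ℕ, p.Prime ∧ p ∣ Nat.card G ∧ p ≠ 2 := by
    by_contra h
    push Not at h
    exact hnp 2 Nat.prime_two (IsPGroup.of_card (n := (Nat.card G).primeFactorsList.length)
      (Nat.eq_prime_pow_of_unique_prime_dvd Nat.card_pos.ne' fun {d} hd hdd => h d hd hdd))
  haveI := Fact.mk hp
  obtain ⟨P, hP⟩ := exists_invariant_sylow (A := A) hcop p
  set Z := Cfsg.centerThompsonAOf (P : Subgroup G)
  have hPne : (P : Subgroup G) ≠ ⊥ := fun e => hp.not_dvd_one (by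
    simpa [e] using P.dvd_card_of_dvd_card hpG)
  have hZ1 : Z ≠ ⊥ := CfsgLib.Fusion.centerThompsonAOf_ne_bot P.2 hPne
  have hZP : Z ≤ (P : Subgroup G) := inf_le_left.trans (by
    rw [Cfsg.thompsonSubgroupAOf]; exact map_subtype_le _)
  have hZi := isInvariant_centerThompson (A := A) hP
  have hNt : normalizer (Z : Set G) ≠ ⊤ := fun e => by
    have := hN Z (normalizer_eq_top_iff.1 e) hZi hZ1
    refine hnp p hp (P.2.of_surjective (P : Subgroup G).subtype fun g => ⟨⟨g, hZP ?_⟩, rfl⟩)
    rw [this]; exact mem_top g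
  haveI := hmin _ (isInvariant_normalizer hZi) hNt
  obtain ⟨S, K, hKn, hKc⟩ :=
    CfsgLib.FGSA.GT.hasNormalPComplement hp2 P CfsgLib.FGSA.GT.npc_of_isNilpotent
  haveI := hKn
  have hKi : IsInvariant A K := fun a k hk => by
    have hKp : ¬ p ∣ Nat.card K := by
      rw [← hKc.index_eq_card]; exact S.not_dvd_index
    have h1 : orderOf (a • k) = orderOf k :=
      MulEquiv.orderOf_eq (MulDistribMulAction.toMulEquiv G a) k
    rw [← QuotientGroup.eq_one_iff, ← orderOf_eq_one_iff]
    refine Nat.eq_one_of_dvd_coprimes (k := orderOf ((a • k : G) : G ⧸ K))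
      (a := K.index) (b := Nat.card K) ?_ ?_ ?_
    · rw [hKc.symm.index_eq_card]
      obtain ⟨m, hm⟩ := IsPGroup.iff_card.1 S.2
      rw [hm]
      exact (hp.coprime_iff_not_dvd.2 hKp).pow_left m
    · exact K.index_eq_card ▸ orderOf_dvd_natCard _
    · exact (orderOf_map_dvd (QuotientGroup.mk' K) _).trans
        (h1 ▸ (Subgroup.orderOf_mk k hk ▸ orderOf_dvd_natCard (⟨k, hk⟩ : K)))
  rcases eq_or_ne K ⊥ with h | h
  · refine hnp p hp (S.2.of_surjective (S : Subgroup G).subtype fun g => ?_)
    have hT : (S : Subgroup G) = ⊤ := by simpa [h] using hKc.sup_eq_top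
    exact ⟨⟨g, hT ▸ mem_top g⟩, rfl⟩
  · have h1 := hN K hKn hKi h
    have h2 : (S : Subgroup G) = ⊥ := by simpa [h1] using hKc.disjoint.eq_bot
    exact hp.not_dvd_one (by simpa [h2] using S.dvd_card_of_dvd_card hpG)

/-- Statement of S4240. -/
theorem nilMax_structure (hu : OddSolvable.{u}) (hv : OddSolvable.{v})
    (hcop : (Nat.card A).Coprime (Nat.card G))
    (hmax : ∀ H : Subgroup G, H ≠ ⊤ → (∀ a : A, ∀ x ∈ H, a • x ∈ H) →
      (∀ K : Subgroup G, H < K → (∀ a : A, ∀ x ∈ K, a • x ∈ K) → K = ⊤) → Group.IsNilpotent H)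
    (hG : ¬ Group.IsNilpotent G) :
    Group.IsSolvable G ∧
      (∃ p q a b : ℕ, p.Prime ∧ q.Prime ∧ p ≠ q ∧ Nat.card G = p ^ a * q ^ b) ∧
      ∃ (p : ℕ) (P : Sylow p G), p.Prime ∧ p ∣ Nat.card G ∧ (P : Subgroup G).Normal ∧
        (∀ a : A, ∀ x ∈ (P : Subgroup G), a • x ∈ (P : Subgroup G)) := by
  have hmin : InvNilp A G := fun H hH hHt => by
    obtain ⟨M, hHM, hM⟩ := (Set.toFinite {K : Subgroup G | IsInvariant A K ∧ K ≠ ⊤}).exists_le_maximal
      (show H ∈ {K : Subgroup G | IsInvariant A K ∧ K ≠ ⊤} from ⟨hH, hHt⟩)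
    haveI := hmax M hM.1.2 hM.1.1 fun K hMK hK => by
      by_contra hKt
      exact hMK.not_ge (hM.2 ⟨hK, hKt⟩ hMK.le)
    exact Group.nilpotent_of_mulEquiv (subgroupOfEquivOfLe hHM)
  haveI hsolv := isSolvable_of_invNilp (A := A) hu hv _ G rfl hcop hmin
  haveI : Nontrivial G := by
    by_contra h
    rw [not_nontrivial_iff_subsingleton] at h
    exact hG inferInstance
  set D := (⁅(⊤ : Subgroup G), ⊤⁆ : Subgroup G) with hD
  have hDt : D ≠ ⊤ := (Group.IsSolvable.commutator_lt_top_of_nontrivial G).ne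
  haveI hDc : D.Characteristic := Subgroup.commutator_characteristic ⊤ ⊤
  have hDi : IsInvariant A D := IsInvariant.of_characteristic D
  have hsyl : ∀ r : Nat.Primes, ∃ P : Sylow (r : ℕ) G, IsInvariant A (P : Subgroup G) := fun r => by
    haveI := Fact.mk r.2
    exact exists_invariant_sylow_of_solvable hcop r
  choose P hP using hsyl
  -- a Sylow subgroup is normal unless it covers `G ⧸ D`
  have hnorm : ∀ r : Nat.Primes, D ⊔ (P r : Subgroup G) ≠ ⊤ → (P r : Subgroup G).Normal := by
    intro r hr
    haveI := Fact.mk r.2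
    haveI := hmin _ (hDi.sup (hP r)) hr
    haveI hXn : (D ⊔ (P r : Subgroup G)).Normal := ⟨fun x hx g => by
      have h1 : g * x * g⁻¹ * x⁻¹ ∈ D := commutator_mem_commutator (mem_top g) (mem_top x)
      simpa using mul_mem (mem_sup_left (T := (P r : Subgroup G)) h1) hx⟩
    have hle : (P r : Subgroup G) ≤ D ⊔ (P r : Subgroup G) := le_sup_right
    haveI : ((P r).subtype hle : Subgroup ↥(D ⊔ (P r : Subgroup G))).Characteristic :=
      Sylow.characteristic_of_normal _ (by
        exact Sylow.normal_of_normalizerCondition Group.normalizerCondition_of_isNilpotent _)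
    have h2 := ConjAct.normal_of_characteristic_of_normal (H := D ⊔ (P r : Subgroup G))
      (K := (((P r).subtype hle : Sylow (r : ℕ) _) : Subgroup _))
    rwa [Sylow.coe_subtype, map_subgroupOf_eq_of_le hle] at h2
  have hsuptop : (⨆ r : Nat.Primes, (P r : Subgroup G)) = ⊤ :=
    CfsgLib.Solvable.iSup_sylow_eq_top P
  have hnall : ¬ ∀ r : Nat.Primes, (P r : Subgroup G).Normal := fun h => hG (by
    refine ((Group.isNilpotent_of_finite_tfae (G := G)).out 3 0).1 ?_
    intro p _ S
    haveI : Fact p.Prime := ‹_›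
    haveI := h ⟨p, Fact.out⟩
    obtain ⟨g, hg⟩ := MulAction.exists_smul_eq G (P ⟨p, Fact.out⟩) S
    rw [← hg, Sylow.smul_eq_of_normal (g := g) (P := P ⟨p, Fact.out⟩)]
    exact this)
  push Not at hnall
  obtain ⟨q, hq⟩ := hnall
  haveI := Fact.mk q.2
  have hqt : D ⊔ (P q : Subgroup G) = ⊤ := by_contra fun h => hq (hnorm q h)
  have hother : ∀ r : Nat.Primes, r ≠ q → (P r : Subgroup G).Normal := fun r hr => by
    haveI := Fact.mk r.2
    refine hnorm r fun h => hDt ?_
    have key : ∀ s : Nat.Primes, D ⊔ (P s : Subgroup G) = ⊤ →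
        D.index ∣ Nat.card (P s : Subgroup G) := fun s hs => by
      have h1 := CfsgLib.Solvable.card_sup_mul_card_inf (A := (P s : Subgroup G)) (K := D)
        (by rw [Subgroup.normalizer_eq_top]; exact le_top)
      rw [sup_comm, hs, card_top, ← D.card_mul_index] at h1
      refine ⟨Nat.card ↥((P s : Subgroup G) ⊓ D), ?_⟩
      exact Nat.eq_of_mul_eq_mul_left (Nat.card_pos (α := D)) (by rw [mul_comm _ (Nat.card _), ← h1, mul_assoc])
    refine index_eq_one.1 (Nat.eq_one_of_dvd_coprimes ?_ (key r h) (key q hqt))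
    obtain ⟨i, hi⟩ := IsPGroup.iff_card.1 (P r).2
    obtain ⟨j, hj⟩ := IsPGroup.iff_card.1 (P q).2
    rw [hi, hj]
    exact Nat.coprime_pow_primes i j r.2 q.2 fun e => hr (Subtype.ext e)
  obtain ⟨r, hrq, hrG⟩ : ∃ r : Nat.Primes, r ≠ q ∧ (r : ℕ) ∣ Nat.card G := by
    by_contra h
    push Not at h
    refine hG ((IsPGroup.of_card (p := (q : ℕ)) (n := (Nat.card G).primeFactorsList.length)
      (Nat.eq_prime_pow_of_unique_prime_dvd Nat.card_pos.ne' fun {d} hd hdd => ?_)).isNilpotent)
    by_contra hne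
    exact h ⟨d, hd⟩ (fun e => hne (congrArg Subtype.val e)) hdd
  haveI := Fact.mk r.2
  have hothers : ∀ s : Nat.Primes, s ≠ q → s ≠ r → (s : ℕ) ∣ Nat.card G → False := by
    intro s hsq hsr hsG
    refine hq (normalizer_eq_top_iff.1 (top_le_iff.1 (hsuptop ▸ iSup_le fun t => ?_)))
    haveI := Fact.mk t.2
    by_cases htq : t = q
    · subst htq; exact le_normalizer
    haveI := hother t htq
    set Y := (P q : Subgroup G) ⊔ (P t : Subgroup G)
    have hYt : Y ≠ ⊤ := by
      obtain ⟨w, hwq, hwt, hwG⟩ : ∃ w : Nat.Primes, w ≠ q ∧ w ≠ t ∧ (w : ℕ) ∣ Nat.card G := by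
        by_cases hts : t = s
        · exact ⟨r, hrq, fun e => hsr (hts ▸ e.symm), hrG⟩
        · exact ⟨s, hsq, Ne.symm hts, hsG⟩
      intro e
      have h1 := CfsgLib.Solvable.card_sup_dvd (A := (P q : Subgroup G)) (K := (P t : Subgroup G))
        (by rw [Subgroup.normalizer_eq_top]; exact le_top)
      rw [show (P q : Subgroup G) ⊔ (P t : Subgroup G) = ⊤ from e, card_top] at h1
      obtain ⟨i, hi⟩ := IsPGroup.iff_card.1 (P q).2
      obtain ⟨j, hj⟩ := IsPGroup.iff_card.1 (P t).2
      rw [hi, hj] at h1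
      rcases w.2.dvd_mul.1 (hwG.trans h1) with h2 | h2
      · exact hwq (Subtype.ext ((Nat.prime_dvd_prime_iff_eq w.2 q.2).1 (w.2.dvd_of_dvd_pow h2)))
      · exact hwt (Subtype.ext ((Nat.prime_dvd_prime_iff_eq w.2 t.2).1 (w.2.dvd_of_dvd_pow h2)))
    haveI := hmin Y ((hP q).sup (hP t)) hYt
    have hle : (P q : Subgroup G) ≤ Y := le_sup_left
    haveI : ((P q : Subgroup G).subgroupOf Y).Normal := by
      rw [← Sylow.coe_subtype (h := hle)]
      exact Sylow.normal_of_normalizerCondition Group.normalizerCondition_of_isNilpotent _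
    exact le_sup_right.trans ((normal_subgroupOf_iff_le_normalizer hle).1 inferInstance)
  refine ⟨hsolv, ⟨r, q, (Nat.card G).factorization r, (Nat.card G).factorization q, r.2, q.2,
    fun e => hrq (Subtype.ext e), ?_⟩, r, P r, r.2, hrG, hother r hrq, fun a x hx => hP r a x hx⟩
  refine Nat.eq_of_factorization_eq Nat.card_pos.ne' (Nat.mul_ne_zero (pow_ne_zero _ r.2.ne_zero)
    (pow_ne_zero _ q.2.ne_zero)) fun d => ?_
  rw [Nat.factorization_mul (pow_ne_zero _ r.2.ne_zero) (pow_ne_zero _ q.2.ne_zero),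
    r.2.factorization_pow, q.2.factorization_pow]
  simp only [Finsupp.add_apply, Finsupp.single_apply]
  by_cases hdr : (r : ℕ) = d
  · subst hdr
    rw [if_pos rfl, if_neg fun e => hrq (Subtype.ext e.symm), add_zero]
  rw [if_neg hdr, zero_add]
  by_cases hdq : (q : ℕ) = d
  · subst hdq; rw [if_pos rfl]
  rw [if_neg hdq]
  by_cases hd : d.Prime
  · exact Nat.factorization_eq_zero_of_not_dvd fun h => hothers ⟨d, hd⟩
      (fun e => hdq (congrArg Subtype.val e).symm) (fun e => hdr (congrArg Subtype.val e).symm) h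
  · exact Nat.factorization_eq_zero_of_not_prime _ hd

end CfsgLib.FTRows
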