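import Cfsg.Agent.FTRows.PiSep
import Cfsg.Agent.FTRows.MetacyclicSol
import Cfsg.Agent.S3305
import Cfsg.Agent.LocalB.OddSignalizer
import Cfsg.Agent.Comp.Basic
import Cfsg.Agent.Comp.Fitting
import Cfsg.Agent.Invol.IsolatedApps
import Cfsg.Agent.InvChar.UniqueInvolution
import Cfsg.Agent.Zassenhaus.ComplementType
import Cfsg.Agent.Coprime.Basic
import Cfsg.Agent.SylowTwoMeet.Main

/-!
Solvable normal subgroups of groups with cyclic intersections of Sylow 2-subgroups, relative to
the solvability of groups of odd order.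
-/

set_option autoImplicit false
set_option linter.unusedSectionVars false

universe u

namespace CfsgLib.FTRows.CyclicMeet

open Subgroup
open scoped Pointwise

variable {G : Type u} [Group G] [Finite G]

theorem eq_of_invol {U : Subgroup G} (hU : IsCyclic U) {a b : G} (ha : a ∈ U) (hb : b ∈ U)
    (ha2 : a * a = 1) (hb2 : b * b = 1) (ha1 : a ≠ 1) (hb1 : b ≠ 1) : a = b := by
  classical
  by_contra hne
  haveI : Fintype U := Fintype.ofFinite U
  haveI := hU
  have h := IsCyclic.card_pow_eq_one_le (α := U) (n := 2) two_pos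
  have h3 : ({1, ⟨a, ha⟩, ⟨b, hb⟩} : Finset U) ⊆ Finset.univ.filter (fun x => x ^ 2 = 1) := by
    intro x hx
    simp only [Finset.mem_insert, Finset.mem_singleton] at hx
    rw [Finset.mem_filter]
    refine ⟨Finset.mem_univ _, ?_⟩
    rcases hx with rfl | rfl | rfl
    · exact one_pow _
    · exact Subtype.ext (by simp [sq, ha2])
    · exact Subtype.ext (by simp [sq, hb2])
  have hcard : ({1, ⟨a, ha⟩, ⟨b, hb⟩} : Finset U).card = 3 := by
    rw [Finset.card_insert_of_notMem, Finset.card_pair]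
    · exact fun e => hne (congrArg Subtype.val e)
    · simp [Subtype.ext_iff, Ne.symm ha1, Ne.symm hb1]
  have := Finset.card_le_card h3
  omega

theorem le_of_card_dvd {U H K : Subgroup G} (hU : IsCyclic U) (hH : H ≤ U) (hK : K ≤ U)
    (h : Nat.card H ∣ Nat.card K) : H ≤ K := by
  classical
  haveI : Fintype U := Fintype.ofFinite U
  haveI := hU
  intro x hx
  have hle := IsCyclic.card_pow_eq_one_le (α := U) (n := Nat.card K) Nat.card_pos
  have hsub : (Finset.univ.filter fun y : U => (y : G) ∈ K) ⊆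
      Finset.univ.filter (fun y : U => y ^ Nat.card K = 1) := by
    intro y hy
    rw [Finset.mem_filter] at hy ⊢
    refine ⟨hy.1, Subtype.ext ?_⟩
    rw [SubmonoidClass.coe_pow, OneMemClass.coe_one]
    exact congrArg Subtype.val (pow_card_eq_one' (x := (⟨(y : G), hy.2⟩ : K)))
  have hKcard : (Finset.univ.filter fun y : U => (y : G) ∈ K).card = Nat.card K := by
    rw [← Fintype.card_subtype, ← Nat.card_eq_fintype_card]
    exact Nat.card_congr ⟨fun y => ⟨(y.1 : G), y.2⟩, fun k => ⟨⟨k.1, hK k.2⟩, k.2⟩,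
      fun _ => rfl, fun _ => rfl⟩
  have heq := Finset.eq_of_subset_of_card_le hsub (hKcard ▸ hle)
  have hmem : (⟨x, hH hx⟩ : U) ∈ Finset.univ.filter (fun y : U => y ^ Nat.card K = 1) := by
    rw [Finset.mem_filter]
    refine ⟨Finset.mem_univ _, Subtype.ext ?_⟩
    obtain ⟨c, hc⟩ := h
    have hx1 : x ^ Nat.card H = 1 :=
      congrArg Subtype.val (pow_card_eq_one' (x := (⟨x, hx⟩ : H)))
    simp only [SubmonoidClass.coe_pow, OneMemClass.coe_one, hc, pow_mul, hx1, one_pow]
  rw [← heq, Finset.mem_filter] at hmem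
  exact hmem.2

/-- In a `p`-group, two conjugates of a non-trivial element do not multiply to a third. -/
theorem conj_mul_ne {p : ℕ} [Fact p.Prime] : ∀ (n : ℕ) (P : Type u) [Group P] [Finite P],
    Nat.card P ≤ n → IsPGroup p P → ∀ a g h : P, a * (g * a * g⁻¹) = h * a * h⁻¹ → a = 1 := by
  intro n
  induction n with
  | zero =>
    intro P _ _ hn
    have := Nat.card_pos (α := P)
    omega
  | succ n ih =>
    intro P _ _ hn hP a g h he
    by_cases hs : Subsingleton P
    · exact Subsingleton.elim _ _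
    haveI : Nontrivial P := not_subsingleton_iff_nontrivial.1 hs
    have hlt : Nat.card (P ⧸ center P) < Nat.card P := by
      rw [← (center P).card_mul_index, ← index_eq_card]
      haveI := hP.center_nontrivial
      exact lt_mul_of_one_lt_left (Nat.pos_of_ne_zero (center P).index_ne_zero_of_finite)
        Finite.one_lt_card
    have hq := ih (P ⧸ center P) (by omega) (hP.to_quotient _) (a : P ⧸ center P) g h (by
      simpa using congrArg (fun x : P => (x : P ⧸ center P)) he)
    have hac : a ∈ center P := (QuotientGroup.eq_one_iff a).1 hq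
    have hg : g * a * g⁻¹ = a := by rw [mem_center_iff.1 hac g, mul_inv_cancel_right]
    have hh : h * a * h⁻¹ = a := by rw [mem_center_iff.1 hac h, mul_inv_cancel_right]
    rw [hg, hh] at he
    exact mul_left_cancel (he.trans (mul_one a).symm)

theorem mem_of_normalizes (S : Sylow 2 G) {w : G} (hw : IsPGroup 2 (zpowers w))
    (hn : w ∈ normalizer ((S : Subgroup G) : Set G)) : w ∈ (S : Subgroup G) := by
  have h : w ∈ zpowers w ⊓ normalizer ((S : Subgroup G) : Set G) := ⟨mem_zpowers w, hn⟩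
  exact ((hw.inf_normalizer_sylow S).le h).2

theorem isPGroup_zpowers {w : G} {k : ℕ} (h : w ^ 2 ^ k = 1) : IsPGroup 2 (zpowers w) := by
  rintro ⟨y, hy⟩
  obtain ⟨i, rfl⟩ := mem_zpowers_iff.1 hy
  refine ⟨k, Subtype.ext ?_⟩
  show (w ^ i) ^ 2 ^ k = 1
  rw [← zpow_natCast, ← zpow_mul, mul_comm, zpow_mul, zpow_natCast, h, one_zpow]

/-- A Sylow subgroup normalized by an element contains it if it is a 2-element. -/
theorem smul_eq_of_unique {S : Sylow 2 G} {r w : G} (hr : r ∈ (S : Subgroup G))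
    (hwr : w * r * w⁻¹ ∈ (S : Subgroup G))
    (huniq : ∀ T : Sylow 2 G, w * r * w⁻¹ ∈ (T : Subgroup G) → T = S) :
    w ∈ normalizer ((S : Subgroup G) : Set G) := by
  have h := huniq (w • S) (by
    rw [Sylow.coe_subgroup_smul]
    exact ⟨r, hr, rfl⟩)
  exact Sylow.smul_eq_iff_mem_normalizer.1 h

/-- A solvable normal subgroup centralizing `V ≥ O₂(G)` lies in `V`, if `O(G) = 1`. -/
theorem solvable_le (hO : Cfsg.oddCore G = ⊥) {V : Subgroup G} (hV : Cfsg.pCore 2 G ≤ V)
    {N : Subgroup G} (hN : N.Normal) (hs : Group.IsSolvable N)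
    (hc : N ≤ centralizer (V : Set G)) : N ≤ V := by
  have hF : Cfsg.fittingSubgroup G ≤ V := by
    rw [Comp.fitting_eq_iSup_pCore]
    refine iSup_le fun p => ?_
    have hp := Nat.prime_of_mem_primeFactors p.2
    haveI : Fact (p : ℕ).Prime := ⟨hp⟩
    by_cases h2 : (p : ℕ) = 2
    · rw [h2]
      exact hV
    · have h : Cfsg.pCore (p : ℕ) G ≤ ⊥ := by
        rw [← hO]
        refine Solvable.le_pPrimeCore 2 inferInstance ?_
        obtain ⟨k, hk⟩ := IsPGroup.iff_card.1 (Solvable.isPGroup_pCore (G := G) (p : ℕ))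
        rw [hk]
        exact ((Nat.coprime_primes hp Nat.prime_two).2 h2).pow_left k
      exact h.trans bot_le
  exact (Comp.normal_solvable_centralizing_fitting_le hN hs
    (hc.trans (centralizer_le (SetLike.coe_subset_coe.2 hF)))).trans hF

theorem normal_map_pCore (p : ℕ) (C : Subgroup G) [C.Normal] :
    ((Cfsg.pCore p C).map C.subtype).Normal := by
  haveI : (Cfsg.pCore p C).Characteristic := characteristic_iff_map_le.mpr fun φ =>
    Solvable.le_pCore p ((Solvable.pCore_normal p).map _ φ.surjective)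
      ((Solvable.isPGroup_pCore p).map _)
  infer_instance

theorem normal_map_pPrimeCore (p : ℕ) (C : Subgroup G) [C.Normal] :
    ((Cfsg.pPrimeCore p C).map C.subtype).Normal := by
  haveI : (Cfsg.pPrimeCore p C).Characteristic := characteristic_iff_map_le.mpr fun φ =>
    Solvable.le_pPrimeCore p ((Solvable.pPrimeCore_normal p).map _ φ.surjective)
      ((Solvable.coprime_card_pPrimeCore p).coprime_dvd_left (card_map_dvd _ _))
  infer_instance

theorem quaternion_center {n : ℕ} (hn2 : 2 ≤ n) {q : QuaternionGroup n}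
    (hq : ∀ r, r * q = q * r) : q * q = 1 := by
  cases q with
  | a i =>
    have h := hq (.xa 0)
    rw [QuaternionGroup.xa_mul_a, QuaternionGroup.a_mul_xa] at h
    rw [QuaternionGroup.a_mul_a]
    have h' : (0 : ZMod (2 * n)) + i = 0 - i := by simpa using h
    have : i + i = 0 := by linear_combination h'
    rw [this]
    rfl
  | xa i =>
    exfalso
    have h := hq (.a 1)
    rw [QuaternionGroup.a_mul_xa, QuaternionGroup.xa_mul_a] at h
    have h' : i - 1 = i + 1 := by simpa using h
    have h2 : ((2 : ℕ) : ZMod (2 * n)) = 0 := by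
      push_cast
      linear_combination -h'
    rw [ZMod.natCast_eq_zero_iff] at h2
    have := Nat.le_of_dvd two_pos h2
    omega

/-- A 2-group with one involution and a central element of order four is cyclic. -/
theorem isCyclic_of_central {P : Subgroup G} (hP : IsPGroup 2 P) {v z : G} (hv : v ∈ P)
    (hvc : ∀ x ∈ P, x * v = v * x) (hv2 : v * v ≠ 1)
    (hu : ∀ x ∈ P, x * x = 1 → x ≠ 1 → x = z) : IsCyclic P := by
  haveI : Fact (Nat.Prime 2) := ⟨Nat.prime_two⟩
  rcases CfsgLib.UniqueInvol.cyclic_or_quaternion hP (fun x y hx hy => by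
    have e : x = y := Subtype.ext
      ((hu x x.2 (congrArg Subtype.val (Invol.mul_self_eq_one hx))
        (fun e => Invol.ne_one hx (Subtype.ext e))).trans
       (hu y y.2 (congrArg Subtype.val (Invol.mul_self_eq_one hy))
        (fun e => Invol.ne_one hy (Subtype.ext e))).symm)
    exact e ▸ mem_zpowers x) with h | ⟨-, n, hn, ⟨e⟩⟩
  · exact h
  · exfalso
    have hn2 : 2 ≤ 2 ^ n := Nat.le_self_pow (by omega) 2
    have hq : e ⟨v, hv⟩ * e ⟨v, hv⟩ = 1 := quaternion_center hn2 fun r => by
      obtain ⟨x, rfl⟩ := e.surjective r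
      rw [← map_mul, ← map_mul]
      exact congrArg e (Subtype.ext (hvc x x.2))
    rw [← map_mul, MulEquiv.map_eq_one_iff] at hq
    exact hv2 (congrArg Subtype.val hq)

theorem solvable_of_cyclic (hFT : OddSolvable.{u}) {X : Type u} [Group X] [Finite X]
    (P : Sylow 2 X) (hP : IsCyclic (P : Subgroup X)) : Group.IsSolvable X := by
  haveI : Fact (Nat.Prime 2) := ⟨Nat.prime_two⟩
  rcases Nat.even_or_odd (Nat.card X) with he | ho
  · have hmin : (Nat.card X).minFac = 2 := (Nat.minFac_eq_two_iff _).2 he.two_dvd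
    exact isSolvable_of_complement hFT inferInstance (IsCyclic.isComplement' hmin hP)
  · exact hFT X ho

section Core

variable (hFT : OddSolvable.{u})
  (hC : ∀ S T : Sylow 2 G, S ≠ T → IsCyclic ↥((S : Subgroup G) ⊓ (T : Subgroup G)))
  (hO : Cfsg.oddCore G = ⊥) (hns : ¬ Group.IsSolvable G)

include hFT hns

theorem sylow_not_normal (S : Sylow 2 G) : ∃ g : G, g • S ≠ S := by
  by_contra h
  push Not at h
  haveI : Fact (Nat.Prime 2) := ⟨Nat.prime_two⟩
  haveI hn : (S : Subgroup G).Normal := by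
    refine normalizer_eq_top_iff.1 (eq_top_iff.2 fun g _ => ?_)
    exact Sylow.smul_eq_iff_mem_normalizer.1 (h g)
  haveI := S.2.isNilpotent
  have hodd : Odd (Nat.card (G ⧸ (S : Subgroup G))) := by
    rw [← index_eq_card, Nat.odd_iff, ← Nat.two_dvd_ne_zero]
    exact S.not_dvd_index
  haveI := hFT _ hodd
  exact hns (Group.isSolvable_of_ker_le_range (S : Subgroup G).subtype
    (QuotientGroup.mk' (S : Subgroup G)) (by simp))

include hC

theorem core_cyclic : IsCyclic (Cfsg.pCore 2 G) := by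
  haveI : Fact (Nat.Prime 2) := ⟨Nat.prime_two⟩
  obtain ⟨S⟩ : Nonempty (Sylow 2 G) := inferInstance
  obtain ⟨g, hg⟩ := sylow_not_normal hFT hns S
  haveI := hC _ _ hg
  have hle : Cfsg.pCore 2 G ≤ ((g • S : Sylow 2 G) : Subgroup G) ⊓ (S : Subgroup G) :=
    le_inf (SylowTwoMeet.le_sylow (Solvable.isPGroup_pCore 2) _)
      (SylowTwoMeet.le_sylow (Solvable.isPGroup_pCore 2) _)
  exact isCyclic_of_injective (inclusion hle) (inclusion_injective hle)

include hO

theorem centralizer_core : centralizer (Cfsg.pCore 2 G : Set G) = ⊤ := by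
  haveI : Fact (Nat.Prime 2) := ⟨Nat.prime_two⟩
  set V := Cfsg.pCore 2 G with hVdef
  set C := centralizer (V : Set G) with hCdef
  have hV2 : IsPGroup 2 V := Solvable.isPGroup_pCore 2
  have hVS : ∀ S : Sylow 2 G, V ≤ (S : Subgroup G) := fun S => SylowTwoMeet.le_sylow hV2 S
  haveI hVc : IsCyclic V := core_cyclic hFT hC hns
  by_contra htop
  -- the quotient by the centralizer is a 2-group
  let cj : G →* MulAut V := MulAut.conjNormal
  have hker : cj.ker = C := by
    ext x
    rw [MonoidHom.mem_ker, hCdef, mem_centralizer_iff]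
    constructor
    · intro hx y hy
      have h1 := congrArg Subtype.val (MulEquiv.congr_fun hx ⟨y, hy⟩)
      change x * y * x⁻¹ = y at h1
      exact (mul_inv_eq_iff_eq_mul.1 h1).symm
    · intro hx
      refine MulEquiv.ext fun y => Subtype.ext ?_
      show x * y * x⁻¹ = y
      rw [← hx y y.2, mul_inv_cancel_right]
  have hA := CfsgLib.ComplType.isPGroup_mulAut_cyclic hV2
  haveI hCn : C.Normal := hker ▸ cj.normal_ker
  have hpow : ∀ g : G, ∃ k : ℕ, g ^ 2 ^ k ∈ C := fun g => by
    obtain ⟨k, hk⟩ := hA (cj g)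
    exact ⟨k, by rw [← hker, MonoidHom.mem_ker, map_pow, hk]⟩
  have hodd : ∀ g : G, Odd (orderOf g) → g ∈ C := fun g hg => by
    obtain ⟨k, hk⟩ := hpow g
    have h1 : ((g : G ⧸ C)) ^ 2 ^ k = 1 := by
      rw [← QuotientGroup.mk_pow]
      exact (QuotientGroup.eq_one_iff _).2 hk
    have h2 : ((g : G ⧸ C)) ^ orderOf g = 1 := by
      rw [← QuotientGroup.mk_pow, pow_orderOf_eq_one]
      rfl
    have h3 := pow_gcd_eq_one.2 ⟨h1, h2⟩
    rw [Nat.Coprime.gcd_eq_one ((Nat.coprime_two_left.2 hg).pow_left k), pow_one] at h3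
    exact (QuotientGroup.eq_one_iff g).1 h3
  have hCs : ¬ Group.IsSolvable C := fun h => by
    haveI := h
    haveI : Group.IsSolvable (G ⧸ C) := by
      haveI : Group.IsNilpotent (G ⧸ C) := by
        refine IsPGroup.isNilpotent (p := 2) ?_
        rintro ⟨g⟩
        obtain ⟨k, hk⟩ := hpow g
        exact ⟨k, (QuotientGroup.eq_one_iff _).2 hk⟩
      infer_instance
    exact hns (Group.isSolvable_of_ker_le_range C.subtype (QuotientGroup.mk' C) (by simp))
  -- a central element of order four in `C`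
  obtain ⟨g₀, hg₀⟩ : ∃ g : G, g ∉ C := by
    by_contra h
    push Not at h
    exact htop ((eq_top_iff' _).2 h)
  obtain ⟨v, hv, hv4⟩ : ∃ v ∈ V, v * v ≠ 1 := by
    by_contra h
    push Not at h
    refine hg₀ (mem_centralizer_iff.2 fun y hy => ?_)
    by_cases hy1 : y = 1
    · subst hy1; simp
    have hgy : g₀ * y * g₀⁻¹ ∈ V := (Solvable.pCore_normal 2).conj_mem y hy g₀
    have := eq_of_invol hVc hgy hy (h _ hgy) (h _ hy) (by simpa using hy1) hy1
    exact (mul_inv_eq_iff_eq_mul.1 this).symm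
  -- reduce to an element of order exactly four
  obtain ⟨v, hv, hv2, hv44⟩ : ∃ v ∈ V, v * v ≠ 1 ∧ v * v * (v * v) = 1 := by
    obtain ⟨k, hk⟩ := hV2 ⟨v, hv⟩
    have hk' : v ^ 2 ^ k = 1 := by simpa using congrArg Subtype.val hk
    clear hk
    induction k generalizing v with
    | zero => simp at hk'; exact absurd (by rw [hk', one_mul]) hv4
    | succ k ih =>
      by_cases h : v * v * (v * v) = 1
      · exact ⟨v, hv, hv4, h⟩
      · exact ih (v * v) (mul_mem hv hv) h (by rw [← sq, ← pow_mul, ← pow_succ']; exact hk')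
  set z := v * v with hz
  have hzV : z ∈ V := mul_mem hv hv
  have hCv : ∀ c ∈ C, c * v = v * c := fun c hc => (mem_centralizer_iff.1 hc v hv).symm
  have hzc : ∀ g : G, g * z * g⁻¹ = z := fun g => by
    have hgz := (Solvable.pCore_normal (G := G) 2).conj_mem z hzV g
    refine eq_of_invol hVc hgz hzV ?_ hv44 (by simpa using hv2) hv2
    calc g * z * g⁻¹ * (g * z * g⁻¹) = g * (z * z) * g⁻¹ := by group
      _ = 1 := by rw [hv44]; group
  have hVC : V ≤ C := fun y hy => mem_centralizer_iff.2 fun x hx =>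
    congrArg Subtype.val ((IsCyclic.commGroup (α := V)).mul_comm ⟨x, hx⟩ ⟨y, hy⟩)
  -- the two uniqueness facts
  have hout : ∀ s : G, s ∉ C → ∀ S T : Sylow 2 G, s ∈ (S : Subgroup G) → s ∈ (T : Subgroup G) →
      S = T := by
    intro s hs S T hS hT
    by_contra hne
    haveI := hC S T hne
    exact hs (mem_centralizer_iff.2 fun y hy =>
      congrArg Subtype.val ((IsCyclic.commGroup (α := ↥((S : Subgroup G) ⊓ (T : Subgroup G)))).mul_comm
        ⟨y, hVS S hy, hVS T hy⟩ ⟨s, hS, hT⟩))
  have hinv : ∀ w : G, w * w = 1 → w ≠ 1 → w ≠ z → ∀ S T : Sylow 2 G, w ∈ (S : Subgroup G) →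
      w ∈ (T : Subgroup G) → S = T := by
    intro w hw hw1 hwz S T hS hT
    by_contra hne
    exact hwz (eq_of_invol (hC S T hne) ⟨hS, hT⟩ ⟨hVS S hzV, hVS T hzV⟩ hw hv44 hw1 hv2)
  have hsyl : ∀ w : G, w * w = 1 → ∃ S : Sylow 2 G, w ∈ (S : Subgroup G) := fun w hw => by
    obtain ⟨S, hS⟩ := (isPGroup_zpowers (w := w) (k := 1) (by rw [pow_one, sq, hw])).exists_le_sylow
    exact ⟨S, hS (mem_zpowers w)⟩
  -- an involution of `C` outside `V`
  obtain ⟨w, hwC, hw, hw1, hwz⟩ : ∃ w ∈ C, w * w = 1 ∧ w ≠ 1 ∧ w ≠ z := by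
    by_contra h
    push Not at h
    obtain ⟨P⟩ : Nonempty (Sylow 2 C) := inferInstance
    obtain ⟨S, hS⟩ := (P.2.map C.subtype).exists_le_sylow
    have hPS : (P : Subgroup C).map C.subtype = (S : Subgroup G) ⊓ C := by
      refine le_antisymm (le_inf hS (map_subtype_le _)) fun x hx => ?_
      have h2 := P.3 (Q := ((S : Subgroup G)).subgroupOf C)
        (S.2.comap_of_injective C.subtype C.subtype_injective)
        (fun y hy => hS (mem_map_of_mem _ hy))
      exact ⟨⟨x, hx.2⟩, h2 ▸ (show (⟨x, hx.2⟩ : C) ∈ (S : Subgroup G).subgroupOf C from hx.1), rfl⟩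
    have hcyc : IsCyclic ↥((S : Subgroup G) ⊓ C) :=
      isCyclic_of_central (S.2.to_le inf_le_left) ⟨hVS S hv, hVC hv⟩
        (fun x hx => hCv x hx.2) hv2 (fun x hx hx2 hx1 => h x hx.2 hx2 hx1)
    refine hCs (solvable_of_cyclic hFT P ?_)
    rw [← hPS] at hcyc
    exact ((P : Subgroup C).equivMapOfInjective _ C.subtype_injective).isCyclic.2 hcyc
  obtain ⟨S, hwS⟩ := hsyl w hw
  -- involutions in different Sylow subgroups
  have hpair : ∀ x y : G, x ∈ C → x * x = 1 → x ≠ 1 → x ≠ z → y ∈ C → y * y = 1 → y ≠ 1 → y ≠ z →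
      (∀ S : Sylow 2 G, x ∈ (S : Subgroup G) → y ∉ (S : Subgroup G)) →
      ∃ c ∈ C, c * x * c⁻¹ = y ∨ c * x * c⁻¹ = y * z := by
    intro x y hxC hx hx1 hxz hyC hy hy1 hyz hsep
    have hxo := Invol.orderOf_eq_two hx hx1
    have hyo := Invol.orderOf_eq_two hy hy1
    set a := x * y with ha
    rcases Nat.even_or_odd (orderOf a) with he | ho
    swap
    · obtain ⟨m, hm⟩ := Invol.exists_pow_conj_of_odd hxo hyo ho
      exact ⟨a ^ m, pow_mem (mul_mem hxC hyC) m, Or.inl hm⟩
    obtain ⟨m, hm⟩ := he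
    have haC : a ∈ C := mul_mem hxC hyC
    have hxa := Invol.conj_mul_inv hxo hyo
    rw [← ha] at hxa
    have hya : y * a * y⁻¹ = a⁻¹ := by
      rw [ha, Invol.mul_inv_rev_invol hxo hyo, Invol.inv_eq_self hyo]
      simp [mul_assoc, hy]
    have hpos := orderOf_pos a
    set j := a ^ m with hj
    have hj2 : j * j = 1 := by rw [hj, ← pow_add, ← hm, pow_orderOf_eq_one]
    have hj1 : j ≠ 1 := pow_ne_one_of_lt_orderOf (by omega) (by omega)
    have hcm : ∀ u : G, u * a * u⁻¹ = a⁻¹ → u * j * u⁻¹ = j := fun u hu => by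
      rw [hj, ← conj_pow, hu, inv_pow]
      exact inv_eq_of_mul_eq_one_left hj2
    have hjz : j = z := by
      by_contra hjz
      have hgo : ∀ u : G, u * u = 1 → u * j * u⁻¹ = j → ∀ T : Sylow 2 G,
          j ∈ (T : Subgroup G) → u ∈ (T : Subgroup G) := by
        intro u hu huj T hT
        exact mem_of_normalizes T (isPGroup_zpowers (k := 1) (by rw [pow_one, sq, hu]))
          (smul_eq_of_unique hT (by rw [huj]; exact hT)
            (fun T' hT' => hinv j hj2 hj1 hjz T' T (huj ▸ hT') hT))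
      obtain ⟨T, hT⟩ := hsyl j hj2
      exact hsep T (hgo x hx (hcm x hxa) T hT) (hgo y hy (hcm y hya) T hT)
    rcases Nat.even_or_odd m with hme | hmo
    · exfalso
      obtain ⟨i, hi⟩ := hme
      set r := a ^ i with hr
      have hrr : r * r = z := by rw [hr, ← pow_add, ← hi, ← hjz]
      have hrC : r ∈ C := pow_mem haC i
      set q := r * v with hq
      have hq2 : q * q = 1 := by
        rw [hq, show r * v * (r * v) = r * (v * r) * v by group, ← hCv r hrC,
          show r * (r * v) * v = r * r * (v * v) by group, hrr]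
        exact hv44
      have hxr : ∀ u : G, u * a * u⁻¹ = a⁻¹ → u ∈ C → u * q * u⁻¹ = q * z := fun u hu huC => by
        have h1 : u * r * u⁻¹ = r * z := by
          rw [hr, ← conj_pow, hu, inv_pow, ← hr]
          refine inv_eq_of_mul_eq_one_right ?_
          rw [← mul_assoc, hrr]
          exact hv44
        calc u * q * u⁻¹ = u * r * u⁻¹ * (u * v * u⁻¹) := by rw [hq]; group
          _ = r * z * v := by rw [h1, hCv u huC, mul_inv_cancel_right]
          _ = q * z := by rw [hq, hz]; group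
      have hq1 : q ≠ 1 := fun h => by
        have hr' : r = v⁻¹ := eq_inv_of_mul_eq_one_left h
        have := hxr x hxa hxC
        rw [h, mul_one, mul_inv_cancel, one_mul] at this
        exact hv2 this.symm
      have hqz : q ≠ z := fun h => by
        have := hxr x hxa hxC
        rw [h, hzc, hv44] at this
        exact hv2 this
      have hgo : ∀ u : G, u * u = 1 → u * a * u⁻¹ = a⁻¹ → u ∈ C → ∀ T : Sylow 2 G,
          q ∈ (T : Subgroup G) → u ∈ (T : Subgroup G) := by
        intro u hu hua huC T hT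
        have hqzT : u * q * u⁻¹ ∈ (T : Subgroup G) := by
          rw [hxr u hua huC]; exact mul_mem hT (hVS T hzV)
        refine mem_of_normalizes T (isPGroup_zpowers (k := 1) (by rw [pow_one, sq, hu]))
          (smul_eq_of_unique hT hqzT (fun T' hT' => hinv q hq2 hq1 hqz T' T ?_ hT))
        rw [hxr u hua huC] at hT'
        simpa [mul_assoc, hv44] using mul_mem hT' (hVS T' hzV)
      obtain ⟨T, hT⟩ := hsyl q hq2
      exact hsep T (hgo x hx hxa hxC T hT) (hgo y hy hya hyC T hT)
    · have hzC : z ∈ C := hVC hzV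
      have hyz2 : y * z * (y * z) = 1 := by
        rw [show y * z * (y * z) = y * (z * y) * z by group, ← show y * z = z * y from
          mul_inv_eq_iff_eq_mul.1 (hzc y), show y * (y * z) * z = y * y * (z * z) by group, hy,
          one_mul, hv44]
      have hyz1 : y * z ≠ 1 := fun h => hyz (by
        rw [eq_inv_of_mul_eq_one_left h]
        exact inv_eq_of_mul_eq_one_left hv44)
      have hcomm : Commute a z := (mem_centralizer_iff.1 haC z hzV).symm
      have ho : Odd (orderOf (x * (y * z))) := by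
        refine hmo.of_dvd_nat (orderOf_dvd_of_pow_eq_one ?_)
        rw [← mul_assoc, ← ha, hcomm.mul_pow, ← hj, hjz]
        obtain ⟨i, rfl⟩ := hmo
        rw [pow_succ, pow_mul, sq, hv44, one_pow, one_mul, hv44]
      obtain ⟨n, hn⟩ := Invol.exists_pow_conj_of_odd hxo (Invol.orderOf_eq_two hyz2 hyz1) ho
      exact ⟨(x * (y * z)) ^ n, pow_mem (mul_mem hxC (mul_mem hyC hzC)) n, Or.inr hn⟩
  -- some conjugate inside `C` has another Sylow subgroup
  obtain ⟨c₀, hc₀C, hc₀⟩ : ∃ c ∈ C, c • S ≠ S := by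
    by_contra h
    push Not at h
    set S0 := (S : Subgroup G) ⊓ C
    have hn : ((S : Subgroup G).subgroupOf C).Normal := by
      refine ⟨fun n hn g => ?_⟩
      have := h g g.2
      show (g : G) * n * (g : G)⁻¹ ∈ (S : Subgroup G)
      rw [← this, Sylow.coe_subgroup_smul]
      exact ⟨n, hn, rfl⟩
    haveI := normal_map_pCore 2 C
    have hW : ((S : Subgroup G).subgroupOf C) ≤ Cfsg.pCore 2 C :=
      Solvable.le_pCore 2 hn (S.2.comap_of_injective C.subtype C.subtype_injective)
    have hmap : (Cfsg.pCore 2 C).map C.subtype ≤ V :=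
      Solvable.le_pCore 2 inferInstance ((Solvable.isPGroup_pCore 2).map _)
    have hwV : w ∈ V := hmap ⟨⟨w, hwC⟩, hW hwS, rfl⟩
    exact hwz (eq_of_invol hVc hwV hzV hw hv44 hw1 hv2)
  -- elements of `N_C(S)` permute these involutions transitively
  have htrans : ∀ x y : G, x ∈ (S : Subgroup G) → x ∈ C → x * x = 1 → x ≠ 1 → x ≠ z →
      y ∈ (S : Subgroup G) → y ∈ C → y * y = 1 → y ≠ 1 → y ≠ z →
      ∃ c ∈ C, c ∈ normalizer ((S : Subgroup G) : Set G) ∧ (c * x * c⁻¹ = y ∨ c * x * c⁻¹ = y * z) := by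
    intro x y hxS hxC hx hx1 hxz hyS hyC hy hy1 hyz
    set x' := c₀ * x * c₀⁻¹ with hx'
    have hx'C : x' ∈ C := mul_mem (mul_mem hc₀C hxC) (inv_mem hc₀C)
    have hx'2 : x' * x' = 1 := by
      calc x' * x' = c₀ * (x * x) * c₀⁻¹ := by rw [hx']; group
        _ = 1 := by rw [hx]; group
    have hx'1 : x' ≠ 1 := by simpa [hx'] using hx1
    have hx'z : x' ≠ z := fun h => hxz (by
      rw [← hzc c₀, hx'] at h
      exact mul_left_cancel (mul_right_cancel h))
    obtain ⟨c, hcC, hc⟩ := hpair x' y hx'C hx'2 hx'1 hx'z hyC hy hy1 hyz (by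
      intro T hT hyT
      have h1 : T = c₀ • S := hinv x' hx'2 hx'1 hx'z T (c₀ • S) hT (by
        rw [Sylow.coe_subgroup_smul]; exact ⟨x, hxS, rfl⟩)
      exact hc₀ (h1.symm.trans (hinv y hy hy1 hyz T S hyT hyS)))
    have he : c * c₀ * x * (c * c₀)⁻¹ = c * x' * c⁻¹ := by rw [hx']; group
    refine ⟨c * c₀, mul_mem hcC hc₀C, ?_, by rwa [he]⟩
    refine Sylow.smul_eq_iff_mem_normalizer.1 ?_
    set g := c * c₀
    have hin : g * x * g⁻¹ ∈ ((g • S : Sylow 2 G) : Subgroup G) := by
      rw [Sylow.coe_subgroup_smul]; exact ⟨x, hxS, rfl⟩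
    have hinS : g * x * g⁻¹ ∈ (S : Subgroup G) := by
      rw [he]
      rcases hc with h | h <;> rw [h]
      · exact hyS
      · exact mul_mem hyS (hVS S hzV)
    refine hinv _ ?_ ?_ ?_ _ _ hin hinS
    · calc g * x * g⁻¹ * (g * x * g⁻¹) = g * (x * x) * g⁻¹ := by group
        _ = 1 := by rw [hx]; group
    · simpa using hx1
    · intro h
      rw [← hzc g] at h
      exact hxz (mul_left_cancel (mul_right_cancel h))
  -- a complement of `S` in its normalizer
  set K := normalizer ((S : Subgroup G) : Set G) with hK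
  have hcopK : (Nat.card ((S : Subgroup G).subgroupOf K)).Coprime ((S : Subgroup G).subgroupOf K).index := by
    obtain ⟨k, hk⟩ := IsPGroup.iff_card.1 (S.2.comap_of_injective K.subtype K.subtype_injective)
    rw [subgroupOf, hk]
    refine Nat.Coprime.pow_left k ((Nat.Prime.coprime_iff_not_dvd Nat.prime_two).2 fun h => ?_)
    exact S.not_dvd_index (h.trans (relIndex_dvd_index_of_le le_normalizer))
  obtain ⟨E', hE'⟩ := exists_right_complement'_of_coprime hcopK
  set E := E'.map K.subtype with hE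
  have hEK : E ≤ K := map_subtype_le _
  have hEodd : Odd (Nat.card E) := by
    rw [hE, card_map_of_injective K.subtype_injective, ← hE'.symm.index_eq_card, Nat.odd_iff,
      ← Nat.two_dvd_ne_zero]
    exact fun h => S.not_dvd_index (h.trans (relIndex_dvd_index_of_le le_normalizer))
  have hEC : E ≤ C := fun e he => hodd e (by
    refine hEodd.of_dvd_nat ?_
    exact E.orderOf_dvd_natCard he)
  have hdec : ∀ c ∈ K, ∃ s ∈ (S : Subgroup G), ∃ e ∈ E, c = s * e := by
    intro c hc
    obtain ⟨⟨⟨s, hs⟩, ⟨e, he⟩⟩, hse⟩ := hE'.2 (⟨c, hc⟩ : K)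
    exact ⟨(s : G), hs, (e : G), ⟨e, he, rfl⟩, (congrArg Subtype.val hse).symm⟩
  -- an element outside `C` centralized by the complement
  obtain ⟨t0, ht0S, ht0C, ht0E⟩ : ∃ t ∈ (S : Subgroup G), t ∉ C ∧ ∀ e ∈ E, e * t = t * e := by
    obtain ⟨s, hsS, hsC⟩ : ∃ s ∈ (S : Subgroup G), s ∉ C := by
      by_contra h
      push Not at h
      obtain ⟨a, b, hb, hab⟩ := Nat.exists_eq_two_pow_mul_odd (orderOf_pos g₀).ne'
      obtain ⟨k, hk⟩ := hpow g₀
      have hp : (g₀ ^ b) ^ 2 ^ a = 1 := by rw [← pow_mul, mul_comm, ← hab, pow_orderOf_eq_one]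
      obtain ⟨T, hT⟩ := (isPGroup_zpowers hp).exists_le_sylow
      obtain ⟨g, hg⟩ := MulAction.exists_smul_eq G S T
      have hb' : g₀ ^ b ∈ C := by
        have h1 := hT (mem_zpowers _)
        rw [← hg, Sylow.coe_subgroup_smul] at h1
        obtain ⟨s, hs, hse⟩ := h1
        rw [← hse]
        exact hCn.conj_mem s (h s hs) g
      refine hg₀ ?_
      have h1 : ((g₀ : G ⧸ C)) ^ 2 ^ k = 1 := by
        rw [← QuotientGroup.mk_pow]; exact (QuotientGroup.eq_one_iff _).2 hk
      have h2 : ((g₀ : G ⧸ C)) ^ b = 1 := by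
        rw [← QuotientGroup.mk_pow]; exact (QuotientGroup.eq_one_iff _).2 hb'
      have h3 := pow_gcd_eq_one.2 ⟨h1, h2⟩
      rw [Nat.Coprime.gcd_eq_one ((Nat.coprime_two_left.2 hb).pow_left k), pow_one] at h3
      exact (QuotientGroup.eq_one_iff g₀).1 h3
    letI act : MulDistribMulAction E G :=
      MulDistribMulAction.compHom G ((MulAut.conj : G →* MulAut G).comp E.subtype)
    have hsmul : ∀ (e : E) (x : G),
        (letI := act.toMulAction.toSMul; e • x) = (e : G) * x * (e : G)⁻¹ := fun e x => rfl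
    set N := (S : Subgroup G) ⊓ C
    haveI : Group.IsSolvable N := by
      haveI := (S.2.to_le (inf_le_left : N ≤ _)).isNilpotent
      infer_instance
    have hNi : Coprime.IsInvariant E N := fun e n hn => by
      rw [hsmul]
      exact ⟨(mem_normalizer_iff.1 (hEK e.2) n).1 hn.1, hCn.conj_mem n hn.2 e⟩
    have hcop : (Nat.card E).Coprime (Nat.card N) := by
      obtain ⟨k, hk⟩ := IsPGroup.iff_card.1 (S.2.to_le (inf_le_left : N ≤ _))
      rw [hk]
      exact (Nat.coprime_two_right.2 hEodd).pow_right k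
    obtain ⟨t, ht, hst⟩ := Coprime.exists_fixed_mem_coset_of_isSolvable' (A := E) N hNi hcop s
      (fun e => by
        rw [hsmul]
        refine ⟨(S : Subgroup G).mul_mem ((S : Subgroup G).inv_mem hsS)
          ((mem_normalizer_iff.1 (hEK e.2) s).1 hsS), ?_⟩
        rw [show s⁻¹ * ((e : G) * s * (e : G)⁻¹) = (s⁻¹ * e * s) * (e : G)⁻¹ by group]
        exact C.mul_mem (by simpa using hCn.conj_mem (e : G) (hEC e.2) s⁻¹)
          (C.inv_mem (hEC e.2)))
    refine ⟨t, ?_, fun htC => hsC ?_, fun e he => ?_⟩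
    · simpa using mul_mem hsS hst.1
    · have := mul_mem htC (inv_mem hst.2)
      simpa using this
    · exact mul_inv_eq_iff_eq_mul.1 ((hsmul ⟨e, he⟩ t).symm.trans (ht ⟨e, he⟩))
  -- push it down until the square lies in `C`
  obtain ⟨t, htS, htC, htE, htt⟩ : ∃ t ∈ (S : Subgroup G), t ∉ C ∧ (∀ e ∈ E, e * t = t * e) ∧
      t * t ∈ C := by
    obtain ⟨k, hk⟩ := hpow t0
    induction k generalizing t0 with
    | zero => exact absurd (by simpa using hk) ht0C
    | succ k ih =>
      by_cases h : t0 * t0 ∈ C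
      · exact ⟨t0, ht0S, ht0C, ht0E, h⟩
      · refine ih (t0 * t0) (mul_mem ht0S ht0S) h (fun e he => ?_)
          (by rw [← sq, ← pow_mul, ← pow_succ']; exact hk)
        rw [← mul_assoc, ht0E e he, mul_assoc, ht0E e he, ← mul_assoc]
  set U := (S : Subgroup G) ⊓ C ⊓ centralizer (E : Set G) with hU
  -- the complement fixes no involution except `z`
  have hUz : ∀ x ∈ U, x * x = 1 → x ≠ 1 → x = z := by
    intro j hjU hj hj1
    by_contra hjz
    obtain ⟨⟨hjS, hjC⟩, hjE⟩ := hjU
    -- every relevant involution of `S` is conjugate in `S` to `j` or `jz`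
    have hcl : ∀ y ∈ (S : Subgroup G), y ∈ C → y * y = 1 → y ≠ 1 → y ≠ z →
        ∃ s ∈ (S : Subgroup G), s ∈ C ∧ (y = s * j * s⁻¹ ∨ y = s * j * s⁻¹ * z) := by
      intro y hyS hyC hy hy1 hyz
      obtain ⟨c, hcC, hcK, hc⟩ := htrans j y hjS hjC hj hj1 hjz hyS hyC hy hy1 hyz
      obtain ⟨s, hs, e, he, rfl⟩ := hdec c hcK
      have hsC : s ∈ C := by simpa using mul_mem hcC (inv_mem (hEC he))
      have hej : e * j * e⁻¹ = j := by
        rw [mem_centralizer_iff.1 hjE e he, mul_inv_cancel_right]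
      have hse : s * e * j * (s * e)⁻¹ = s * j * s⁻¹ := by
        calc s * e * j * (s * e)⁻¹ = s * (e * j * e⁻¹) * s⁻¹ := by group
          _ = _ := by rw [hej]
      rw [hse] at hc
      rcases hc with h | h
      · exact ⟨s, hs, hsC, Or.inl h.symm⟩
      · exact ⟨s, hs, hsC, Or.inr (by rw [h, mul_assoc, hv44, mul_one])⟩
    set P := (S : Subgroup G) ⊓ C with hP
    by_cases hcen : ∀ s ∈ P, s * j * s⁻¹ = j ∨ s * j * s⁻¹ = j * z
    · -- then `j` is isolated modulo `V`
      have hiso : ∀ c ∈ C, ∀ y, y = c * j * c⁻¹ → y * j * y⁻¹ * j⁻¹ ∈ V →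
          y = j ∨ y = j * z := by
        intro c hc y hy hV'
        have hyC : y ∈ C := hy ▸ mul_mem (mul_mem hc hjC) (inv_mem hc)
        have hy2 : y * y = 1 := by
          calc y * y = c * (j * j) * c⁻¹ := by rw [hy]; group
            _ = 1 := by rw [hj]; group
        have hy1 : y ≠ 1 := by simpa [hy] using hj1
        have hyz : y ≠ z := fun h => hjz (by
          rw [hy, ← hzc c] at h
          exact mul_left_cancel (mul_right_cancel h))
        set k := y * j * y⁻¹ * j⁻¹
        have hyj : y * j * y⁻¹ = k * j := by simp [k, mul_assoc]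
        have hk2 : y * j * y⁻¹ ∈ (S : Subgroup G) := hyj ▸ mul_mem (hVS S hV') hjS
        have hyS : y ∈ (S : Subgroup G) := mem_of_normalizes S
          (isPGroup_zpowers (k := 1) (by rw [pow_one, sq, hy2]))
          (smul_eq_of_unique hjS hk2 fun T hT => hinv _
            (by calc y * j * y⁻¹ * (y * j * y⁻¹) = y * (j * j) * y⁻¹ := by group
                  _ = 1 := by rw [hj]; group)
            (by simpa using hj1)
            (fun h => hjz (by
              rw [← hzc y] at h
              exact mul_left_cancel (mul_right_cancel h))) T S hT hk2)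
        obtain ⟨s, hs, hsC, h⟩ := hcl y hyS hyC hy2 hy1 hyz
        rcases hcen s ⟨hs, hsC⟩ with h' | h' <;> rcases h with h | h <;> rw [h, h']
        · exact Or.inl rfl
        · exact Or.inr rfl
        · exact Or.inr rfl
        · exact Or.inl (by rw [mul_assoc, hv44, mul_one])
      set j' : C ⧸ V.subgroupOf C := QuotientGroup.mk ⟨j, hjC⟩
      have hjV : j ∉ V := fun h => hjz (eq_of_invol hVc h hzV hj hv44 hj1 hv2)
      have hj'o : orderOf j' = 2 := orderOf_eq_prime
        (by
          rw [← QuotientGroup.mk_pow, QuotientGroup.eq_one_iff]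
          show ((⟨j, hjC⟩ : C) ^ 2 : C).1 ∈ V
          simp [sq, hj])
        (fun h => hjV ((QuotientGroup.eq_one_iff (⟨j, hjC⟩ : C)).1 h))
      have hisoj : Cfsg.IsIsolatedInvolution j' := by
        refine ⟨hj'o, fun g hg => ?_⟩
        obtain ⟨⟨c, hc⟩, rfl⟩ := QuotientGroup.mk_surjective g
        set y := c * j * c⁻¹ with hy
        have h1 : QuotientGroup.mk (⟨c, hc⟩ * ⟨j, hjC⟩ * ⟨c, hc⟩⁻¹ : C) =
            (QuotientGroup.mk (⟨c, hc⟩ : C) * j' * (QuotientGroup.mk (⟨c, hc⟩ : C))⁻¹ :
              C ⧸ V.subgroupOf C) := rfl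
        rw [← h1] at hg ⊢
        have h2 : y * j * y⁻¹ * j⁻¹ ∈ V := by
          have h3 := hg.eq
          change QuotientGroup.mk _ * QuotientGroup.mk _ = QuotientGroup.mk _ * QuotientGroup.mk _ at h3
          rw [← QuotientGroup.mk_mul, ← QuotientGroup.mk_mul, eq_comm, QuotientGroup.eq_iff_div_mem,
            mem_subgroupOf] at h3
          simpa [div_eq_mul_inv, mul_assoc, hy] using h3
        rw [QuotientGroup.eq_iff_div_mem, mem_subgroupOf]
        show y / j ∈ V
        rcases hiso c hc y hy h2 with h | h <;> rw [h, div_eq_mul_inv]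
        · simp
        · have : j * z * j⁻¹ = z := hzc j
          rw [this]; exact hzV
      -- the odd core of the quotient is trivial
      set M := (Cfsg.oddCore (C ⧸ V.subgroupOf C)).comap (QuotientGroup.mk' (V.subgroupOf C)) with hM
      haveI hMn : M.Normal := Normal.comap inferInstance _
      haveI : Group.IsNilpotent (V.subgroupOf C) :=
        (hV2.comap_of_injective C.subtype C.subtype_injective).isNilpotent
      have hMs : Group.IsSolvable M := by
        have h1 : Group.IsSolvable (Cfsg.oddCore (C ⧸ V.subgroupOf C)) :=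
          hFT _ LocalB.odd_card_oddCore
        haveI := h1
        let f : M →* Cfsg.oddCore (C ⧸ V.subgroupOf C) :=
          ((QuotientGroup.mk' (V.subgroupOf C)).comp M.subtype).codRestrict _ (fun x => x.2)
        refine Group.isSolvable_of_ker_le_range
          (inclusion (show V.subgroupOf C ≤ M from fun x hx => by
            rw [hM, mem_comap, QuotientGroup.mk'_apply, (QuotientGroup.eq_one_iff x).2 hx]
            exact one_mem _)) f ?_
        intro x hx
        exact ⟨⟨x.1, (QuotientGroup.eq_one_iff x.1).1 (congrArg Subtype.val hx)⟩, rfl⟩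
      have hOC : Cfsg.oddCore C = ⊥ := by
        have h : (Cfsg.oddCore C).map C.subtype ≤ Cfsg.oddCore G := by
          haveI := normal_map_pPrimeCore 2 C
          refine Solvable.le_pPrimeCore 2 inferInstance ?_
          rw [card_map_of_injective C.subtype_injective]
          exact Solvable.coprime_card_pPrimeCore 2
        rw [hO, le_bot_iff, map_eq_bot_iff_of_injective _ C.subtype_injective] at h
        exact h
      haveI := normal_map_pCore 2 C
      have hpC : Cfsg.pCore 2 C ≤ V.subgroupOf C := fun x hx =>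
        (Solvable.le_pCore 2 inferInstance ((Solvable.isPGroup_pCore 2).map C.subtype))
          (mem_map_of_mem _ hx)
      have hMV : M ≤ V.subgroupOf C := solvable_le hOC hpC hMn hMs (fun x _ =>
        mem_centralizer_iff.2 fun y hy => Subtype.ext (mem_centralizer_iff.1 x.2 y hy))
      have hall : ∀ c ∈ C, c * j * c⁻¹ = j ∨ c * j * c⁻¹ = j * z := by
        intro c hc
        have h1 : (⟨j, hjC⟩ * ⟨c, hc⟩ * ⟨j, hjC⟩⁻¹ * ⟨c, hc⟩⁻¹ : C) ∈ V.subgroupOf C := by
          refine hMV ?_
          exact IsoApps.comm_mem_oddCore hisoj (QuotientGroup.mk (⟨c, hc⟩ : C))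
        have h2 : j * c * j⁻¹ * c⁻¹ ∈ V := h1
        refine hiso c hc _ rfl ?_
        have h3 : (c * j * c⁻¹) * j * (c * j * c⁻¹)⁻¹ * j⁻¹ =
            (c * j * c⁻¹ * j⁻¹) * (j * (c * j * c⁻¹ * j⁻¹)⁻¹ * j⁻¹) := by
          have : j⁻¹ = j := inv_eq_of_mul_eq_one_right hj
          simp only [this, mul_inv_rev, inv_inv, mul_assoc]
          simp [← mul_assoc, hj]
        rw [h3]
        have h4 : c * j * c⁻¹ * j⁻¹ ∈ V := by
          have h5 : (j * c * j⁻¹ * c⁻¹)⁻¹ = c * j * c⁻¹ * j⁻¹ := by group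
          exact h5 ▸ inv_mem h2
        exact mul_mem h4 ((Solvable.pCore_normal 2).conj_mem _ (inv_mem h4) j)
      -- so `j` lies in the 2-core
      set W := V ⊔ zpowers j
      have hW2 : IsPGroup 2 W := hV2.to_sup_of_normal_left (isPGroup_zpowers (k := 1)
        (by rw [pow_one, sq, hj]))
      have hWn : (W.subgroupOf C).Normal := by
        refine ⟨fun x hx c => ?_⟩
        show (c : G) * x * (c : G)⁻¹ ∈ W
        have hle : W ≤ W.comap (MulAut.conj (c : G)).toMonoidHom := by
          refine sup_le (fun u hu => mem_sup_left ((Solvable.pCore_normal 2).conj_mem u hu c)) ?_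
          rw [zpowers_le]
          show (c : G) * j * (c : G)⁻¹ ∈ W
          rcases hall c c.2 with h | h <;> rw [h]
          · exact mem_sup_right (mem_zpowers j)
          · exact mul_mem (mem_sup_right (mem_zpowers j)) (mem_sup_left hzV)
        exact hle hx
      exact hjV (hpC (Solvable.le_pCore 2 hWn (hW2.comap_of_injective C.subtype C.subtype_injective)
        (show (⟨j, hjC⟩ : C) ∈ W.subgroupOf C from mem_sup_right (mem_zpowers j))))
    · -- otherwise two commuting conjugates multiply to a third modulo `V`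
      set Vp := V.subgroupOf P with hVp
      have hjP : j ∈ P := ⟨hjS, hjC⟩
      have hPp : IsPGroup 2 P := S.2.to_le inf_le_left
      set jb : P ⧸ Vp := QuotientGroup.mk (⟨j, hjP⟩ : P) with hjb
      set D := centralizer ({jb} : Set (P ⧸ Vp))
      have hP2 : IsPGroup 2 (P ⧸ Vp) := hPp.to_quotient _
      have hDtop : D ≠ ⊤ := fun h => hcen fun s hs => by
        have h1 : (QuotientGroup.mk (⟨s, hs⟩ : P) : P ⧸ Vp) ∈ D := h ▸ mem_top _
        rw [mem_centralizer_singleton_iff, hjb, ← QuotientGroup.mk_mul, ← QuotientGroup.mk_mul,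
          QuotientGroup.eq_iff_div_mem, mem_subgroupOf] at h1
        have h2 : s * j * s⁻¹ * j⁻¹ ∈ V := by simpa [div_eq_mul_inv, mul_assoc] using h1
        set k := s * j * s⁻¹ * j⁻¹
        have hkj : s * j * s⁻¹ = k * j := by simp [k, mul_assoc]
        have hkc : k * j = j * k := mem_centralizer_iff.1 hjC k h2
        have hk2 : k * k = 1 := by
          have : (k * j) * (k * j) = 1 := by
            rw [← hkj]
            calc s * j * s⁻¹ * (s * j * s⁻¹) = s * (j * j) * s⁻¹ := by group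
              _ = 1 := by rw [hj]; group
          rw [show k * j * (k * j) = k * (j * k) * j by group, ← hkc,
            show k * (k * j) * j = k * k * (j * j) by group, hj, mul_one] at this
          exact this
        by_cases hk1 : k = 1
        · exact Or.inl (by rw [hkj, hk1, one_mul])
        · exact Or.inr (by rw [hkj, hkc, eq_of_invol hVc h2 hzV hk2 hv44 hk1 hv2])
      haveI := hP2.isNilpotent
      obtain ⟨g, hgN, hgD⟩ := SetLike.exists_of_lt
        (Group.normalizerCondition_of_isNilpotent D hDtop.lt_top)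
      obtain ⟨⟨s, hs⟩, rfl⟩ := QuotientGroup.mk_surjective g
      set y := s * j * s⁻¹ with hy
      have hcomm : Commute jb (QuotientGroup.mk (⟨s, hs⟩ : P) * jb * (QuotientGroup.mk (⟨s, hs⟩ : P))⁻¹) := by
        have h1 := (mem_normalizer_iff.1 hgN jb).1 (mem_centralizer_singleton_iff.2 rfl)
        exact (mem_centralizer_singleton_iff.1 h1).symm
      have hne : ¬ (y = j ∨ y = j * z) := by
        intro h
        refine hgD (mem_centralizer_singleton_iff.2 ?_)
        rw [hjb, ← QuotientGroup.mk_mul, ← QuotientGroup.mk_mul, QuotientGroup.eq_iff_div_mem,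
          mem_subgroupOf]
        show s * j / (j * s) ∈ V
        rw [div_eq_mul_inv, mul_inv_rev, ← mul_assoc, ← hy]
        rcases h with h | h <;> rw [h]
        · simp
        · rw [hzc j]; exact hzV
      have hyP : y ∈ P := mul_mem (mul_mem hs hjP) (inv_mem hs)
      set q := j * y with hq
      have hy2 : y * y = 1 := by
        calc y * y = s * (j * j) * s⁻¹ := by rw [hy]; group
          _ = 1 := by rw [hj]; group
      have hjq : j * q * j⁻¹ = q⁻¹ := by
        rw [hq, mul_inv_rev, inv_eq_of_mul_eq_one_right hy2, inv_eq_of_mul_eq_one_right hj,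
          ← mul_assoc, hj, one_mul]
      have hqq : q * q ∈ V := by
        have h1 := hcomm.eq
        rw [hjb, ← QuotientGroup.mk_inv, ← QuotientGroup.mk_mul, ← QuotientGroup.mk_mul,
          ← QuotientGroup.mk_mul, ← QuotientGroup.mk_mul, QuotientGroup.eq_iff_div_mem,
          mem_subgroupOf] at h1
        have h2 : j * y / (y * j) ∈ V := h1
        rw [div_eq_mul_inv, mul_inv_rev, inv_eq_of_mul_eq_one_right hy2,
          inv_eq_of_mul_eq_one_right hj] at h2
        rw [hq]
        exact h2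
      -- an involution in the class of `q` modulo `V`
      have hq2 : q * q * (q * q) = 1 := by
        have h1 : j * (q * q) * j⁻¹ = q * q := by
          rw [← mem_centralizer_iff.1 hjC _ hqq, mul_inv_cancel_right]
        have h2 : j * (q * q) * j⁻¹ = (q * q)⁻¹ := by
          calc j * (q * q) * j⁻¹ = j * q * j⁻¹ * (j * q * j⁻¹) := by group
            _ = (q * q)⁻¹ := by rw [hjq]; group
        exact eq_inv_iff_mul_eq_one.1 (h1.symm.trans h2)
      obtain ⟨q', hq'P, hq'2, hq'V⟩ : ∃ q' ∈ P, q' * q' = 1 ∧ q⁻¹ * q' ∈ V := by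
        have hqP : q ∈ P := mul_mem hjP hyP
        by_cases hq1 : q * q = 1
        · exact ⟨q, hqP, hq1, by simp⟩
        · refine ⟨q * v, mul_mem hqP ⟨hVS S hv, hVC hv⟩, ?_, by simpa using hv⟩
          have hqz := eq_of_invol hVc hqq hzV hq2 hv44 hq1 hv2
          rw [show q * v * (q * v) = q * (v * q) * v by group, ← hCv q hqP.2,
            show q * (q * v) * v = q * q * (v * v) by group, hqz, ← hz, hv44]
      have hqV : q ∉ V := fun h => hne (by
        have hyj : y = j * q := by rw [hq, ← mul_assoc, hj, one_mul]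
        have h1 : j * q = q * j := (mem_centralizer_iff.1 hjC q h).symm
        have h2 : q * q = 1 := by
          have := hjq
          rw [h1, mul_inv_cancel_right] at this
          exact eq_inv_iff_mul_eq_one.1 this
        by_cases hq1 : q = 1
        · exact Or.inl (by rw [hyj, hq1, mul_one])
        · exact Or.inr (by rw [hyj, eq_of_invol hVc h hzV h2 hv44 hq1 hv2]))
      have hq'1 : q' ≠ 1 := fun h => hqV (by simpa [h] using inv_mem hq'V)
      have hq'z : q' ≠ z := fun h => hqV (by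
        have := mul_mem hzV (inv_mem hq'V)
        rw [h] at this
        simpa [mul_assoc] using this)
      obtain ⟨s', hs', hs'C, hcase⟩ := hcl q' hq'P.1 hq'P.2 hq'2 hq'1 hq'z
      have hmk : ∀ (a b : G) (ha : a ∈ P) (hb : b ∈ P), a⁻¹ * b ∈ V →
          (QuotientGroup.mk (⟨a, ha⟩ : P) : P ⧸ Vp) = QuotientGroup.mk (⟨b, hb⟩ : P) := by
        intro a b ha hb h
        exact QuotientGroup.eq.2 (show (⟨a, ha⟩⁻¹ * ⟨b, hb⟩ : P).1 ∈ V from h)
      have hs'P : s' ∈ P := ⟨hs', hs'C⟩
      have h3 := conj_mul_ne (Nat.card (P ⧸ Vp)) (P ⧸ Vp) le_rfl hP2 jb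
        (QuotientGroup.mk (⟨s, hs⟩ : P)) (QuotientGroup.mk (⟨s', hs'P⟩ : P)) (by
          show QuotientGroup.mk (⟨j, hjP⟩ * (⟨s, hs⟩ * ⟨j, hjP⟩ * ⟨s, hs⟩⁻¹) : P) =
            QuotientGroup.mk (⟨s', hs'P⟩ * ⟨j, hjP⟩ * ⟨s', hs'P⟩⁻¹ : P)
          refine hmk q (s' * j * s'⁻¹) _ _ ?_
          rcases hcase with h | h
          · exact h ▸ hq'V
          · have h5 : q⁻¹ * (s' * j * s'⁻¹) = q⁻¹ * q' * z := by
              rw [h]; simp [mul_assoc, hv44]
            rw [h5]
            exact mul_mem hq'V hzV)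
      rw [hjb, QuotientGroup.eq_one_iff, mem_subgroupOf] at h3
      exact hjz (eq_of_invol hVc h3 hzV hj hv44 hj1 hv2)
  -- hence `t² ∈ V`
  have hvE : ∀ e ∈ (E : Set G), e * v = v * e := fun e he => hCv e (hEC he)
  have hUc : IsCyclic U := isCyclic_of_central (S.2.to_le (inf_le_left.trans inf_le_left))
    ⟨⟨hVS S hv, hVC hv⟩, mem_centralizer_iff.2 hvE⟩ (fun x hx => hCv x hx.1.2) hv2 hUz
  have ht2U : t * t ∈ U := ⟨⟨mul_mem htS htS, htt⟩, mem_centralizer_iff.2 fun e he => by
    rw [← mul_assoc, htE e he, mul_assoc, htE e he, ← mul_assoc]⟩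
  have ht2V : t * t ∈ V := by
    have hVU : V ≤ U := fun y hy => ⟨⟨hVS S hy, hVC hy⟩, mem_centralizer_iff.2 fun e he =>
      (mem_centralizer_iff.1 (hEC he) y hy).symm⟩
    obtain ⟨a, ha⟩ := IsPGroup.iff_card.1 hV2
    obtain ⟨b, hb⟩ := IsPGroup.iff_card.1
      ((S.2.to_le (inf_le_left.trans inf_le_left : U ≤ (S : Subgroup G))).to_le
        (show zpowers (t * t) ≤ U from zpowers_le.2 ht2U))
    rcases le_total b a with h | h
    · exact le_of_card_dvd hUc (zpowers_le.2 ht2U) hVU (ha ▸ hb ▸ pow_dvd_pow 2 h) (mem_zpowers _)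
    · have hle := le_of_card_dvd hUc hVU (zpowers_le.2 ht2U) (ha ▸ hb ▸ pow_dvd_pow 2 h)
      refine absurd (mem_centralizer_iff.2 fun y hy => ?_) htC
      obtain ⟨i, rfl⟩ := mem_zpowers_iff.1 (hle hy)
      exact (((Commute.refl t).mul_left (Commute.refl t)).zpow_left i).eq
  -- the final contradiction
  set w' := c₀ * w * c₀⁻¹ with hw'
  have hw'C : w' ∈ C := mul_mem (mul_mem hc₀C hwC) (inv_mem hc₀C)
  have hw'2 : w' * w' = 1 := by
    calc w' * w' = c₀ * (w * w) * c₀⁻¹ := by rw [hw']; group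
      _ = 1 := by rw [hw]; group
  have hw'S : w' ∈ ((c₀ • S : Sylow 2 G) : Subgroup G) := by
    rw [Sylow.coe_subgroup_smul]; exact ⟨w, hwS, rfl⟩
  set r := t * w' with hr
  have hrC : r ∉ C := fun h => htC (by simpa [hr] using mul_mem h (inv_mem hw'C))
  obtain ⟨a, b, hb, hab⟩ := Nat.exists_eq_two_pow_mul_odd (orderOf_pos r).ne'
  set r0 := r ^ b with hr0
  have hr0p : r0 ^ 2 ^ a = 1 := by rw [hr0, ← pow_mul, mul_comm, ← hab, pow_orderOf_eq_one]
  have hr0C : r0 ∉ C := fun h => hrC (by
    obtain ⟨k, hk⟩ := hpow r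
    have h1 : ((r : G ⧸ C)) ^ 2 ^ k = 1 := by
      rw [← QuotientGroup.mk_pow]; exact (QuotientGroup.eq_one_iff _).2 hk
    have h2 : ((r : G ⧸ C)) ^ b = 1 := by
      rw [← QuotientGroup.mk_pow]; exact (QuotientGroup.eq_one_iff _).2 h
    have h3 := pow_gcd_eq_one.2 ⟨h1, h2⟩
    rw [Nat.Coprime.gcd_eq_one ((Nat.coprime_two_left.2 hb).pow_left k), pow_one] at h3
    exact (QuotientGroup.eq_one_iff r).1 h3)
  obtain ⟨T, hT⟩ := (isPGroup_zpowers hr0p).exists_le_sylow
  have hr0T : r0 ∈ (T : Subgroup G) := hT (mem_zpowers _)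
  haveI hVn : V.Normal := Solvable.pCore_normal 2
  set π := QuotientGroup.mk' V with hπ
  have hπt : π t * π t = 1 := by
    rw [← map_mul, hπ, QuotientGroup.mk'_apply]; exact (QuotientGroup.eq_one_iff _).2 ht2V
  have hπw : π w' * π w' = 1 := by rw [← map_mul, hw'2, map_one]
  have hti : (π t)⁻¹ = π t := inv_eq_of_mul_eq_one_right hπt
  have hwi : (π w')⁻¹ = π w' := inv_eq_of_mul_eq_one_right hπw
  have hgo : ∀ u : G, (∃ k, u ^ 2 ^ k = 1) → π u * π r * (π u)⁻¹ = (π r)⁻¹ →
      u ∈ (T : Subgroup G) := by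
    intro u hu hur
    obtain ⟨k, hk⟩ := hu
    have h1 : π (u * r0 * u⁻¹) = π r0⁻¹ := by
      rw [hr0, map_mul, map_mul, map_inv, map_inv, map_pow, ← conj_pow, hur, inv_pow]
    have h2 : r0 * (u * r0 * u⁻¹) ∈ V := by
      rw [← QuotientGroup.eq_one_iff, ← QuotientGroup.mk'_apply, map_mul, h1, map_inv,
        mul_inv_cancel]
    have h3 : u * r0 * u⁻¹ ∈ (T : Subgroup G) := by
      simpa using mul_mem (inv_mem hr0T) (hVS T h2)
    have h4 : u * r0 * u⁻¹ ∉ C := fun h => hr0C (by
      simpa [mul_assoc] using hCn.conj_mem _ h u⁻¹)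
    exact mem_of_normalizes T (isPGroup_zpowers hk)
      (smul_eq_of_unique hr0T h3 fun T' hT' => hout _ h4 T' T hT' h3)
  have htT : t ∈ (T : Subgroup G) := by
    obtain ⟨k, hk⟩ := S.2 ⟨t, htS⟩
    refine hgo t ⟨k, by simpa using congrArg Subtype.val hk⟩ ?_
    rw [hr, map_mul π t w', mul_inv_rev, hti, hwi, ← mul_assoc, hπt, one_mul]
  have hwT : w' ∈ (T : Subgroup G) := by
    refine hgo w' ⟨1, by rw [pow_one, sq, hw'2]⟩ ?_
    rw [hr, map_mul π t w', mul_inv_rev, hti, hwi, mul_assoc, mul_assoc, hπw, mul_one]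
  have hTS : T = S := hout t htC T S htT htS
  refine hc₀ (hinv w' hw'2 (by simpa [hw'] using hw1) ?_ _ _ hw'S (hTS ▸ hwT))
  intro h
  rw [hw', ← hzc c₀] at h
  exact hwz (mul_left_cancel (mul_right_cancel h))

theorem solvable_normal_le {N : Subgroup G} (hN : N.Normal) (hs : Group.IsSolvable N) :
    N ≤ Cfsg.pCore 2 G :=
  solvable_le hO le_rfl hN hs (by rw [centralizer_core hFT hC hO hns]; exact le_top)

end Core

end CfsgLib.FTRows.CyclicMeet

namespace CfsgLib.FTRows

open Subgroup

/-- S3306 relative to the solvability of groups of odd order. -/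
theorem cyclic_intersections_radical (hFT : OddSolvable.{u}) {G : Type u} [Group G] [Finite G]
    (hns : ¬ Group.IsSolvable G)
    (hC : ∀ S T : Sylow 2 G, S ≠ T → IsCyclic ↥((S : Subgroup G) ⊓ (T : Subgroup G)))
    (N : Subgroup G) [N.Normal] (hN : Group.IsSolvable ↥N) :
    IsCyclic ↥(N.map (QuotientGroup.mk' (Cfsg.oddCore G))) ∧
      IsPGroup 2 ↥(N.map (QuotientGroup.mk' (Cfsg.oddCore G))) ∧
      N.map (QuotientGroup.mk' (Cfsg.oddCore G)) ≤ Subgroup.center (G ⧸ Cfsg.oddCore G) := by
  set π := QuotientGroup.mk' (Cfsg.oddCore G)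
  have hns' : ¬ Group.IsSolvable (G ⧸ Cfsg.oddCore G) := fun h => hns (by
    haveI := h
    haveI : Group.IsSolvable (Cfsg.oddCore G) := hFT _ LocalB.odd_card_oddCore
    exact Group.isSolvable_of_ker_le_range (Cfsg.oddCore G).subtype π (by simp [π]))
  have hC' := Cfsg.Agent.S3305.result hC (Cfsg.oddCore G)
  have hO := LocalB.oddCore_quotient (H := G)
  haveI := hN
  have hle : N.map π ≤ Cfsg.pCore 2 (G ⧸ Cfsg.oddCore G) :=
    CyclicMeet.solvable_normal_le hFT hC' hO hns'
      (Subgroup.Normal.map inferInstance π (QuotientGroup.mk'_surjective _))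
      (Group.isSolvable_of_surjective (π.subgroupMap_surjective N))
  haveI := CyclicMeet.core_cyclic hFT hC' hns'
  refine ⟨isCyclic_of_injective (inclusion hle) (inclusion_injective hle),
    (Solvable.isPGroup_pCore 2).to_le hle, fun x hx => mem_center_iff.2 fun g => ?_⟩
  have hg : g ∈ centralizer (Cfsg.pCore 2 (G ⧸ Cfsg.oddCore G) : Set _) := by
    rw [CyclicMeet.centralizer_core hFT hC' hO hns']; exact mem_top _
  exact (mem_centralizer_iff.1 hg x (hle hx)).symm

end CfsgLib.FTRows
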