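import Cfsg.Agent.Char.Linear
import Mathlib.Algebra.BigOperators.Field
import Mathlib.Tactic.Ring
import Mathlib.Tactic.Linarith

/-!
Sums over the linear characters of a finite abelian group, signed three-point vectors with mutual
inner product two, and the Diophantine equation of the homocyclic Sylow 2 degree relations.
-/

set_option autoImplicit false

namespace CfsgLib.FTRows.Dual

open Finset
open scoped ComplexConjugate

universe u v

variable {S : Type u} [Group S]

/-- The value of a linear character as a complex number. -/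
abbrev ev (l : S →* ℂˣ) (s : S) : ℂ := ((l s : ℂˣ) : ℂ)

theorem finite_dual [Finite S] : Finite (S →* ℂˣ) := by
  refine Nat.finite_of_card_ne_zero ?_
  rw [CfsgLib.Char.card_hom_eq_index_commutator]
  exact Subgroup.index_ne_zero_of_finite

theorem card_dual [Finite S] (hab : ∀ a b : S, a * b = b * a) :
    Nat.card (S →* ℂˣ) = Nat.card S := by
  rw [CfsgLib.Char.card_hom_eq_index_commutator]
  have h : commutator S = ⊥ := by
    rw [commutator_def, Subgroup.commutator_eq_bot_iff_le_centralizer]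
    exact fun x _ => Subgroup.mem_centralizer_iff.2 fun y _ => hab y x
  rw [h, Subgroup.index_bot]

theorem conj_ev [Finite S] (l : S →* ℂˣ) (s : S) : conj (ev l s) = ev l s⁻¹ := by
  have h : (ev l s) ^ Nat.card S = 1 := by
    rw [← Units.val_pow_eq_pow_val, ← map_pow, pow_card_eq_one', map_one, Units.val_one]
  rw [← Complex.inv_eq_conj (Complex.norm_eq_one_of_pow_eq_one h Nat.card_pos.ne')]
  simp [ev]

theorem ev_mul (l : S →* ℂˣ) (s s' : S) : ev l (s * s') = ev l s * ev l s' := by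
  simp [ev]

variable [Fintype S] [Fintype (S →* ℂˣ)]

omit [Fintype (S →* ℂˣ)] in
theorem sum_ev {l : S →* ℂˣ} (hl : l ≠ 1) : ∑ s, ev l s = 0 := by
  obtain ⟨g, hg⟩ : ∃ g, ev l g ≠ 1 := by
    by_contra h
    push Not at h
    exact hl (MonoidHom.ext fun g => Units.ext (by simpa [ev] using h g))
  have h1 : (∑ s, ev l s) * ev l g = ∑ s, ev l s := by
    rw [Finset.sum_mul]
    exact Fintype.sum_equiv (Equiv.mulRight g) _ _ fun s => by simp [ev]
  have h2 : (∑ s, ev l s) * (ev l g - 1) = 0 := by rw [mul_sub, h1, mul_one, sub_self]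
  exact (mul_eq_zero.1 h2).resolve_right (sub_ne_zero.2 hg)

theorem sum_dual (hab : ∀ a b : S, a * b = b * a) {s : S} (hs : s ≠ 1) :
    ∑ l : S →* ℂˣ, ev l s = 0 := by
  have hc : s ∉ commutator S := fun h => hs (by
    have hb : commutator S = ⊥ := by
      rw [commutator_def, Subgroup.commutator_eq_bot_iff_le_centralizer]
      exact fun x _ => Subgroup.mem_centralizer_iff.2 fun y _ => hab y x
    rwa [hb, Subgroup.mem_bot] at h)
  obtain ⟨m, hm⟩ := CfsgLib.Char.exists_hom_ne_one hc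
  have hm' : ev m s ≠ 1 := fun h => hm (Units.ext (by simpa [ev] using h))
  have h1 : ev m s * ∑ l : S →* ℂˣ, ev l s = ∑ l : S →* ℂˣ, ev l s := by
    rw [Finset.mul_sum]
    exact Fintype.sum_equiv (Equiv.mulLeft m) _ _ fun l => by simp [ev]
  have h2 : (ev m s - 1) * ∑ l : S →* ℂˣ, ev l s = 0 := by rw [sub_mul, h1, one_mul, sub_self]
  exact (mul_eq_zero.1 h2).resolve_left (sub_ne_zero.2 hm')

theorem sum_dual_eq (hab : ∀ a b : S, a * b = b * a) [DecidableEq S] (s : S) :
    ∑ l : S →* ℂˣ, ev l s = if s = 1 then (Nat.card S : ℂ) else 0 := by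
  split_ifs with h
  · subst h
    rw [← card_dual hab, Nat.card_eq_fintype_card]
    simp [ev]
  · exact sum_dual hab h

theorem sum_ev_eq [DecidableEq (S →* ℂˣ)] (l : S →* ℂˣ) :
    ∑ s, ev l s = if l = 1 then (Nat.card S : ℂ) else 0 := by
  split_ifs with h
  · subst h
    simp [ev, Nat.card_eq_fintype_card]
  · exact sum_ev h

/-- Integer vectors of norm three with pairwise inner product two, at least five of them, have a
common pair of entries. -/
theorem sunflower {X : Type v} [DecidableEq X] (B : Finset X) (V : Finset (X → ℤ))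
    (hV : 5 ≤ V.card) (hz : ∀ v ∈ V, ∀ x ∉ B, v x = 0)
    (hnorm : ∀ v ∈ V, ∑ x ∈ B, v x * v x = 3)
    (hinner : ∀ v ∈ V, ∀ w ∈ V, v ≠ w → ∑ x ∈ B, v x * w x = 2) :
    ∃ p ∈ B, ∃ q ∈ B, p ≠ q ∧ ∃ a b : ℤ, (a = 1 ∨ a = -1) ∧ (b = 1 ∨ b = -1) ∧
      ∀ v ∈ V, ∃ r ∈ B, r ≠ p ∧ r ≠ q ∧ v p = a ∧ v q = b ∧ (v r = 1 ∨ v r = -1) ∧
        ∀ x, x ≠ p → x ≠ q → x ≠ r → v x = 0 := by
  classical
  set T : (X → ℤ) → Finset X := fun v => B.filter fun x => v x ≠ 0 with hT
  have hunit : ∀ v ∈ V, ∀ x ∈ T v, v x = 1 ∨ v x = -1 := by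
    intro v hv x hx
    obtain ⟨hxB, hx0⟩ := Finset.mem_filter.1 hx
    have h3 : v x * v x ≤ 3 :=
      hnorm v hv ▸ Finset.single_le_sum (fun y _ => mul_self_nonneg (v y)) hxB
    have h1 : -2 < v x := by nlinarith
    have h2 : v x < 2 := by nlinarith
    omega
  have hcard : ∀ v ∈ V, (T v).card = 3 := by
    intro v hv
    have h := hnorm v hv
    rw [← Finset.sum_filter_of_ne (p := fun x => v x ≠ 0)
      (fun x _ hx e => hx (by rw [e, zero_mul]))] at h
    change ∑ x ∈ T v, v x * v x = 3 at h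
    rw [Finset.sum_congr rfl fun x hx => show v x * v x = 1 by
      rcases hunit v hv x hx with e | e <;> rw [e] <;> norm_num, Finset.sum_const, nsmul_eq_mul,
      mul_one] at h
    exact_mod_cast h
  have hmem : ∀ v ∈ V, ∀ x, v x ≠ 0 → x ∈ T v := fun v hv x hx =>
    Finset.mem_filter.2 ⟨by_contra fun hB => hx (hz v hv x hB), hx⟩
  have hpair : ∀ v ∈ V, ∀ w ∈ V, v ≠ w →
      (T v ∩ T w).card = 2 ∧ ∀ x ∈ T v ∩ T w, v x = w x := by
    intro v hv w hw hne
    have h := hinner v hv w hw hne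
    have hsum : ∑ x ∈ B, v x * w x = ∑ x ∈ T v ∩ T w, v x * w x := by
      refine (Finset.sum_subset (fun x hx => (Finset.mem_filter.1 (Finset.mem_inter.1 hx).1).1)
        fun x hxB hx => ?_).symm
      by_contra hx0
      exact hx (Finset.mem_inter.2 ⟨hmem v hv x fun e => hx0 (by rw [e, zero_mul]),
        hmem w hw x fun e => hx0 (by rw [e, mul_zero])⟩)
    rw [hsum] at h
    have hterm : ∀ x ∈ T v ∩ T w, v x * w x = 1 ∨ v x * w x = -1 := fun x hx => by
      rcases hunit v hv x (Finset.mem_inter.1 hx).1 with e | e <;>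
        rcases hunit w hw x (Finset.mem_inter.1 hx).2 with e' | e' <;> rw [e, e'] <;> norm_num
    have hle : (∑ x ∈ T v ∩ T w, v x * w x) ≤ (T v ∩ T w).card := by
      calc (∑ x ∈ T v ∩ T w, v x * w x) ≤ ∑ _x ∈ T v ∩ T w, (1 : ℤ) :=
            Finset.sum_le_sum fun x hx => by rcases hterm x hx with e | e <;> omega
        _ = _ := by simp
    have hle3 : (T v ∩ T w).card ≤ 3 :=
      (Finset.card_le_card Finset.inter_subset_left).trans (hcard v hv).le
    have hne3 : (T v ∩ T w).card ≠ 3 := by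
      intro e
      obtain ⟨x, y, z, hxy, hxz, hyz, he⟩ := Finset.card_eq_three.1 e
      rw [he, Finset.sum_insert (by simp [hxy, hxz]), Finset.sum_insert (by simp [hyz]),
        Finset.sum_singleton] at h
      have h1 := hterm x (he ▸ by simp)
      have h2 := hterm y (he ▸ by simp)
      have h3 := hterm z (he ▸ by simp)
      omega
    have hc : (T v ∩ T w).card = 2 := by omega
    refine ⟨hc, ?_⟩
    obtain ⟨x, y, hxy, he⟩ := Finset.card_eq_two.1 hc
    rw [he, Finset.sum_pair hxy] at h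
    intro z hz'
    rw [he, Finset.mem_insert, Finset.mem_singleton] at hz'
    have h1 := hterm x (he ▸ by simp)
    have h2 := hterm y (he ▸ by simp)
    have hxm : x ∈ T v ∩ T w := he ▸ by simp
    have hym : y ∈ T v ∩ T w := he ▸ by simp
    have key : ∀ z ∈ T v ∩ T w, v z * w z = 1 → v z = w z := fun z hz h1 => by
      rcases hunit v hv z (Finset.mem_inter.1 hz).1 with e | e <;> rw [e] at h1 ⊢ <;> omega
    rcases hz' with rfl | rfl
    · exact key _ hxm (by omega)
    · exact key _ hym (by omega)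
  obtain ⟨v₁, h₁, v₂, h₂, h12⟩ := Finset.one_lt_card.1 (by omega : 1 < V.card)
  obtain ⟨hc12, he12⟩ := hpair v₁ h₁ v₂ h₂ h12
  obtain ⟨p, q, hpq, hI⟩ := Finset.card_eq_two.1 hc12
  have hall : ∀ v ∈ V, T v₁ ∩ T v₂ ⊆ T v := by
    intro v hv x hx
    by_contra hxv
    have hv1 : v ≠ v₁ := fun e => hxv (e ▸ (Finset.mem_inter.1 hx).1)
    have hv2 : v ≠ v₂ := fun e => hxv (e ▸ (Finset.mem_inter.1 hx).2)
    have hA : ∀ w ∈ V, v ≠ w → x ∈ T w → T v ∩ T w = (T w).erase x := by
      intro w hw hne hxw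
      refine Finset.eq_of_subset_of_card_le (fun y hy => Finset.mem_erase.2
        ⟨fun e => hxv (e ▸ (Finset.mem_inter.1 hy).1), (Finset.mem_inter.1 hy).2⟩) ?_
      rw [(hpair v hv w hw hne).1, Finset.card_erase_of_mem hxw, hcard w hw]
    have hU : T v = (T v₁ ∪ T v₂).erase x := by
      refine (Finset.eq_of_subset_of_card_le (fun y hy => ?_) ?_).symm
      · obtain ⟨hyx, hy⟩ := Finset.mem_erase.1 hy
        rcases Finset.mem_union.1 hy with hy | hy
        · exact (Finset.mem_inter.1 ((hA v₁ h₁ hv1 (Finset.mem_inter.1 hx).1).ge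
            (Finset.mem_erase.2 ⟨hyx, hy⟩))).1
        · exact (Finset.mem_inter.1 ((hA v₂ h₂ hv2 (Finset.mem_inter.1 hx).2).ge
            (Finset.mem_erase.2 ⟨hyx, hy⟩))).1
      · rw [hcard v hv, Finset.card_erase_of_mem (Finset.mem_union_left _ (Finset.mem_inter.1 hx).1)]
        have := Finset.card_union_add_card_inter (T v₁) (T v₂)
        rw [hcard v₁ h₁, hcard v₂ h₂, hc12] at this
        omega
    have hsub : ∀ w ∈ V, T w ⊆ T v₁ ∪ T v₂ := by
      intro w hw y hy
      by_contra hyU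
      have hy1 : w ≠ v₁ := fun e => hyU (Finset.mem_union_left _ (e ▸ hy))
      have hy2 : w ≠ v₂ := fun e => hyU (Finset.mem_union_right _ (e ▸ hy))
      have hy3 : w ≠ v := fun e => hyU (Finset.mem_of_mem_erase (hU ▸ e ▸ hy))
      have hrest : ((T w).erase y).card = 2 := by
        rw [Finset.card_erase_of_mem hy, hcard w hw]
      have hK : ∀ z ∈ V, w ≠ z → y ∉ T z → (T w).erase y ⊆ T z := by
        intro z hz hne hyz a ha
        have he : T w ∩ T z = (T w).erase y :=
          Finset.eq_of_subset_of_card_le (fun b hb => Finset.mem_erase.2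
            ⟨fun e => hyz (e ▸ (Finset.mem_inter.1 hb).2), (Finset.mem_inter.1 hb).1⟩)
            (by rw [hrest, (hpair w hw z hz hne).1])
        exact (Finset.mem_inter.1 (he.ge ha)).2
      have h3 : (T w).erase y ⊆ (T v₁ ∩ T v₂).erase x := by
        intro a ha
        have a1 := hK v₁ h₁ hy1 (fun h => hyU (Finset.mem_union_left _ h)) ha
        have a2 := hK v₂ h₂ hy2 (fun h => hyU (Finset.mem_union_right _ h)) ha
        have a3 := hK v hv hy3 (fun h => hyU (Finset.mem_of_mem_erase (hU ▸ h))) ha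
        exact Finset.mem_erase.2 ⟨fun e => hxv (e ▸ a3), Finset.mem_inter.2 ⟨a1, a2⟩⟩
      have := Finset.card_le_card h3
      rw [hrest, Finset.card_erase_of_mem hx, hc12] at this
      omega
    have h4 : (V.image T).card = V.card := Finset.card_image_of_injOn fun a ha b hb e => by
      by_contra hne
      have := (hpair a ha b hb hne).1
      rw [show T a = T b from e, Finset.inter_self, hcard b hb] at this
      omega
    have h5 : V.image T ⊆ (T v₁ ∪ T v₂).powersetCard 3 := fun t ht => by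
      obtain ⟨w, hw, rfl⟩ := Finset.mem_image.1 ht
      exact Finset.mem_powersetCard.2 ⟨hsub w hw, hcard w hw⟩
    have := Finset.card_le_card h5
    rw [h4, Finset.card_powersetCard] at this
    have hu := Finset.card_union_add_card_inter (T v₁) (T v₂)
    rw [hcard v₁ h₁, hcard v₂ h₂, hc12] at hu
    rw [show (T v₁ ∪ T v₂).card = 4 by omega] at this
    norm_num [Nat.choose] at this
    omega
  have hp : p ∈ T v₁ ∩ T v₂ := hI ▸ by simp
  have hq : q ∈ T v₁ ∩ T v₂ := hI ▸ by simp
  have hp1 := (Finset.mem_inter.1 hp).1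
  have hq1 := (Finset.mem_inter.1 hq).1
  refine ⟨p, (Finset.mem_filter.1 hp1).1, q, (Finset.mem_filter.1 hq1).1, hpq, v₁ p, v₁ q,
    hunit v₁ h₁ p hp1, hunit v₁ h₁ q hq1, fun v hv => ?_⟩
  have hpv := hall v hv hp
  have hqv := hall v hv hq
  have hr : (((T v).erase p).erase q).card = 1 := by
    rw [Finset.card_erase_of_mem (Finset.mem_erase.2 ⟨hpq.symm, hqv⟩),
      Finset.card_erase_of_mem hpv, hcard v hv]
  obtain ⟨r, hr⟩ := Finset.card_eq_one.1 hr
  have hrm : r ∈ ((T v).erase p).erase q := hr ▸ Finset.mem_singleton_self r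
  obtain ⟨hrq, hrm⟩ := Finset.mem_erase.1 hrm
  obtain ⟨hrp, hrT⟩ := Finset.mem_erase.1 hrm
  have hagree : ∀ x ∈ T v₁ ∩ T v₂, v x = v₁ x := fun x hx => by
    by_cases e : v = v₁
    · rw [e]
    · exact (hpair v hv v₁ h₁ e).2 x
        (Finset.mem_inter.2 ⟨hall v hv hx, (Finset.mem_inter.1 hx).1⟩)
  refine ⟨r, (Finset.mem_filter.1 hrT).1, hrp, hrq, hagree p hp, hagree q hq,
    hunit v hv r hrT, fun x hxp hxq hxr => ?_⟩
  by_contra hx0
  exact hxr (Finset.mem_singleton.1 (hr ▸ Finset.mem_erase.2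
    ⟨hxq, Finset.mem_erase.2 ⟨hxp, hmem v hv x hx0⟩⟩))

/-- The only solution of the degree relations with both degrees congruent to one modulo 16. -/
theorem eq_one_of_relation {x y : ℤ} (hx : (16 : ℤ) ∣ x - 1) (hy : (16 : ℤ) ∣ y - 1)
    (h : (1 + x + y) * (x * y + x + y) = 9 * (x * y)) : x = 1 := by
  obtain ⟨i, hi⟩ := hx
  obtain ⟨j, hj⟩ := hy
  obtain rfl : x = 16 * i + 1 := by omega
  obtain rfl : y = 16 * j + 1 := by omega
  have h' : (i * j) * (8 * (i + j) - 3) = -((i + j) * (i + j)) := by linarith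
  have hd : 8 * (i + j) - 3 ∣ (9 : ℤ) := ⟨-(64 * (i * j)) - 8 * (i + j) - 3, by linarith⟩
  have hle := Int.le_of_dvd (by norm_num) hd
  have hge := Int.le_of_dvd (by norm_num) (neg_dvd.2 hd)
  have hs : i + j = 0 ∨ i + j = 1 := by omega
  rcases hs with hs | hs <;> rw [hs] at h'
  · have hq : i * j = 0 := by linarith
    rcases mul_eq_zero.1 hq with h0 | h0
    · rw [h0]; ring
    · have : i = 0 := by omega
      rw [this]; ring
  · omega

end CfsgLib.FTRows.Dual
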