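import Cfsg.Agent.FTRows.InvNilMaxTwo
import Cfsg.Agent.FGSA.GTCriterion
import Cfsg.Agent.ZJ.Constrained
import Cfsg.Agent.Fusion.InnerZJ

/-!
Coprime action with a nilpotent maximal invariant subgroup whose Sylow 2-subgroup has class at
most two (S4038), relative to the solvability of groups of odd order.
-/

set_option autoImplicit false
set_option linter.style.haveILetI false

universe u v

namespace CfsgLib.InvNilMax

open Subgroup

/-- Stability under all operators. -/
def Inv {A : Type v} [Group A] {G : Type u} [Group G] (φ : A →* MulAut G) (H : Subgroup G) : Prop :=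
  ∀ a : A, ∀ h : G, h ∈ H → φ a h ∈ H

theorem Inv.map_eq {A : Type v} [Group A] {G : Type u} [Group G] {φ : A →* MulAut G}
    {H : Subgroup G} (h : Inv φ H) (a : A) : H.map (φ a).toMonoidHom = H := by
  refine le_antisymm (map_le_iff_le_comap.2 fun x hx => h a x hx) fun x hx => ?_
  exact ⟨φ a⁻¹ x, h a⁻¹ x hx, by simp⟩

theorem Inv.normalizer {A : Type v} [Group A] {G : Type u} [Group G] [Finite G]
    {φ : A →* MulAut G} {H : Subgroup G} (h : Inv φ H) :
    Inv φ (normalizer (H : Set G)) := by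
  intro a n hn
  refine mem_normalizer_of_conj_le fun x hx => ?_
  have h1 := h a _ ((mem_normalizer_iff.1 hn _).1 (h a⁻¹ x hx))
  simpa using h1

/-- The commutator condition on the 2-elements of `M`. -/
def TwoClass {G : Type u} [Group G] (M : Subgroup G) : Prop :=
  ∀ x ∈ M, ∀ y ∈ M, ∀ z ∈ M, (∃ i, orderOf x = 2 ^ i) → (∃ i, orderOf y = 2 ^ i) →
    (∃ i, orderOf z = 2 ^ i) → Commute (x * y * x⁻¹ * y⁻¹) z

theorem twoClass_of_sylow {G : Type u} [Group G] [Finite G] {M : Subgroup G}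
    (hnil : Group.IsNilpotent M)
    (h2 : ∀ S : Sylow 2 ↥M, Group.nilpotencyClass ↥(S : Subgroup ↥M) ≤ 2) : TwoClass M := by
  haveI : Fact (Nat.Prime 2) := ⟨Nat.prime_two⟩
  haveI := hnil
  obtain ⟨P⟩ : Nonempty (Sylow 2 M) := inferInstance
  haveI : (P : Subgroup M).Normal := inferInstance
  haveI := P.2.isNilpotent
  have hmem : ∀ x (hx : x ∈ M), (∃ i, orderOf x = 2 ^ i) → (⟨x, hx⟩ : M) ∈ (P : Subgroup M) := by
    rintro x hx ⟨i, hi⟩
    have hz : IsPGroup 2 (zpowers (⟨x, hx⟩ : M)) := IsPGroup.of_card (n := i) (by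
      rw [Nat.card_zpowers, Subgroup.orderOf_mk, hi])
    exact P.3 (hz.to_sup_of_normal_right P.2) le_sup_right ▸ mem_sup_left (mem_zpowers _)
  have htop : Subgroup.upperCentralSeries P 2 = ⊤ := top_le_iff.1
    ((Subgroup.upperCentralSeries_nilpotencyClass (G := P)).ge.trans
      (Subgroup.upperCentralSeries_mono P (h2 P)))
  intro x hx y hy z hz hxo hyo hzo
  have h1 : (⟨_, hmem x hx hxo⟩ : (P : Subgroup M)) ∈ Subgroup.upperCentralSeries P 2 := htop ▸ mem_top _
  rw [Subgroup.mem_upperCentralSeries_succ_iff] at h1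
  have h1' := h1 ⟨_, hmem y hy hyo⟩
  simp only [Subgroup.upperCentralSeries_one, commutatorElement_def] at h1'
  exact (congrArg (fun w : (P : Subgroup M) => ((w : M) : G)) (mem_center_iff.1 h1' ⟨_, hmem z hz hzo⟩)).symm

/-- A 2-element of an image comes from a 2-element. -/
theorem exists_lift {G : Type u} {H : Type u} [Group G] [Finite G] [Group H] (f : G →* H) {x : G}
    {i : ℕ} (hi : orderOf (f x) = 2 ^ i) :
    ∃ m : ℕ, f (x ^ m) = f x ∧ ∃ j, orderOf (x ^ m) = 2 ^ j := by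
  set n := orderOf x / 2 ^ (orderOf x).factorization 2 with hn
  have hcop : n.Coprime (orderOf (f x)) := by
    rw [hi]
    exact Nat.Coprime.pow_right i (Nat.coprime_ordCompl Nat.prime_two (orderOf_pos x).ne').symm
  obtain ⟨k, hk⟩ := exists_pow_eq_self_of_coprime hcop
  refine ⟨n * k, by rw [map_pow, pow_mul, hk], ?_⟩
  have h1 : orderOf (x ^ n) = 2 ^ (orderOf x).factorization 2 := by
    rw [orderOf_pow_of_dvd (Nat.ordCompl_pos 2 (orderOf_pos x).ne').ne' (Nat.ordCompl_dvd _ _)]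
    rw [Nat.div_div_self (Nat.ordProj_dvd _ _) (orderOf_pos x).ne']
  obtain ⟨j, -, hj⟩ := (Nat.dvd_prime_pow Nat.prime_two).1 (h1 ▸ orderOf_pow_dvd (x := x ^ n) k)
  exact ⟨j, by rw [pow_mul, hj]⟩

/-- The induction for S4038. -/
theorem isSolvable_of_nilMax (hu : FTRows.OddSolvable.{u}) (hv : FTRows.OddSolvable.{v})
    {A : Type v} [Group A] [Finite A] :
    ∀ (n : ℕ) (G : Type u) [Group G] [Finite G] (φ : A →* MulAut G), Nat.card G = n →
      (Nat.card A).Coprime (Nat.card G) → ∀ M : Subgroup G, M ≠ ⊤ → Inv φ M →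
      (∀ H : Subgroup G, M ≤ H → H ≠ ⊤ → Inv φ H → H = M) → Group.IsNilpotent M → TwoClass M →
      Group.IsSolvable G := by
  intro n
  induction n using Nat.strong_induction_on with
  | _ n ih =>
  intro G _ _ φ hn hcop M hMt hMi hMmax hnil h2
  classical
  subst hn
  haveI : Fact (Nat.Prime 2) := ⟨Nat.prime_two⟩
  by_cases hcore : ∀ N : Subgroup G, N.Normal → Inv φ N → N ≤ M → N = ⊥
  swap
  · push Not at hcore
    obtain ⟨N, hNn, hNi, hNM, hN⟩ := hcore
    haveI := hNn
    set f := QuotientGroup.mk' N with hf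
    have hfs : Function.Surjective f := QuotientGroup.mk'_surjective N
    let ψ : A →* MulAut (G ⧸ N) :=
      { toFun := fun a => QuotientGroup.congr N N (φ a) (hNi.map_eq a)
        map_one' := MulEquiv.ext fun q => QuotientGroup.induction_on q fun g => by
          show ((φ 1 g : G) : G ⧸ N) = g
          simp
        map_mul' := fun a b => MulEquiv.ext fun q => QuotientGroup.induction_on q fun g => by
          show ((φ (a * b) g : G) : G ⧸ N) = ((φ a (φ b g) : G) : G ⧸ N)
          simp }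
    have hψ : ∀ (a : A) (g : G), ψ a (f g) = f (φ a g) := fun a g => rfl
    have hcm : (M.map f).comap f = M := by
      rw [comap_map_eq, hf, QuotientGroup.ker_mk', sup_eq_left.2 hNM]
    haveI := hnil
    haveI hnil' : Group.IsNilpotent (M.map f) :=
      Group.nilpotent_of_surjective (f.subgroupMap M) (f.subgroupMap_surjective M)
    haveI : Group.IsSolvable N := by
      haveI : Group.IsSolvable M := inferInstance
      exact Group.isSolvable_of_isSolvable_injective (inclusion_injective hNM)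
    haveI := ih _ (CfsgLib.Solvable.card_quotient_lt hN) (G ⧸ N) ψ rfl
      (hcop.coprime_dvd_right N.card_quotient_dvd_card) (M.map f)
      (fun e => hMt (by rw [← hcm, e, comap_top]))
      (by rintro a _ ⟨m, hm, rfl⟩; exact ⟨φ a m, hMi a m hm, (hψ a m).symm⟩)
      (fun H hH hHt hHi => by
        have h1 := hMmax (H.comap f) (hcm ▸ comap_mono hH)
          (fun e => hHt (comap_injective hfs (by rw [e, comap_top])))
          (fun a g hg => by
            show f (φ a g) ∈ H
            rw [← hψ]; exact hHi a _ hg)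
        rw [← map_comap_eq_self_of_surjective hfs H, h1])
      hnil' (by
        rintro _ ⟨x, hx, rfl⟩ _ ⟨y, hy, rfl⟩ _ ⟨z, hz, rfl⟩ ⟨i, hi⟩ ⟨j, hj⟩ ⟨k, hk⟩
        obtain ⟨mx, ex, hx'⟩ := exists_lift f hi
        obtain ⟨my, ey, hy'⟩ := exists_lift f hj
        obtain ⟨mz, ez, hz'⟩ := exists_lift f hk
        have := (h2 _ (pow_mem hx mx) _ (pow_mem hy my) _ (pow_mem hz mz) hx' hy' hz').map f
        rw [map_mul, map_mul, map_mul, map_inv, map_inv, ex, ey, ez] at this
        exact this)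
    exact Group.isSolvable_of_ker_le_range N.subtype f (by
      rw [hf, QuotientGroup.ker_mk', N.range_subtype])
  rcases Nat.even_or_odd (Nat.card G) with hG | hG
  swap
  · exact hu G hG
  haveI := hnil
  have hAodd : Odd (Nat.card A) := by
    refine Nat.coprime_two_left.1 (Nat.Coprime.coprime_dvd_left hG.two_dvd hcop.symm)
  have hMN : ∀ X : Subgroup G, Inv φ X → X ≠ ⊥ → X ≤ M → M ≤ normalizer (X : Set G) →
      normalizer (X : Set G) = M := fun X hXi hX hXM hMX => by
    refine hMmax _ hMX (fun e => hX (hcore X (normalizer_eq_top_iff.1 e) hXi hXM)) hXi.normalizer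
  have hMmem : ∀ (a : A) (x : G), x ∈ M → φ a x ∈ M := hMi
  -- Sylow subgroups of `M` for odd primes give normal complements
  have hnpc : ∀ p : ℕ, p.Prime → p ≠ 2 → p ∣ Nat.card M →
      ∃ C : Subgroup G, C.Normal ∧ ¬ p ∣ Nat.card C ∧ ∀ q : ℕ, q.Prime → q ≠ p → ¬ q ∣ C.index := by
    intro p hp hp2 hpM
    haveI := Fact.mk hp
    obtain ⟨P₀⟩ : Nonempty (Sylow p M) := inferInstance
    haveI : (P₀ : Subgroup M).Normal := inferInstance
    set P := (P₀ : Subgroup M).map M.subtype with hP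
    have hPp : IsPGroup p P := P₀.2.map _
    have hPM : P ≤ M := map_subtype_le _
    have hin : ∀ x ∈ M, (∃ k, orderOf x = p ^ k) → x ∈ P := by
      rintro x hx ⟨k, hk⟩
      have hz : IsPGroup p (zpowers (⟨x, hx⟩ : M)) := IsPGroup.of_card (n := k) (by
        rw [Nat.card_zpowers, Subgroup.orderOf_mk, hk])
      exact ⟨⟨x, hx⟩, P₀.3 (hz.to_sup_of_normal_right P₀.2) le_sup_right ▸
        mem_sup_left (mem_zpowers _), rfl⟩
    have hord : ∀ x ∈ P, ∃ k, orderOf x = p ^ k := fun x hx => by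
      obtain ⟨k, hk⟩ := IsPGroup.iff_orderOf.1 hPp ⟨x, hx⟩
      exact ⟨k, by rw [← hk, Subgroup.orderOf_mk]⟩
    have hPi : Inv φ P := fun a x hx => hin _ (hMi a x (hPM hx)) (by
      obtain ⟨k, hk⟩ := hord x hx
      exact ⟨k, by rw [MulEquiv.orderOf_eq, hk]⟩)
    have hMP : M ≤ normalizer (P : Set G) := fun m hm => mem_normalizer_of_conj_le fun x hx =>
      hin _ (mul_mem (mul_mem hm (hPM hx)) (inv_mem hm)) (by
        obtain ⟨k, hk⟩ := hord x hx
        exact ⟨k, by rw [← hk]; exact MulEquiv.orderOf_eq (MulAut.conj m) x⟩)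
    have hPne : P ≠ ⊥ := fun e => by
      have h := P₀.dvd_card_of_dvd_card hpM
      rw [Nat.card_congr ((P₀ : Subgroup M).equivMapOfInjective _ M.subtype_injective).toEquiv,
        ← hP, e, Subgroup.card_bot] at h
      exact hp.not_dvd_one h
    have hNP := hMN P hPi hPne hPM hMP
    obtain ⟨S, hS⟩ := hPp.exists_le_sylow
    have hSP : (S : Subgroup G) = P := by
      by_contra hne
      have hlt : P.subgroupOf S < normalizer ((P.subgroupOf S : Subgroup S) : Set S) := by
        haveI := S.2.isNilpotent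
        exact Group.normalizerCondition_of_isNilpotent _
          (lt_top_iff_ne_top.2 fun e => hne (le_antisymm (subgroupOf_eq_top.1 e) hS))
      obtain ⟨y, hyN, hyP⟩ := SetLike.exists_of_lt hlt
      refine hyP (mem_subgroupOf.2 (hin _ ?_ ?_))
      · rw [← hNP]
        exact mem_normalizer_of_conj_le fun x hx => (mem_normalizer_iff.1 hyN ⟨x, hS hx⟩).1 hx
      · obtain ⟨k, hk⟩ := IsPGroup.iff_orderOf.1 S.2 y
        exact ⟨k, (Subgroup.orderOf_coe _).trans hk⟩
    set Z := Cfsg.centerThompsonAOf P with hZ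
    have hZP : Z ≤ P := inf_le_left.trans (by
      rw [Cfsg.thompsonSubgroupAOf]
      exact map_subtype_le _)
    have hZmap : ∀ e : MulAut G, P.map e.toMonoidHom = P → Z.map e.toMonoidHom = Z := by
      intro e he
      have hz := CfsgLib.ZJ.centerThompsonAOf_map e.toMonoidHom P fun x _ hx =>
        e.injective (hx.trans (map_one _).symm)
      rw [he] at hz
      exact hz.symm
    have hNPmap : ∀ m ∈ normalizer (P : Set G), P.map (MulAut.conj m).toMonoidHom = P := fun m hm =>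
      mem_normalizer_iff_map_conj_eq.1 hm
    have hNZ := hMN Z (fun a x hx => hZmap (φ a) (hPi.map_eq a) ▸
        mem_map_of_mem (φ a).toMonoidHom hx)
      (CfsgLib.Fusion.centerThompsonAOf_ne_bot hPp hPne) (hZP.trans hPM)
      fun m hm => mem_normalizer_iff_map_conj_eq.2 (hZmap _ (hNPmap m (hMP hm)))
    obtain ⟨T, C, hC, hcomp⟩ := CfsgLib.FGSA.GT.hasNormalPComplement hp2 S (by
      rw [hSP, ← hZ, hNZ]
      exact CfsgLib.FGSA.GT.npc_of_isNilpotent)
    refine ⟨C, hC, ?_, fun q hq hqp hd => ?_⟩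
    · intro hd
      rw [← hcomp.index_eq_card] at hd
      exact T.not_dvd_index hd
    · rw [hcomp.symm.index_eq_card, T.card_eq_multiplicity] at hd
      exact hqp ((Nat.prime_dvd_prime_iff_eq hq Fact.out).1 (hq.dvd_of_dvd_pow hd))
  -- the subgroup generated by the elements of order prime to the odd primes of `M`
  set Good : Set G := {x | ∀ p : ℕ, p.Prime → p ≠ 2 → p ∣ Nat.card M → ¬ p ∣ orderOf x}
  set K : Subgroup G := normalClosure Good with hK
  have hKi : Inv φ K := by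
    intro a k hk
    haveI : (K.comap (φ a).toMonoidHom).Normal := Normal.comap normalClosure_normal _
    have : K ≤ K.comap (φ a).toMonoidHom := normalClosure_le_normal fun x hx =>
      subset_normalClosure (s := Good) (fun p hp hp2 hpM => by
        show ¬ p ∣ orderOf (φ a x)
        rw [MulEquiv.orderOf_eq]; exact hx p hp hp2 hpM)
    exact this hk
  have hKp : ∀ p : ℕ, p.Prime → p ≠ 2 → p ∣ Nat.card M → ¬ p ∣ Nat.card K := by
    intro p hp hp2 hpM hd
    obtain ⟨C, hC, hCp, hCi⟩ := hnpc p hp hp2 hpM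
    haveI := hC
    refine hCp (hd.trans (card_dvd_of_le (normalClosure_le_normal fun x hx => ?_)))
    show x ∈ C
    rw [← QuotientGroup.eq_one_iff, ← orderOf_eq_one_iff]
    by_contra hne
    obtain ⟨q, hq, hqd⟩ := Nat.exists_prime_and_dvd hne
    have h1 : q ∣ C.index := hqd.trans (C.index_eq_card ▸ orderOf_dvd_natCard _)
    have hqp : q = p := by_contra fun h => hCi q hq h h1
    exact hx p hp hp2 hpM (hqp ▸ hqd.trans (orderOf_map_dvd (QuotientGroup.mk' C) x))
  have htwo : ∀ x : G, (∃ i, orderOf x = 2 ^ i) → x ∈ K := fun x ⟨i, hi⟩ =>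
    subset_normalClosure (s := Good) fun p hp hp2 _ hd => hp2
      ((Nat.prime_dvd_prime_iff_eq hp Nat.prime_two).1 (hp.dvd_of_dvd_pow (hi ▸ hd)))
  have htop : M ⊔ K = ⊤ := by
    by_contra hne
    have h1 := hMmax (M ⊔ K) le_sup_left hne fun a g hg => by
      have : (M ⊔ K).map (φ a).toMonoidHom = M ⊔ K := by
        rw [Subgroup.map_sup, hMi.map_eq a, hKi.map_eq a]
      exact this ▸ mem_map_of_mem (φ a).toMonoidHom hg
    have hKM : K ≤ M := le_sup_right.trans h1.le
    obtain ⟨Q⟩ : Nonempty (Sylow 2 G) := inferInstance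
    obtain ⟨x, hxQ, hx1⟩ : ∃ x ∈ (Q : Subgroup G), x ≠ 1 := by
      by_contra h
      push Not at h
      have h2 := Q.dvd_card_of_dvd_card hG.two_dvd
      rw [(eq_bot_iff_forall _).2 h, card_bot] at h2
      omega
    obtain ⟨k, hk⟩ := IsPGroup.iff_orderOf.1 Q.2 ⟨x, hxQ⟩
    rw [Subgroup.orderOf_mk] at hk
    have hxK := htwo x ⟨k, hk⟩
    rw [hcore K inferInstance hKi hKM, mem_bot] at hxK
    exact hx1 hxK
  -- the operators on `K`
  obtain ⟨P₂, C, hCn, hcomp⟩ :=
    CfsgLib.FGSA.GT.npc_of_isNilpotent (p := 2) (G := M)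
  haveI := hCn
  set Co : Subgroup G := C.map M.subtype
  have hCodd : Odd (Nat.card Co) := by
    rw [← Nat.card_congr (C.equivMapOfInjective _ M.subtype_injective).toEquiv,
      ← hcomp.index_eq_card, Nat.odd_iff, ← Nat.two_dvd_ne_zero]
    exact P₂.not_dvd_index
  have hCo : ∀ x ∈ M, Odd (orderOf x) → x ∈ Co := by
    intro x hx ho
    refine ⟨⟨x, hx⟩, ?_, rfl⟩
    show (⟨x, hx⟩ : M) ∈ C
    rw [← QuotientGroup.eq_one_iff, ← orderOf_eq_one_iff]
    obtain ⟨j, hj⟩ := IsPGroup.iff_card.1 P₂.2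
    refine Nat.eq_one_of_dvd_coprimes (k := orderOf ((⟨x, hx⟩ : M) : M ⧸ C)) (a := orderOf x)
      (b := 2 ^ j) (Nat.Coprime.pow_right j (Nat.coprime_two_right.2 ho)) ?_ ?_
    · exact (orderOf_map_dvd (QuotientGroup.mk' C) _).trans (Subgroup.orderOf_mk x hx).dvd
    · exact hj ▸ hcomp.symm.index_eq_card ▸ C.index_eq_card ▸ orderOf_dvd_natCard _
  have hCoM : Co ≤ M := map_subtype_le _
  let ψ : A →* MulAut K :=
    { toFun := fun a => ((φ a).subgroupMap K).trans (MulEquiv.subgroupCongr (hKi.map_eq a))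
      map_one' := MulEquiv.ext fun k => Subtype.ext (by
        show φ 1 (k : G) = k
        simp)
      map_mul' := fun a b => MulEquiv.ext fun k => Subtype.ext (by
        show φ (a * b) (k : G) = φ a (φ b k)
        simp) }
  have hψ : ∀ (a : A) (k : K), ((ψ a k : K) : G) = φ a k := fun a k => rfl
  set B₁ : Subgroup (MulAut K) := ((MulAut.conjNormal (H := K)).comp Co.subtype).range
  set B₂ : Subgroup (MulAut K) := ψ.range
  set B : Subgroup (MulAut K) := B₂ ⊔ B₁
  have hnorm : B₂ ≤ normalizer (B₁ : Set (MulAut K)) := by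
    rintro _ ⟨a, rfl⟩
    refine mem_normalizer_of_conj_le ?_
    rintro _ ⟨⟨c, hc⟩, rfl⟩
    have hc' : φ a c ∈ Co := hCo _ (hMi a c (hCoM hc)) (by
      rw [MulEquiv.orderOf_eq]
      exact hCodd.of_dvd_nat (Subgroup.orderOf_dvd_natCard Co hc))
    refine ⟨⟨φ a c, hc'⟩, MulEquiv.ext fun k => Subtype.ext ?_⟩
    simp only [MonoidHom.coe_comp, Function.comp_apply, Subgroup.coe_subtype,
      MulAut.conjNormal_apply, MulAut.mul_apply, ← map_inv, hψ]
    simp
  have hB1 : Nat.card B₁ ∣ Nat.card Co := Subgroup.card_range_dvd _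
  have hB2 : Nat.card B₂ ∣ Nat.card A := Subgroup.card_range_dvd _
  have hBd : Nat.card B ∣ Nat.card A * Nat.card Co :=
    (CfsgLib.Solvable.card_sup_dvd hnorm).trans (mul_dvd_mul hB2 hB1)
  have hBodd : Odd (Nat.card B) := (hAodd.mul hCodd).of_dvd_nat hBd
  have hBcop : (Nat.card B).Coprime (Nat.card K) := by
    refine Nat.Coprime.coprime_dvd_left hBd (Nat.Coprime.mul_left
      (hcop.coprime_dvd_right K.card_subgroup_dvd_card) (Nat.coprime_of_dvd fun p hp h1 h2 => ?_))
    exact hKp p hp (fun e => Nat.not_even_iff_odd.2 hCodd (even_iff_two_dvd.2 (e ▸ h1)))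
      (h1.trans (card_dvd_of_le hCoM)) h2
  set S : Subgroup K := M.subgroupOf K with hS
  have hSord : ∀ k : K, k ∈ S → ∃ i, orderOf k = 2 ^ i := fun k hk => by
    refine ⟨(orderOf k).primeFactorsList.length,
      Nat.eq_prime_pow_of_unique_prime_dvd (orderOf_pos k).ne' fun {d} hd hdd => ?_⟩
    by_contra hd2
    refine hKp d hd hd2 ?_ (hdd.trans (orderOf_dvd_natCard k))
    rw [← Subgroup.orderOf_coe] at hdd
    exact hdd.trans (Subgroup.orderOf_dvd_natCard M hk)
  have hSp : IsPGroup 2 S := IsPGroup.iff_orderOf.2 fun k => by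
    obtain ⟨i, hi⟩ := hSord k k.2
    exact ⟨i, by rw [← hi, Subgroup.orderOf_coe]⟩
  have hcl : ∀ x ∈ S, ∀ y ∈ S, ∀ z ∈ S, Commute (x * y * x⁻¹ * y⁻¹) z := fun x hx y hy z hz => by
    obtain ⟨i, hi⟩ := hSord x hx
    obtain ⟨j, hj⟩ := hSord y hy
    obtain ⟨k, hk⟩ := hSord z hz
    exact Subtype.ext (h2 _ hx _ hy _ hz ⟨i, (Subgroup.orderOf_coe _).trans hi⟩
      ⟨j, (Subgroup.orderOf_coe _).trans hj⟩ ⟨k, (Subgroup.orderOf_coe _).trans hk⟩).eq
  -- `M` is generated by `Co` and its elements of 2-power order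
  have hMgen : ∀ H : Subgroup G, Co ≤ H → (∀ x ∈ M, (∃ i, orderOf x = 2 ^ i) → x ∈ H) → M ≤ H := by
    intro H h1 h2' m hm
    have : (⟨m, hm⟩ : M) ∈ (C ⊔ (P₂ : Subgroup M)) := hcomp.sup_eq_top ▸ mem_top _
    refine (sup_le (fun x hx => h1 ⟨x, hx, rfl⟩) (fun x hx => ?_) :
      C ⊔ (P₂ : Subgroup M) ≤ H.comap M.subtype) this
    obtain ⟨i, hi⟩ := IsPGroup.iff_orderOf.1 P₂.2 ⟨x, hx⟩
    rw [Subgroup.orderOf_mk] at hi
    exact h2' x x.2 ⟨i, (Subgroup.orderOf_coe _).trans hi⟩
  have hSB : Stable B S := by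
    have hle : B ≤ {
        carrier := {b : MulAut K | ∀ x : K, b x ∈ S ↔ x ∈ S}
        one_mem' := fun x => Iff.rfl
        mul_mem' := fun {b c} hb hc x => (hb (c x)).trans (hc x)
        inv_mem' := fun {b} hb x => by
          rw [← hb (b⁻¹ x), MulAut.apply_inv_self] : Subgroup (MulAut K)} := by
      refine sup_le ?_ ?_
      · rintro _ ⟨a, rfl⟩ x
        refine ⟨fun h => ?_, fun h => hMi a _ h⟩
        have := hMi a⁻¹ _ h
        simpa [hψ, hS, mem_subgroupOf] using this
      · rintro _ ⟨⟨c, hc⟩, rfl⟩ x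
        simp only [MonoidHom.coe_comp, Function.comp_apply, Subgroup.coe_subtype, hS,
          mem_subgroupOf, MulAut.conjNormal_apply]
        exact ⟨fun h => by
          simpa [mul_assoc] using mul_mem (mul_mem (inv_mem (hCoM hc)) h) (hCoM hc),
          fun h => mul_mem (mul_mem (hCoM hc) h) (inv_mem (hCoM hc))⟩
    exact fun b hb x hx => (hle hb x).2 hx
  -- invariant subgroups of `K` give invariant subgroups of `G`
  have hlift : ∀ H : Subgroup K, Stable B H → (∀ x ∈ M, ∀ hx : x ∈ K, ∀ h ∈ H,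
      (⟨x, hx⟩ : K) * h * (⟨x, hx⟩ : K)⁻¹ ∈ H) →
      Inv φ (H.map K.subtype) ∧ M ≤ normalizer ((H.map K.subtype : Subgroup G) : Set G) := by
    intro H hH hH2
    refine ⟨?_, hMgen _ (fun c hc => mem_normalizer_of_conj_le ?_) fun x hx hxo =>
      mem_normalizer_of_conj_le ?_⟩
    · rintro a _ ⟨h, hh, rfl⟩
      exact ⟨ψ a h, hH _ (mem_sup_left ⟨a, rfl⟩) h hh, hψ a h⟩
    · rintro _ ⟨h, hh, rfl⟩
      exact ⟨_, hH _ (mem_sup_right ⟨⟨c, hc⟩, rfl⟩) h hh, MulAut.conjNormal_apply _ _⟩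
    · rintro _ ⟨h, hh, rfl⟩
      exact ⟨_, hH2 x hx (htwo x hxo) h hh, rfl⟩
  have hmax : ∀ H : Subgroup K, S ≤ H → Stable B H → H = S ∨ H = ⊤ := by
    intro H hSH hH
    obtain ⟨hHi, hMH⟩ := hlift H hH fun x hx hxK h hh =>
      mul_mem (mul_mem (hSH (show (⟨x, hxK⟩ : K) ∈ S from hx)) hh) (inv_mem (hSH hx))
    by_cases ht : M ⊔ H.map K.subtype = ⊤
    · refine Or.inr (eq_top_iff.2 fun k _ => ?_)
      have hk : (k : G) ∈ M ⊔ H.map K.subtype := ht ▸ mem_top _
      obtain ⟨m, hm, _, ⟨h, hh, rfl⟩, e⟩ : ∃ m ∈ M, ∃ h ∈ H.map K.subtype, m * h = (k : G) := by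
        rw [← SetLike.mem_coe, coe_mul_of_left_le_normalizer_right _ _ hMH] at hk
        exact hk
      have hmK : m ∈ K := by
        rw [show m = (k : G) * ((h : G))⁻¹ by rw [← e]; simp]
        exact mul_mem k.2 (inv_mem h.2)
      rw [show k = ⟨m, hmK⟩ * h from Subtype.ext e.symm]
      exact mul_mem (hSH hm) hh
    · refine Or.inl (le_antisymm (fun h hh => ?_) hSH)
      have h1 := hMmax _ le_sup_left ht fun a g hg => by
        have : (M ⊔ H.map K.subtype).map (φ a).toMonoidHom = M ⊔ H.map K.subtype := by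
          rw [Subgroup.map_sup, hMi.map_eq a, hHi.map_eq a]
        exact this ▸ mem_map_of_mem (φ a).toMonoidHom hg
      exact h1.le (mem_sup_right ⟨h, hh, rfl⟩)
  have hcoreK : ∀ N : Subgroup K, N.Normal → Stable B N → N ≤ S → N = ⊥ := by
    intro N hNn hN hNS
    obtain ⟨hNi, hMN'⟩ := hlift N hN fun x _ hxK h hh => hNn.conj_mem h hh ⟨x, hxK⟩
    have hKN : K ≤ normalizer ((N.map K.subtype : Subgroup G) : Set G) := fun k hk =>
      mem_normalizer_of_conj_le (by
        rintro _ ⟨h, hh, rfl⟩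
        exact ⟨_, hNn.conj_mem h hh ⟨k, hk⟩, rfl⟩)
    have h1 := hcore _ (normalizer_eq_top_iff.1 (top_le_iff.1 (htop ▸ sup_le hMN' hKN))) hNi
      (by rintro _ ⟨h, hh, rfl⟩; exact hNS hh)
    exact (map_eq_bot_iff_of_injective N K.subtype_injective).1 h1
  haveI := isSolvable_two hu hBodd hBcop hSB hSp hcl hmax hcoreK
  haveI : Group.IsSolvable (G ⧸ K) := by
    haveI : Group.IsSolvable M := inferInstance
    refine Group.isSolvable_of_surjective (f := (QuotientGroup.mk' K).comp M.subtype) fun x => ?_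
    obtain ⟨g, rfl⟩ := QuotientGroup.mk_surjective x
    obtain ⟨m, hm, k, hk, rfl⟩ := mem_sup_of_normal_right.1 (htop ▸ mem_top g : g ∈ M ⊔ K)
    refine ⟨⟨m, hm⟩, ?_⟩
    show (m : G ⧸ K) = ((m * k : G) : G ⧸ K)
    rw [QuotientGroup.mk_mul, (QuotientGroup.eq_one_iff k).2 hk, mul_one]
  exact Group.isSolvable_of_ker_le_range K.subtype (QuotientGroup.mk' K)
    (by rw [QuotientGroup.ker_mk', K.range_subtype])

/-- S4038 relative to the solvability of groups of odd order. -/
theorem nilMax_coprime (hu : FTRows.OddSolvable.{u}) (hv : FTRows.OddSolvable.{v})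
    {G : Type u} {A : Type v} [Group G] [Finite G] [Group A] [Finite A] (φ : A →* MulAut G)
    (hcop : (Nat.card A).Coprime (Nat.card G))
    (M : Subgroup G) (hMtop : M ≠ ⊤) (hMinv : ∀ a : A, ∀ m : G, m ∈ M → φ a m ∈ M)
    (hMmax : ∀ H : Subgroup G, M ≤ H → H ≠ ⊤ → (∀ a : A, ∀ h : G, h ∈ H → φ a h ∈ H) → H = M)
    (hnil : Group.IsNilpotent M)
    (h2 : ∀ S : Sylow 2 ↥M, Group.nilpotencyClass ↥(S : Subgroup ↥M) ≤ 2) :
    Group.IsSolvable G :=
  isSolvable_of_nilMax hu hv _ G φ rfl hcop M hMtop hMinv hMmax hnil (twoClass_of_sylow hnil h2)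

end CfsgLib.InvNilMax
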