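import Cfsg.Agent.FGSB.NilMaximal

/-!
A 2-group `S` of class at most two inside a larger 2-local subgroup: the configuration
`(U, W)` it produces, and the fact that such configurations permuted by a group of odd order
must commute (S4038).
-/

set_option autoImplicit false
set_option linter.style.haveILetI false

universe u

namespace CfsgLib.InvNilMax

open Subgroup

variable {K : Type u} [Group K] [Finite K]

/-- Two involutions with an element of a self-normalizing abelian subgroup between them. -/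
theorem involution_unique {T : Subgroup K}
    (hab : ∀ a ∈ T, ∀ b ∈ T, Commute a b)
    (hC : ∀ a ∈ T, a ≠ 1 → ∀ g : K, Commute g a → g ∈ T)
    (hN : ∀ g : K, (∀ a ∈ T, g * a * g⁻¹ ∈ T) → g ∈ T) (hT : T ≠ ⊤)
    {s : K} (hs : s ∈ T) (hs1 : s ≠ 1) (hs2 : s * s = 1) :
    (∀ t ∈ T, t ≠ 1 → t * t = 1 → t = s) ∧
      ∃ r : K, r ≠ 1 ∧ Odd (orderOf r) ∧ s * r * s⁻¹ = r⁻¹ := by
  classical
  obtain ⟨g, hg⟩ : ∃ g : K, g ∉ T := by
    by_contra h
    push Not at h
    exact hT (eq_top_iff.2 fun x _ => h x)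
  -- a subgroup element conjugated into `T` is conjugated by an element of `T`
  have hfus : ∀ (t : K) (h : K), t ∈ T → t ≠ 1 → h * t * h⁻¹ ∈ T → h ∈ T := by
    intro t h ht ht1 hht
    refine hN h fun a ha => ?_
    refine hC _ hht (fun e => ht1 ?_) _ ?_
    · have := congrArg (fun y => h⁻¹ * y * h) e
      simpa [mul_assoc] using this
    · exact (hab a ha t ht).map (MulAut.conj h).toMonoidHom
  have key : ∀ t ∈ T, t ≠ 1 → t * t = 1 →
      Odd (orderOf (s * (g * t * g⁻¹))) ∧ s * (g * t * g⁻¹) ≠ 1 ∧ t = s := by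
    intro t ht ht1 ht2
    set t' := g * t * g⁻¹ with ht'
    have ht'2 : t' * t' = 1 := by
      rw [ht', show g * t * g⁻¹ * (g * t * g⁻¹) = g * (t * t) * g⁻¹ by group, ht2]; group
    have hnc : ¬ Commute t' s := fun hc => hg (hfus t g ht ht1 (hC s hs hs1 _ hc))
    set d := s * t' with hd
    have hsd : s * d * s⁻¹ = d⁻¹ := by
      have e1 : s⁻¹ = s := inv_eq_of_mul_eq_one_right hs2
      have e2 : t'⁻¹ = t' := inv_eq_of_mul_eq_one_right ht'2
      rw [hd, mul_inv_rev, e2, e1, ← mul_assoc, hs2, one_mul]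
    have hd1 : d ≠ 1 := fun e => hnc (by
      have : t' = s := by
        have := congrArg (fun y => s * y) e
        simpa [hd, ← mul_assoc, hs2] using this
      rw [this])
    have hpow : ∀ k : ℕ, s * d ^ k * s⁻¹ = (d ^ k)⁻¹ := fun k => by
      rw [← conj_pow, hsd, inv_pow]
    have hodd : Odd (orderOf d) := by
      by_contra he
      rw [Nat.not_odd_iff_even] at he
      obtain ⟨k, hk⟩ := he
      set v := d ^ k with hv
      have hv1 : v ≠ 1 := pow_ne_one_of_lt_orderOf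
        (by have := orderOf_pos d; omega) (by have := orderOf_pos d; omega)
      have hv2 : v⁻¹ = v := inv_eq_of_mul_eq_one_right (by
        rw [hv, ← pow_add, ← hk, pow_orderOf_eq_one])
      have hvs : Commute v s := by
        have := hpow k
        rw [← hv, hv2] at this
        have h2 := congrArg (fun y => y * s) this
        simp [mul_assoc] at h2
        exact h2.symm
      have hvd : Commute v d := (Commute.refl d).pow_left k
      have hvt : Commute v t' := by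
        have : t' = s * d := by rw [hd, ← mul_assoc, hs2, one_mul]
        rw [this]; exact hvs.mul_right hvd
      have hvT := hC s hs hs1 v hvs
      exact hnc (hab _ (hC v hvT hv1 t' hvt.symm) s hs)
    refine ⟨hodd, hd1, ?_⟩
    obtain ⟨k, hk⟩ := hodd
    set h := d ^ k
    have hcs : h * s * h⁻¹ = t' := by
      have e := hpow k
      have e' : h * s * h⁻¹ = s * (h⁻¹ * h⁻¹) := by
        calc h * s * h⁻¹ = s * (s⁻¹ * h * s) * h⁻¹ := by group
          _ = s * (s * h * s⁻¹) * h⁻¹ := by rw [inv_eq_of_mul_eq_one_right hs2]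
          _ = s * (h⁻¹ * h⁻¹) := by rw [e, mul_assoc]
      rw [e', show t' = s * d by rw [hd, ← mul_assoc, hs2, one_mul]]
      congr 1
      rw [← mul_inv_rev, inv_eq_iff_mul_eq_one, ← pow_add, ← pow_succ, show k + k + 1 = orderOf d by
        omega, pow_orderOf_eq_one]
    have hts : t = (g⁻¹ * h) * s * (g⁻¹ * h)⁻¹ := by
      rw [show (g⁻¹ * h) * s * (g⁻¹ * h)⁻¹ = g⁻¹ * (h * s * h⁻¹) * g by group, hcs, ht']
      group
    have hmem := hfus s (g⁻¹ * h) hs hs1 (hts ▸ ht)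
    rw [hts, (hab _ hmem s hs).eq, mul_inv_cancel_right]
  refine ⟨fun t ht ht1 ht2 => (key t ht ht1 ht2).2.2, s * (g * s * g⁻¹), (key s hs hs1 hs2).2.1,
    (key s hs hs1 hs2).1, ?_⟩
  rw [mul_inv_rev, inv_eq_of_mul_eq_one_right hs2,
    inv_eq_of_mul_eq_one_right (show g * s * g⁻¹ * (g * s * g⁻¹) = 1 by
      rw [show g * s * g⁻¹ * (g * s * g⁻¹) = g * (s * s) * g⁻¹ by group, hs2]; group),
    ← mul_assoc, hs2, one_mul]

/-- The configuration produced by a subgroup `U` of index two in `S` that is normalized by an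
element of odd order inverted modulo `U` by an element of `S`. -/
structure Pkg (S U W : Subgroup K) : Prop where
  U_le : U ≤ S
  W_le : W ≤ U
  W_cent : ∀ w ∈ W, ∀ u ∈ U, Commute w u
  zle : ∀ z ∈ S, (∀ y ∈ S, Commute z y) → z ∈ U
  idx : ∀ x ∈ S, ∀ y ∈ S, x ∉ U → y ∉ U → x * y⁻¹ ∈ U
  nc : ∃ w ∈ W, ∃ x ∈ S, ¬ Commute w x
  sq : ∀ w ∈ W, w * w = 1
  norm : ∀ x ∈ S, ∀ w ∈ W, x * w * x⁻¹ ∈ W
  meet_sq : ∀ u ∈ U, u * u ∈ W → u * u = 1
  meet_comm : ∀ u ∈ U, ∀ v ∈ U, u * v * u⁻¹ * v⁻¹ ∈ W → u * v * u⁻¹ * v⁻¹ = 1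
  big : ∀ Y : Subgroup K, W ≤ Y → Y ≤ U → ¬ normalizer (Y : Set K) ≤ S

theorem Pkg.map {S U W : Subgroup K} (h : Pkg S U W) (b : K ≃* K) (hb : ∀ x, b x ∈ S ↔ x ∈ S) :
    Pkg S (U.map b.toMonoidHom) (W.map b.toMonoidHom) := by
  have hmU : ∀ x, x ∈ U.map b.toMonoidHom ↔ b.symm x ∈ U := fun x => mem_map_equiv
  have hmW : ∀ x, x ∈ W.map b.toMonoidHom ↔ b.symm x ∈ W := fun x => mem_map_equiv
  have hb' : ∀ x, b.symm x ∈ S ↔ x ∈ S := fun x => by
    rw [← hb (b.symm x), MulEquiv.apply_symm_apply]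
  refine
    { U_le := fun x hx => (hb' x).1 (h.U_le ((hmU x).1 hx))
      W_le := map_mono h.W_le
      W_cent := ?_
      zle := ?_
      idx := ?_
      nc := ?_
      sq := ?_
      norm := ?_
      meet_sq := ?_
      meet_comm := ?_
      big := ?_ }
  · intro w hw u hu
    have := (h.W_cent _ ((hmW w).1 hw) _ ((hmU u).1 hu)).map b.toMonoidHom
    simpa using this
  · intro z hz hzc
    refine (hmU z).2 (h.zle _ ((hb' z).2 hz) fun y hy => ?_)
    have := (hzc (b y) ((hb y).2 hy)).map b.symm.toMonoidHom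
    simpa using this
  · intro x hx y hy hxU hyU
    rw [hmU] at hxU hyU ⊢
    simpa using h.idx _ ((hb' x).2 hx) _ ((hb' y).2 hy) hxU hyU
  · obtain ⟨w, hw, x, hx, hc⟩ := h.nc
    exact ⟨b w, mem_map_of_mem b.toMonoidHom hw, b x, (hb x).2 hx, fun e => hc (by
      simpa using e.map b.symm.toMonoidHom)⟩
  · intro w hw
    exact b.symm.injective (by simpa using h.sq _ ((hmW w).1 hw))
  · intro x hx w hw
    rw [hmW] at hw ⊢
    simpa using h.norm _ ((hb' x).2 hx) _ hw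
  · intro u hu huW
    rw [hmU] at hu
    rw [hmW] at huW
    exact b.symm.injective (by simpa using h.meet_sq _ hu (by simpa using huW))
  · intro u hu v hv huW
    rw [hmU] at hu hv
    rw [hmW] at huW
    exact b.symm.injective (by simpa using h.meet_comm _ hu _ hv (by simpa using huW))
  · intro Y hWY hYU hle
    refine h.big (Y.map b.symm.toMonoidHom) (fun w hw => ?_) (fun y hy => ?_) fun n hn => ?_
    · exact ⟨b w, hWY (mem_map_of_mem b.toMonoidHom hw), by simp⟩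
    · obtain ⟨z, hz, rfl⟩ := hy
      simpa using (hmU z).1 (hYU hz)
    · rw [← hb n]
      refine hle (mem_normalizer_iff.2 fun z => ?_)
      have := mem_normalizer_iff.1 hn (b.symm z)
      have hY : ∀ x, x ∈ Y.map b.symm.toMonoidHom ↔ b x ∈ Y := fun x => mem_map_equiv
      rw [hY, hY] at this
      simpa using this

/-- Two configurations are linked when their central parts do not commute. -/
def Adj (W W' : Subgroup K) : Prop := ∃ w ∈ W, ∃ v ∈ W', ¬ Commute w v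

theorem Adj.symm {W W' : Subgroup K} (h : Adj W W') : Adj W' W :=
  let ⟨w, hw, v, hv, hc⟩ := h
  ⟨v, hv, w, hw, fun e => hc e.symm⟩

theorem Pkg.not_adj_self {S U W : Subgroup K} (h : Pkg S U W) : ¬ Adj W W :=
  fun ⟨w, hw, v, hv, hc⟩ => hc (h.W_cent w hw v (h.W_le hv))

theorem Pkg.exists_not_mem {S W U' W' : Subgroup K} (h' : Pkg S U' W') (ha : Adj W W') :
    ∃ w ∈ W, w ∉ U' := by
  by_contra hcon
  push Not at hcon
  obtain ⟨w, hw, v, hv, hc⟩ := ha
  exact hc (h'.W_cent v hv w (hcon w hw)).symm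

theorem Pkg.not_commute {S U W : Subgroup K} (h : Pkg S U W) {w v : K} (hw : w ∈ W)
    (hwZ : ∃ x ∈ S, ¬ Commute w x) (hv : v ∈ S) (hvU : v ∉ U) : ¬ Commute w v := by
  intro hc
  obtain ⟨x, hx, hxc⟩ := hwZ
  by_cases hxU : x ∈ U
  · exact hxc (h.W_cent w hw x hxU)
  · have h1 : Commute w (x * v⁻¹) := h.W_cent w hw _ (h.idx x hx v hv hxU hvU)
    exact hxc (by simpa using h1.mul_right hc)

theorem Pkg.adj_of_not_le {S U W U' W' : Subgroup K} (h : Pkg S U W) (h' : Pkg S U' W') {v : K}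
    (hv : v ∈ W') (hvU : v ∉ U) : Adj W W' := by
  obtain ⟨w, hw, hx⟩ := h.nc
  exact ⟨w, hw, v, hv, h.not_commute hw hx (h'.U_le (h'.W_le hv)) hvU⟩

/-- A walk of three links gives a link. -/
theorem adj_trans {S Ux Wx Uy Wy Uu Wu Uv Wv : Subgroup K} (hx : Pkg S Ux Wx) (hy : Pkg S Uy Wy)
    (hu : Pkg S Uu Wu) (hv : Pkg S Uv Wv) (hxy : Adj Wx Wy) (hyu : Adj Wy Wu) (huv : Adj Wu Wv) :
    Adj Wx Wv := by
  obtain ⟨w, hw, hwU⟩ := hu.exists_not_mem hyu
  obtain ⟨v, hv', hvU⟩ := hy.exists_not_mem hyu.symm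
  have hwS : w ∈ S := hy.U_le (hy.W_le hw)
  have hvS : v ∈ S := hu.U_le (hu.W_le hv')
  have hwv : ¬ Commute w v := by
    refine hy.not_commute hw ?_ hvS hvU
    by_contra hcon
    push Not at hcon
    exact hwU (hu.zle w hwS hcon)
  have hwUy : w ∈ Uy := hy.W_le hw
  have hvUu : v ∈ Uu := hu.W_le hv'
  set z := w * v * w⁻¹ * v⁻¹ with hzdef
  have hz1 : z ≠ 1 := fun e => hwv (by
    have : w * v = v * w := by
      have := congrArg (fun y => y * v * w) e
      simpa [hzdef, mul_assoc] using this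
    exact this)
  have hzy : z ∈ Wy := by
    have : z = w * (v * w⁻¹ * v⁻¹) := by rw [hzdef]; group
    rw [this]
    exact mul_mem hw (hy.norm v hvS _ (inv_mem hw))
  have hzu : z ∈ Wu := mul_mem (hu.norm w hwS v hv') (inv_mem hv')
  obtain ⟨x₀, hx₀, hx₀U⟩ := hy.exists_not_mem hxy
  obtain ⟨y₀, hy₀, hy₀U⟩ := hu.exists_not_mem huv.symm
  have hx₀S := hx.U_le (hx.W_le hx₀)
  have hy₀S := hv.U_le (hv.W_le hy₀)
  have hwi : w⁻¹ = w := inv_eq_of_mul_eq_one_right (hy.sq w hw)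
  have hvi : v⁻¹ = v := inv_eq_of_mul_eq_one_right (hu.sq v hv')
  have hTw : ∀ t ∈ Uy, Commute t w := fun t ht => (hy.W_cent w hw t ht).symm
  have hTv : ∀ t ∈ Uu, Commute t v := fun t ht => (hu.W_cent v hv' t ht).symm
  -- an element outside both subgroups cannot be an involution
  have hout : ∀ x ∈ S, x ∉ Uy → x ∉ Uu → x * x ≠ 1 := by
    intro x hxS h1 h2 hxx
    set t := x * (w * v)⁻¹ with ht
    have hwvy : w * v ∉ Uy := fun e => hvU (by simpa using mul_mem (inv_mem hwUy) e)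
    have hwvu : w * v ∉ Uu := fun e => hwU (by simpa using mul_mem e (inv_mem hvUu))
    have hty : t ∈ Uy := hy.idx x hxS _ (mul_mem hwS hvS) h1 hwvy
    have htu : t ∈ Uu := hu.idx x hxS _ (mul_mem hwS hvS) h2 hwvu
    have hxe : x = t * (w * v) := by rw [ht, inv_mul_cancel_right]
    have hc : Commute t (w * v) := (hTw t hty).mul_right (hTv t htu)
    have e : t * t * z = 1 := by
      rw [← hxx, hxe, hzdef, hwi, hvi]
      calc t * t * (w * v * w * v) = t * (t * (w * v)) * (w * v) := by group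
        _ = t * ((w * v) * t) * (w * v) := by rw [hc.eq]
        _ = t * (w * v) * (t * (w * v)) := by group
    have htt : t * t = z⁻¹ := eq_inv_of_mul_eq_one_left e
    have h0 := hy.meet_sq t hty (htt ▸ inv_mem hzy)
    rw [htt, inv_eq_one] at h0
    exact hz1 h0
  have hx₀u : x₀ ∈ Uu := by_contra fun h => hout x₀ hx₀S hx₀U h (hx.sq x₀ hx₀)
  have hy₀y : y₀ ∈ Uy := by_contra fun h => hout y₀ hy₀S h hy₀U (hv.sq y₀ hy₀)
  refine ⟨x₀, hx₀, y₀, hy₀, fun hc => ?_⟩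
  set t := x₀ * v⁻¹ with ht
  set t' := y₀ * w⁻¹ with ht'
  have hty : t ∈ Uy := hy.idx x₀ hx₀S v hvS hx₀U hvU
  have htu : t ∈ Uu := mul_mem hx₀u (inv_mem hvUu)
  have ht'y : t' ∈ Uy := mul_mem hy₀y (inv_mem hwUy)
  have ht'u : t' ∈ Uu := hu.idx y₀ hy₀S w hwS hy₀U hwU
  have e1 : x₀ = t * v := by rw [ht, inv_mul_cancel_right]
  have e2 : y₀ = t' * w := by rw [ht', inv_mul_cancel_right]
  have hkey : t * t' * (v * w) = t' * t * (w * v) := by
    have := hc.eq
    rw [e1, e2] at this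
    calc t * t' * (v * w) = t * (t' * v) * w := by group
      _ = t * (v * t') * w := by rw [(hTv t' ht'u).eq]
      _ = t * v * (t' * w) := by group
      _ = t' * w * (t * v) := this
      _ = t' * (w * t) * v := by group
      _ = t' * (t * w) * v := by rw [(hTw t hty).eq]
      _ = t' * t * (w * v) := by group
  have hm : t * t' * t⁻¹ * t'⁻¹ = t' * t * z * t⁻¹ * t'⁻¹ := by
    calc t * t' * t⁻¹ * t'⁻¹ = t * t' * (v * w) * (v * w)⁻¹ * t⁻¹ * t'⁻¹ := by group
      _ = t' * t * (w * v) * (v * w)⁻¹ * t⁻¹ * t'⁻¹ := by rw [hkey]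
      _ = t' * t * z * t⁻¹ * t'⁻¹ := by rw [hzdef]; group
  have hzt : t' * t * z * t⁻¹ * t'⁻¹ = z := by
    have hcz : Commute (t' * t) z := (hy.W_cent z hzy _ (mul_mem ht'y hty)).symm
    rw [hcz.eq]; group
  rw [hzt] at hm
  have h0 := hy.meet_comm t hty t' ht'y (hm ▸ hzy)
  rw [hm] at h0
  exact hz1 h0

/-- The configuration from an element `r` of odd order normalizing `U`. -/
theorem conf {S U : Subgroup K} (hSp : IsPGroup 2 S) (hUS : U ≤ S)
    (hcl : ∀ x ∈ S, ∀ y ∈ S, ∀ z ∈ S, Commute (x * y * x⁻¹ * y⁻¹) z)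
    (hSU : ∀ x ∈ S, ∀ u ∈ U, x * u * x⁻¹ ∈ U)
    (hZU : ∀ z ∈ S, (∀ y ∈ S, Commute z y) → z ∈ U)
    (hCZ : ∀ g : K, (∀ z ∈ S, (∀ y ∈ S, Commute z y) → Commute g z) → g ∈ S)
    {r s : K} (hrU : r ∈ normalizer (U : Set K)) (hr : Odd (orderOf r)) (hrS : r ∉ S)
    (hs : s ∈ S) (hs2 : s * s ∈ U) (hinv : s * r * s⁻¹ * r ∈ U) :
    (∀ x ∈ S, x * x * s⁻¹ ∉ U) ∧ ((∀ x ∈ S, x ∉ U → x * s⁻¹ ∈ U) → ∃ W, Pkg S U W) := by
  classical
  set D := U ⊓ centralizer (U : Set K) with hD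
  have hDU : D ≤ U := inf_le_left
  have hDc : ∀ d ∈ D, ∀ u ∈ U, Commute d u := fun d hd u hu =>
    (mem_centralizer_iff.1 hd.2 u hu).symm
  have hcD : ∀ x ∈ S, ∀ y ∈ S, x * y * x⁻¹ * y⁻¹ ∈ D := fun x hx y hy =>
    ⟨hZU _ (mul_mem (mul_mem (mul_mem hx hy) (inv_mem hx)) (inv_mem hy)) (hcl x hx y hy),
      mem_centralizer_iff.2 fun u hu => (hcl x hx y hy u (hUS hu)).eq.symm⟩
  have hrU' : ∀ v ∈ U, r * v * r⁻¹ ∈ U := fun v hv => (mem_normalizer_iff.1 hrU v).1 hv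
  have hrU'' : ∀ v ∈ U, r⁻¹ * v * r ∈ U := fun v hv => (mem_normalizer_iff''.1 hrU v).1 hv
  have hrD : ∀ v ∈ D, r * v * r⁻¹ ∈ D := fun v hv => ⟨hrU' v hv.1, mem_centralizer_iff.2 fun u hu => by
    have := ((hDc v hv _ (hrU'' u hu)).map (MulAut.conj r).toMonoidHom).eq
    simpa [mul_assoc] using this.symm⟩
  have hrD' : ∀ v ∈ D, r⁻¹ * v * r ∈ D := fun v hv => ⟨hrU'' v hv.1, mem_centralizer_iff.2 fun u hu => by
    have := ((hDc v hv _ (hrU' u hu)).map (MulAut.conj r⁻¹).toMonoidHom).eq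
    simpa [mul_assoc] using this.symm⟩
  set u₀ := s * r * s⁻¹ * r with hu₀
  have hsr : s * r * s⁻¹ = u₀ * r⁻¹ := by rw [hu₀]; group
  -- `r` centralizes `U / D`
  have h2 : ∀ v ∈ U, r * (r * v * r⁻¹) * r⁻¹ * v⁻¹ ∈ D := by
    intro v hv
    set a := r * v * r⁻¹
    set b := r⁻¹ * v * r
    have ha : a ∈ U := hrU' v hv
    have hb : b ∈ U := hrU'' v hv
    have e1 : s * a * s⁻¹ = u₀ * (r⁻¹ * (s * v * s⁻¹) * r) * u₀⁻¹ := by
      calc s * a * s⁻¹ = (s * r * s⁻¹) * (s * v * s⁻¹) * (s * r * s⁻¹)⁻¹ := by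
            simp only [a]; group
        _ = u₀ * r⁻¹ * (s * v * s⁻¹) * (u₀ * r⁻¹)⁻¹ := by rw [hsr]
        _ = u₀ * (r⁻¹ * (s * v * s⁻¹) * r) * u₀⁻¹ := by group
    set c := s * v * s⁻¹ * v⁻¹
    have hc : c ∈ D := hcD s hs v (hUS hv)
    have hd := hrD' c hc
    have e2 : u₀ * (r⁻¹ * (s * v * s⁻¹) * r) * u₀⁻¹ =
        (r⁻¹ * c * r) * (u₀ * b * u₀⁻¹ * b⁻¹) * b := by
      calc u₀ * (r⁻¹ * (s * v * s⁻¹) * r) * u₀⁻¹
          = u₀ * (r⁻¹ * c * r) * b * u₀⁻¹ := by simp only [c, b]; group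
        _ = (r⁻¹ * c * r) * u₀ * b * u₀⁻¹ := by rw [← (hDc _ hd u₀ hinv).eq]
        _ = (r⁻¹ * c * r) * (u₀ * b * u₀⁻¹ * b⁻¹) * b := by group
    have hab : a * b⁻¹ ∈ D := by
      have e3 : a * b⁻¹ =
          (s * a * s⁻¹ * a⁻¹)⁻¹ * ((r⁻¹ * c * r) * (u₀ * b * u₀⁻¹ * b⁻¹)) := by
        calc a * b⁻¹ = (s * a * s⁻¹ * a⁻¹)⁻¹ * ((s * a * s⁻¹) * b⁻¹) := by group
          _ = _ := by rw [e1, e2]; group
      rw [e3]
      exact mul_mem (inv_mem (hcD s hs a (hUS ha)))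
        (mul_mem hd (hcD u₀ (hUS hinv) b (hUS hb)))
    have := hrD _ hab
    simpa [a, b, mul_assoc] using this
  obtain ⟨m, hm⟩ := hr
  have hrpow : r ^ (2 * (m + 1)) = r := by
    rw [show 2 * (m + 1) = orderOf r + 1 by omega, pow_succ, pow_orderOf_eq_one, one_mul]
  have h1 : ∀ v ∈ U, r * v * r⁻¹ * v⁻¹ ∈ D := by
    intro v hv
    have hk : ∀ k : ℕ, r ^ (2 * k) * v * (r ^ (2 * k))⁻¹ ∈ U ∧
        r ^ (2 * k) * v * (r ^ (2 * k))⁻¹ * v⁻¹ ∈ D := by
      intro k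
      induction k with
      | zero => exact ⟨by simpa using hv, by simp⟩
      | succ k ih =>
        obtain ⟨ihU, ihD⟩ := ih
        set y := r ^ (2 * k) * v * (r ^ (2 * k))⁻¹
        have e : r ^ (2 * (k + 1)) * v * (r ^ (2 * (k + 1)))⁻¹ = r * (r * y * r⁻¹) * r⁻¹ := by
          rw [show 2 * (k + 1) = 2 + 2 * k by ring, pow_add, sq]; simp only [y]; group
        rw [e]
        refine ⟨hrU' _ (hrU' _ ihU), ?_⟩
        have := mul_mem (h2 y ihU) ihD
        simpa [mul_assoc] using this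
    have := (hk (m + 1)).2
    rwa [hrpow] at this
  -- the image of `v ↦ [r, v]` on `D`
  set δ : K → K := fun v => r * v * r⁻¹ * v⁻¹ with hδ
  have hδD : ∀ v ∈ D, δ v ∈ D := fun v hv => mul_mem (hrD v hv) (inv_mem hv)
  have hδmul : ∀ a ∈ D, ∀ b ∈ D, δ (a * b) = δ a * δ b := by
    intro a ha b hb
    show r * (a * b) * r⁻¹ * (a * b)⁻¹ = r * a * r⁻¹ * a⁻¹ * (r * b * r⁻¹ * b⁻¹)
    calc r * (a * b) * r⁻¹ * (a * b)⁻¹ = r * a * r⁻¹ * ((r * b * r⁻¹ * b⁻¹) * a⁻¹) := by group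
      _ = r * a * r⁻¹ * (a⁻¹ * (r * b * r⁻¹ * b⁻¹)) := by
        rw [(hDc _ (hδD b hb) _ (hDU (inv_mem ha))).eq]
      _ = _ := by group
  let W : Subgroup K :=
    { carrier := {w | ∃ v ∈ D, δ v = w}
      one_mem' := ⟨1, one_mem D, by simp [hδ]⟩
      mul_mem' := by
        rintro _ _ ⟨a, ha, rfl⟩ ⟨b, hb, rfl⟩
        exact ⟨a * b, mul_mem ha hb, hδmul a ha b hb⟩
      inv_mem' := by
        rintro _ ⟨a, ha, rfl⟩
        refine ⟨a⁻¹, inv_mem ha, eq_inv_of_mul_eq_one_left ?_⟩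
        rw [← hδmul _ (inv_mem ha) _ ha, inv_mul_cancel]
        simp [hδ] }
  have hWD : W ≤ D := by rintro _ ⟨v, hv, rfl⟩; exact hδD v hv
  have hrW : ∀ w ∈ W, r * w * r⁻¹ ∈ W := by
    rintro _ ⟨v, hv, rfl⟩
    exact ⟨r * v * r⁻¹, hrD v hv, by simp [hδ, mul_assoc]⟩
  have hiter : ∀ (u w c : K), r * u * r⁻¹ = w * c * u → w ∈ W → c ∈ D → r * c * r⁻¹ = c →
      ∀ i : ℕ, ∃ w' ∈ W, r ^ i * u * (r ^ i)⁻¹ = w' * c ^ i * u := by
    intro u w c hu hw hc hcr i
    induction i with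
    | zero => exact ⟨1, one_mem W, by simp⟩
    | succ i ih =>
      obtain ⟨w', hw', he⟩ := ih
      refine ⟨r * w' * r⁻¹ * w, mul_mem (hrW w' hw') hw, ?_⟩
      have hci : r * c ^ i * r⁻¹ = c ^ i := by rw [← conj_pow, hcr]
      calc r ^ (i + 1) * u * (r ^ (i + 1))⁻¹ = r * (r ^ i * u * (r ^ i)⁻¹) * r⁻¹ := by
            rw [pow_succ']; group
        _ = (r * w' * r⁻¹) * (r * c ^ i * r⁻¹) * (r * u * r⁻¹) := by rw [he]; group
        _ = (r * w' * r⁻¹) * (c ^ i * w) * c * u := by rw [hci, hu]; group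
        _ = (r * w' * r⁻¹) * (w * c ^ i) * c * u := by
            rw [((hDc w (hWD hw) _ (hDU hc)).pow_right i).eq]
        _ = r * w' * r⁻¹ * w * c ^ (i + 1) * u := by rw [pow_succ]; group
  have hodd_one : ∀ y ∈ S, y ^ orderOf r = 1 → y = 1 := by
    intro y hy hyn
    obtain ⟨k, hk⟩ := IsPGroup.iff_orderOf.1 hSp ⟨y, hy⟩
    rw [Subgroup.orderOf_mk] at hk
    refine orderOf_eq_one_iff.1 (Nat.eq_one_of_dvd_coprimes ?_ (dvd_of_eq hk)
      (orderOf_dvd_of_pow_eq_one hyn))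
    exact Nat.Coprime.pow_left k (Nat.coprime_two_left.2 ⟨m, hm⟩)
  have hfix : ∀ w ∈ W, r * w * r⁻¹ = w → w = 1 := by
    rintro _ ⟨v, hv, rfl⟩ hw
    obtain ⟨w', hw', he⟩ := hiter v 1 (δ v) (by simp [hδ]) (one_mem W) (hδD v hv) hw (orderOf r)
    have hii : ∀ i : ℕ, r ^ i * v * (r ^ i)⁻¹ = δ v ^ i * v := by
      intro i
      induction i with
      | zero => simp
      | succ i ih =>
        calc r ^ (i + 1) * v * (r ^ (i + 1))⁻¹ = r * (r ^ i * v * (r ^ i)⁻¹) * r⁻¹ := by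
              rw [pow_succ']; group
          _ = (r * δ v ^ i * r⁻¹) * (r * v * r⁻¹) := by rw [ih]; group
          _ = δ v ^ i * (δ v * v) := by rw [← conj_pow, hw]; simp [hδ]
          _ = δ v ^ (i + 1) * v := by rw [pow_succ]; group
    have h := hii (orderOf r)
    rw [pow_orderOf_eq_one, one_mul, inv_one, mul_one] at h
    exact hodd_one _ (hUS (hDU (hδD v hv))) (by simpa using h.symm)
  -- `δ` permutes `W`
  have hinj : Function.Injective (fun w : W => (⟨δ w, ⟨w, hWD w.2, rfl⟩⟩ : W)) := by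
    intro a b hab
    have e : δ (a : K) = δ (b : K) := congrArg Subtype.val hab
    have h0 : δ ((a : K) * (b : K)⁻¹) = 1 := by
      rw [hδmul _ (hWD a.2) _ (inv_mem (hWD b.2)), e,
        ← hδmul _ (hWD b.2) _ (inv_mem (hWD b.2)), mul_inv_cancel]
      simp [hδ]
    have h0' := hfix _ (mul_mem a.2 (inv_mem b.2)) (mul_inv_eq_one.1 h0)
    exact Subtype.ext (mul_inv_eq_one.1 h0')
  have hcomU : ∀ u ∈ U, δ u ∈ W := by
    intro u hu
    have hz : δ u ∈ D := h1 u hu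
    obtain ⟨w, hw⟩ := (Finite.injective_iff_surjective.1 hinj) ⟨δ (δ u), δ u, hz, rfl⟩
    have hw' : δ (w : K) = δ (δ u) := congrArg Subtype.val hw
    set c := (w : K)⁻¹ * δ u
    have hcD' : c ∈ D := mul_mem (inv_mem (hWD w.2)) hz
    have hcr : r * c * r⁻¹ = c := by
      have h0 : δ c = 1 := by
        have := hδmul _ (hWD w.2) _ hcD'
        rw [show (w : K) * c = δ u by simp [c]] at this
        rw [hw'] at this
        exact left_eq_mul.1 this
      exact mul_inv_eq_one.1 h0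
    obtain ⟨w', hw'', he⟩ := hiter u (w : K) c (by simp [c, hδ]) w.2 hcD' hcr (orderOf r)
    rw [pow_orderOf_eq_one, one_mul, inv_one, mul_one] at he
    have hcW : c ^ orderOf r ∈ W := by
      have : c ^ orderOf r = w'⁻¹ := by
        have := mul_right_cancel (b := u) (a := 1) (by simpa using he)
        exact eq_inv_of_mul_eq_one_right this.symm
      rw [this]; exact inv_mem hw''
    have := hodd_one c (hUS (hDU hcD')) (hfix _ hcW (by rw [← conj_pow, hcr]))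
    rw [← (inv_mul_eq_one.1 this)]
    exact w.2
  have hsW : ∀ w ∈ W, s * w * s⁻¹ ∈ W := by
    rintro _ ⟨v, hv, rfl⟩
    set v' := s * v * s⁻¹
    have hv' : v' ∈ D := ⟨hSU s hs v hv.1, mem_centralizer_iff.2 fun u hu => by
      have := ((hDc v hv _ (hSU s⁻¹ (inv_mem hs) u hu)).map (MulAut.conj s).toMonoidHom).eq
      simpa [v', mul_assoc] using this.symm⟩
    have hy := hrD' v' hv'
    have e : s * δ v * s⁻¹ = (δ (r⁻¹ * v' * r))⁻¹ := by
      calc s * δ v * s⁻¹ = (s * r * s⁻¹) * v' * (s * r * s⁻¹)⁻¹ * v'⁻¹ := by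
            simp only [hδ, v']; group
        _ = u₀ * (r⁻¹ * v' * r) * u₀⁻¹ * v'⁻¹ := by rw [hsr]; group
        _ = (r⁻¹ * v' * r) * v'⁻¹ := by rw [← (hDc _ hy u₀ hinv).eq]; group
        _ = _ := by simp only [hδ]; group
    rw [e]
    exact inv_mem ⟨_, hy, rfl⟩
  have hu₀W : ∀ w ∈ W, Commute u₀ w := fun w hw => (hDc w (hWD hw) u₀ hinv).symm
  have hboth : ∀ w ∈ W, Commute s w → Commute s (r * w * r⁻¹) → w = 1 := by
    intro w hw h1' h2'
    have e : r * w * r⁻¹ = r⁻¹ * w * r := by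
      calc r * w * r⁻¹ = s * (r * w * r⁻¹) * s⁻¹ := by rw [h2'.eq]; group
        _ = (s * r * s⁻¹) * (s * w * s⁻¹) * (s * r * s⁻¹)⁻¹ := by group
        _ = u₀ * (r⁻¹ * w * r) * u₀⁻¹ := by rw [hsr, h1'.eq]; group
        _ = r⁻¹ * w * r := by
          rw [← (hDc _ (hrD' w (hWD hw)) u₀ hinv).eq]; group
    have hc2 : Commute (r ^ 2) w := by
      have := congrArg (fun y => r * y * r) e
      simpa [sq, Commute, SemiconjBy, mul_assoc] using this
    refine hfix w hw ?_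
    have hc := hc2.pow_left (m + 1)
    rw [← pow_mul, hrpow] at hc
    rw [hc.eq, mul_inv_cancel_right]
  have hsq : ∀ w ∈ W, w * w = 1 := by
    have hfixsq : ∀ w ∈ W, Commute s (w * w) := by
      intro w hw
      set d := s * w * s⁻¹ * w⁻¹ with hd
      have hds : Commute d s := hcl s hs w (hUS (hDU (hWD hw))) s hs
      have hc : Commute (s * w * s⁻¹) w := hDc _ (hWD (hsW w hw)) w (hDU (hWD hw))
      have hss : s * s * w * (s * s)⁻¹ = w := by
        rw [((hDc w (hWD hw) _ hs2).symm).eq, mul_inv_cancel_right]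
      have hdd : d * d = 1 := by
        have e1 : s * d * s⁻¹ = d := by rw [← hds.eq, mul_inv_cancel_right]
        have e2 : s * d * s⁻¹ = w * (s * w * s⁻¹)⁻¹ := by
          calc s * d * s⁻¹ = (s * s * w * (s * s)⁻¹) * (s * w * s⁻¹)⁻¹ := by rw [hd]; group
            _ = _ := by rw [hss]
        calc d * d = s * w * s⁻¹ * w⁻¹ * d := by rw [hd]
          _ = s * w * s⁻¹ * w⁻¹ * (w * (s * w * s⁻¹)⁻¹) := by rw [← e2, e1]
          _ = 1 := by group
      have e : s * (w * w) * s⁻¹ = w * w := by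
        calc s * (w * w) * s⁻¹ = d * w * (d * w) := by rw [hd]; group
          _ = d * (w * d) * w := by group
          _ = d * (d * w) * w := by
            rw [(hc.symm.mul_right (Commute.refl w).inv_right : Commute w d).eq]
          _ = (d * d) * (w * w) := by group
          _ = w * w := by rw [hdd, one_mul]
      exact mul_inv_eq_iff_eq_mul.1 e
    intro w hw
    refine hboth _ (mul_mem hw hw) (hfixsq w hw) ?_
    have := hfixsq _ (hrW w hw)
    simpa [mul_assoc] using this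
  have hWne : ∃ w ∈ W, w ≠ 1 := by
    by_contra h
    push Not at h
    exact hrS (hCZ r fun z hz hzc => mul_inv_eq_iff_eq_mul.1
      (mul_inv_eq_one.1 (h _ (hcomU z (hZU z hz hzc)))))
  have hnfix : ∃ w ∈ W, ¬ Commute w s := by
    obtain ⟨w, hw, hw1⟩ := hWne
    by_contra h
    push Not at h
    exact hw1 (hboth w hw (h w hw).symm (h _ (hrW w hw)).symm)
  have hfixU : ∀ u ∈ U, r * (u * u) * r⁻¹ = u * u := by
    intro u hu
    set z := δ u with hz
    have hzW := hcomU u hu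
    calc r * (u * u) * r⁻¹ = z * u * (z * u) := by rw [hz, hδ]; group
      _ = z * (u * z) * u := by group
      _ = z * (z * u) * u := by rw [(hDc z (hWD hzW) u hu).eq]
      _ = (z * z) * (u * u) := by group
      _ = u * u := by rw [hsq z hzW, one_mul]
  refine ⟨fun x hx hxs => ?_, fun hidx => ⟨W, ?_⟩⟩
  · obtain ⟨w, hw, hwc⟩ := hnfix
    set c₀ := x * w * x⁻¹ * w⁻¹ with hc₀
    have hwS : w ∈ S := hUS (hDU (hWD hw))
    have hcx : Commute c₀ x := hcl x hx w hwS x hx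
    have hcw : Commute c₀ w := hcl x hx w hwS w hwS
    have hxw : x * w * x⁻¹ = c₀ * w := by rw [hc₀]; group
    have hcc : c₀ * c₀ = 1 := by
      have e : x * (w * w) * x⁻¹ = c₀ * c₀ * (w * w) := by
        calc x * (w * w) * x⁻¹ = (x * w * x⁻¹) * (x * w * x⁻¹) := by group
          _ = c₀ * (w * c₀) * w := by rw [hxw]; group
          _ = c₀ * (c₀ * w) * w := by rw [hcw.eq]
          _ = _ := by group
      rw [hsq w hw] at e
      simpa using e.symm
    have h2x : Commute (x * x) w := by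
      refine mul_inv_eq_iff_eq_mul.1 ?_
      calc x * x * w * (x * x)⁻¹ = x * (x * w * x⁻¹) * x⁻¹ := by group
        _ = (x * c₀) * w * x⁻¹ := by rw [hxw]; group
        _ = c₀ * (x * w * x⁻¹) := by rw [← hcx.eq]; group
        _ = c₀ * c₀ * w := by rw [hxw, ← mul_assoc]
        _ = w := by rw [hcc, one_mul]
    have h3 : Commute (x * x * s⁻¹) w := (hDc w (hWD hw) _ hxs).symm
    have h4 := h3.inv_left.mul_left h2x
    rw [show (x * x * s⁻¹)⁻¹ * (x * x) = s by group] at h4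
    exact hwc h4.symm
  have hnorm : ∀ x ∈ S, ∀ w ∈ W, x * w * x⁻¹ ∈ W := by
    intro x hx w hw
    by_cases hxU : x ∈ U
    · rw [← (hDc w (hWD hw) x hxU).eq, mul_inv_cancel_right]; exact hw
    · set t := x * s⁻¹
      have e : x * w * x⁻¹ = t * (s * w * s⁻¹) * t⁻¹ := by simp only [t]; group
      rw [e, ← (hDc _ (hWD (hsW w hw)) t (hidx x hx hxU)).eq, mul_inv_cancel_right]
      exact hsW w hw
  refine
    { U_le := hUS
      W_le := hWD.trans hDU
      W_cent := fun w hw => hDc w (hWD hw)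
      zle := hZU
      idx := fun x hx y hy hxU hyU => by
        simpa [mul_assoc] using mul_mem (hidx x hx hxU) (inv_mem (hidx y hy hyU))
      nc := let ⟨w, hw, hwc⟩ := hnfix; ⟨w, hw, s, hs, hwc⟩
      sq := hsq
      norm := hnorm
      meet_sq := fun u hu huW => hfix _ huW (hfixU u hu)
      meet_comm := fun u hu v hv huW => hfix _ huW ?_
      big := fun Y hWY hYU hle => hrS (hle ?_) }
  · set a := δ u
    set b := δ v
    have ha := hWD (hcomU u hu)
    have hb := hWD (hcomU v hv)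
    calc r * (u * v * u⁻¹ * v⁻¹) * r⁻¹ = a * u * (b * v) * (a * u)⁻¹ * (b * v)⁻¹ := by
          simp only [a, b, hδ]; group
      _ = a * (u * b) * v * u⁻¹ * a⁻¹ * v⁻¹ * b⁻¹ := by group
      _ = a * (b * u) * v * u⁻¹ * a⁻¹ * v⁻¹ * b⁻¹ := by rw [(hDc b hb u hu).eq]
      _ = (a * b) * ((u * v * u⁻¹) * a⁻¹) * v⁻¹ * b⁻¹ := by group
      _ = (a * b) * (a⁻¹ * (u * v * u⁻¹)) * v⁻¹ * b⁻¹ := by
          rw [(hDc _ (inv_mem ha) _ (mul_mem (mul_mem hu hv) (inv_mem hu))).eq]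
      _ = (a * b) * a⁻¹ * ((u * v * u⁻¹ * v⁻¹) * b⁻¹) := by group
      _ = (a * b) * a⁻¹ * (b⁻¹ * (u * v * u⁻¹ * v⁻¹)) := by
          rw [(hDc _ (inv_mem hb) _
            (mul_mem (mul_mem (mul_mem hu hv) (inv_mem hu)) (inv_mem hv))).eq]
      _ = (a * b * a⁻¹ * b⁻¹) * (u * v * u⁻¹ * v⁻¹) := by group
      _ = u * v * u⁻¹ * v⁻¹ := by rw [(hDc a ha b (hDU hb)).eq]; group
  · refine mem_normalizer_iff_map_conj_eq.2 (eq_of_le_of_card_ge ?_ (le_of_eq
      (Nat.card_congr (Y.equivMapOfInjective _ (MulAut.conj r).injective).toEquiv)))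
    rintro _ ⟨y, hy, rfl⟩
    show r * y * r⁻¹ ∈ Y
    have := mul_mem (hWY (hcomU y (hYU hy))) hy
    simpa [hδ, mul_assoc] using this

end CfsgLib.InvNilMax
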