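import Cfsg.Agent.FTRows.InvNilMaxLocal
import Cfsg.Agent.FTRows.CoprimeNilMax

/-!
A coprime operator group of odd order leaving invariant a maximal 2-subgroup of class at most two
forces solvability, given that groups of odd order are solvable (S4038).
-/

set_option autoImplicit false
set_option linter.style.haveILetI false

universe u

namespace CfsgLib.InvNilMax

open Subgroup

variable {K : Type u} [Group K] [Finite K]

theorem mem_normalizer_of_conj_le {H : Subgroup K} {g : K} (h : ∀ x ∈ H, g * x * g⁻¹ ∈ H) :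
    g ∈ normalizer (H : Set K) := by
  refine mem_normalizer_iff_map_conj_eq.2 (eq_of_le_of_card_ge ?_ (le_of_eq
    (Nat.card_congr (H.equivMapOfInjective _ (MulAut.conj g).injective).toEquiv)))
  rintro _ ⟨x, hx, rfl⟩
  exact h x hx

/-- A subgroup closed under a group of automorphisms. -/
def Stable (B : Subgroup (MulAut K)) (H : Subgroup K) : Prop := ∀ b ∈ B, ∀ x ∈ H, b x ∈ H

theorem Stable.normalizer {B : Subgroup (MulAut K)} {H : Subgroup K} (h : Stable B H) :
    Stable B (normalizer (H : Set K)) := by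
  intro b hb n hn
  refine mem_normalizer_of_conj_le fun x hx => ?_
  have h1 := h b hb _ ((mem_normalizer_iff.1 hn _).1 (h b⁻¹ (inv_mem hb) x hx))
  simpa [MulAut.apply_inv_self] using h1

section
variable {B : Subgroup (MulAut K)} {S : Subgroup K}

/-- The configurations cannot be moved around by a group of odd order. -/
theorem no_pkg (hBodd : Odd (Nat.card B)) (hSB : Stable B S)
    (hmax : ∀ H : Subgroup K, S ≤ H → Stable B H → H = S ∨ H = ⊤)
    (hcore : ∀ N : Subgroup K, N.Normal → Stable B N → N ≤ S → N = ⊥)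
    {U W : Subgroup K} (hP : Pkg S U W) : False := by
  classical
  have hmem : ∀ b : B, ∀ x : K, (b : MulAut K) x ∈ S ↔ x ∈ S := fun b x =>
    ⟨fun h => by simpa using hSB _ (inv_mem b.2) _ h, hSB _ b.2 x⟩
  set Ub : B → Subgroup K := fun b => U.map (b : MulAut K).toMonoidHom with hUb
  set Wb : B → Subgroup K := fun b => W.map (b : MulAut K).toMonoidHom with hWb
  have hPb : ∀ b : B, Pkg S (Ub b) (Wb b) := fun b => hP.map _ (hmem b)
  have hmul : ∀ c b : B, Wb (c * b) = (Wb b).map (c : MulAut K).toMonoidHom := fun c b => by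
    simp only [hWb, map_map]; rfl
  by_cases hadj : ∃ a b : B, Adj (Wb a) (Wb b)
  · obtain ⟨a, b, hab⟩ := hadj
    set c := b * a⁻¹ with hc
    have hstep : ∀ n : ℕ, Adj (Wb (c ^ n * a)) (Wb (c ^ (n + 1) * a)) := by
      intro n
      induction n with
      | zero => simpa [hc] using hab
      | succ n ih =>
        rw [show c ^ (n + 1) * a = c * (c ^ n * a) by rw [pow_succ', mul_assoc],
          show c ^ (n + 1 + 1) * a = c * (c ^ (n + 1) * a) by rw [pow_succ', mul_assoc],
          hmul c, hmul c]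
        obtain ⟨w, hw, v, hv, hwv⟩ := ih
        exact ⟨_, mem_map_of_mem _ hw, _, mem_map_of_mem _ hv, fun e => hwv
          ((c : MulAut K).injective (by simp only [map_mul]; exact e))⟩
    have hodd : ∀ k : ℕ, Adj (Wb (c ^ 0 * a)) (Wb (c ^ (2 * k + 1) * a)) := by
      intro k
      induction k with
      | zero => exact hstep 0
      | succ k ih =>
        exact adj_trans (hPb _) (hPb _) (hPb _) (hPb _) ih (hstep _) (hstep _)
    obtain ⟨k, hk⟩ : Odd (orderOf c) :=
      Odd.of_dvd_nat hBodd (orderOf_dvd_natCard c)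
    have := hodd k
    rw [← hk, pow_orderOf_eq_one, pow_zero] at this
    exact (hPb _).not_adj_self this
  push Not at hadj
  set X : Subgroup K := ⨆ b : B, Wb b with hX
  have hWX : W ≤ X := by
    refine le_trans ?_ (le_iSup Wb 1)
    intro w hw
    exact ⟨w, hw, rfl⟩
  have hW1 : Wb 1 = W := le_antisymm (by rintro _ ⟨w, hw, rfl⟩; exact hw) fun w hw => ⟨w, hw, rfl⟩
  have hXU : X ≤ U := iSup_le fun b v hv => by
    by_contra hvU
    exact hadj 1 b (hW1.symm ▸ Pkg.adj_of_not_le hP (hPb b) hv hvU)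
  have hXst : Stable B X := fun c hc x hx => by
    have h1 : X.map (c : MulAut K).toMonoidHom ≤ X := by
      rw [hX, Subgroup.map_iSup]
      exact iSup_le fun b => (hmul ⟨c, hc⟩ b).ge.trans (le_iSup Wb _)
    exact h1 (mem_map_of_mem _ hx)
  have hSN : S ≤ Subgroup.normalizer (X : Set K) := fun s hs => by
    refine mem_normalizer_of_conj_le fun x hx => ?_
    have h1 : X.map (MulAut.conj s).toMonoidHom ≤ X := by
      rw [hX, Subgroup.map_iSup]
      refine iSup_le fun b => le_trans ?_ (le_iSup Wb b)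
      rintro _ ⟨w, hw, rfl⟩
      exact (hPb b).norm s hs w hw
    exact h1 (mem_map_of_mem _ hx)
  rcases hmax _ hSN hXst.normalizer with h | h
  · exact hP.big X hWX hXU h.le
  · have := hcore X (normalizer_eq_top_iff.1 h) hXst (hXU.trans hP.U_le)
    obtain ⟨w, hw, x, -, hc⟩ := hP.nc
    have hw1 := hWX hw
    rw [this, mem_bot] at hw1
    exact hc (hw1 ▸ Commute.one_left x)

/-- A 2-local subgroup above `S` and containing `Z(S)` in its kernel is `S` itself. -/
theorem normalizer_le (hBodd : Odd (Nat.card B)) (hSB : Stable B S) (hSp : IsPGroup 2 S)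
    (hcl : ∀ x ∈ S, ∀ y ∈ S, ∀ z ∈ S, Commute (x * y * x⁻¹ * y⁻¹) z)
    (hmax : ∀ H : Subgroup K, S ≤ H → Stable B H → H = S ∨ H = ⊤)
    (hcore : ∀ N : Subgroup K, N.Normal → Stable B N → N ≤ S → N = ⊥)
    (hNS : Subgroup.normalizer (S : Set K) ≤ S)
    (hCZ : ∀ g : K, (∀ z ∈ S, (∀ y ∈ S, Commute z y) → Commute g z) → g ∈ S)
    (X : Subgroup K) (hXS : X ≤ S) (hZX : ∀ z ∈ S, (∀ y ∈ S, Commute z y) → z ∈ X)
    (hSX : S ≤ Subgroup.normalizer (X : Set K)) : Subgroup.normalizer (X : Set K) ≤ S := by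
  classical
  by_contra hcon
  obtain ⟨L, hL⟩ := (Set.toFinite {L : Subgroup K | S < L ∧ L ≤ Subgroup.normalizer (X : Set K)}
    ).exists_minimal ⟨_, lt_of_le_not_ge hSX hcon, le_rfl⟩
  have hSL : S < L := hL.1.1
  have hLX : L ≤ Subgroup.normalizer (X : Set K) := hL.1.2
  have hLmin : ∀ H, S ≤ H → H ≤ L → H = S ∨ H = L := fun H h1 h2 => by
    rcases h1.eq_or_lt with h | h
    · exact Or.inl h.symm
    · exact Or.inr (le_antisymm h2 (hL.2 ⟨h, h2.trans hLX⟩ h2))
  set S' : Subgroup L := S.subgroupOf L with hS'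
  set U' : Subgroup L := S'.normalCore with hU'
  have hU'S : U' ≤ S' := normalCore_le S'
  set f := QuotientGroup.mk' U' with hf
  have hfs : Function.Surjective f := QuotientGroup.mk'_surjective U'
  set T := S'.map f with hT
  have hcm : ∀ x : L, f x ∈ T ↔ (x : K) ∈ S := fun x => by
    rw [← mem_comap, hT, comap_map_eq, hf, QuotientGroup.ker_mk', sup_eq_left.2 hU'S]
    exact Iff.rfl
  have hf1 : ∀ x : L, f x = 1 ↔ x ∈ U' := fun x => QuotientGroup.eq_one_iff x
  have hXU : ∀ x : L, (x : K) ∈ X → x ∈ U' := by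
    intro x hx
    haveI : (X.subgroupOf L).Normal :=
      (normal_subgroupOf_iff_le_normalizer (hXS.trans hSL.le)).2 hLX
    exact normal_le_normalCore.2 (fun y hy => hXS hy : X.subgroupOf L ≤ S') hx
  have hab : ∀ a ∈ T, ∀ b ∈ T, Commute a b := by
    rintro _ ⟨x, hx, rfl⟩ _ ⟨y, hy, rfl⟩
    have h : f (x * y * x⁻¹ * y⁻¹) = 1 := (hf1 _).2 (hXU _ (hZX _
      (mul_mem (mul_mem (mul_mem hx hy) (inv_mem hx)) (inv_mem hy))
      fun z hz => hcl _ hx _ hy z hz))
    simp only [map_mul, map_inv] at h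
    exact mul_inv_eq_iff_eq_mul.1 (mul_inv_eq_one.1 h)
  have hN : ∀ g, (∀ a ∈ T, g * a * g⁻¹ ∈ T) → g ∈ T := by
    intro g hg
    obtain ⟨l, rfl⟩ := hfs g
    refine (hcm l).2 (hNS (mem_normalizer_of_conj_le fun x hx => ?_))
    have := hg _ ((hcm ⟨x, hSL.le hx⟩).2 hx)
    rw [← map_inv, ← map_mul, ← map_mul, hcm] at this
    exact this
  have hC : ∀ a ∈ T, a ≠ 1 → ∀ g, Commute g a → g ∈ T := by
    intro a ha ha1 g hg
    obtain ⟨l, rfl⟩ := hfs g
    set H : Subgroup K := ((centralizer {a}).comap f).map L.subtype with hH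
    have hSH : S ≤ H := fun x hx => ⟨⟨x, hSL.le hx⟩, mem_centralizer_iff.2 fun b hb => by
      rw [Set.mem_singleton_iff.1 hb]
      exact (hab a ha _ ((hcm ⟨x, hSL.le hx⟩).2 hx)).eq, rfl⟩
    have hlH : (l : K) ∈ H := ⟨l, mem_centralizer_iff.2 fun b hb => by
      rw [Set.mem_singleton_iff.1 hb]; exact hg.eq.symm, rfl⟩
    rcases hLmin H hSH (map_subtype_le _) with h | h
    · exact (hcm l).2 (h ▸ hlH)
    · exfalso
      have hcen : ∀ b, Commute b a := fun b => by
        obtain ⟨m, rfl⟩ := hfs b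
        have hm : (m : K) ∈ H := h.ge m.2
        obtain ⟨m', hm', e⟩ := hm
        rw [← L.subtype_injective e]
        exact (mem_centralizer_iff.1 hm' a rfl).symm
      haveI : (zpowers a).Normal := ⟨fun z hz b => by
        obtain ⟨i, rfl⟩ := hz
        rw [((hcen b).zpow_right i).eq, mul_inv_cancel_right]
        exact ⟨i, rfl⟩⟩
      have hle : (zpowers a).comap f ≤ S' := fun x hx => (hcm x).1 (zpowers_le.2 ha hx)
      obtain ⟨x, rfl⟩ := hfs a
      exact ha1 ((hf1 x).2 (normal_le_normalCore.2 hle (mem_comap.2 (mem_zpowers _))))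
  have hTt : T ≠ ⊤ := fun e => hSL.not_ge fun x hx => (hcm ⟨x, hx⟩).1 (e ▸ mem_top _)
  obtain ⟨t, htT, ht1⟩ : ∃ t ∈ T, t ≠ 1 := by
    by_contra h
    push Not at h
    have hSU : S' ≤ U' := fun x hx => (hf1 x).1 (h _ (mem_map_of_mem f hx))
    haveI : S'.Normal := le_antisymm hU'S hSU ▸ S'.normalCore_normal
    exact hSL.not_ge (((normal_subgroupOf_iff_le_normalizer hSL.le).1 inferInstance).trans hNS)
  have hTp : ∀ x ∈ T, ∃ k, orderOf x = 2 ^ k := by
    rintro _ ⟨x, hx, rfl⟩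
    have hxS : (x : K) ∈ S := hx
    obtain ⟨k, hk⟩ := IsPGroup.iff_orderOf.1 hSp ⟨(x : K), hxS⟩
    rw [Subgroup.orderOf_mk, Subgroup.orderOf_coe] at hk
    obtain ⟨j, -, hj⟩ := (Nat.dvd_prime_pow Nat.prime_two).1 (hk ▸ orderOf_map_dvd f x)
    exact ⟨j, hj⟩
  obtain ⟨s', hs'T, hs'1, hs'2⟩ : ∃ s ∈ T, s ≠ 1 ∧ s * s = 1 := by
    obtain ⟨k, hk⟩ := hTp t htT
    rcases k with _ | k
    · exact absurd (orderOf_eq_one_iff.1 hk) ht1
    refine ⟨t ^ 2 ^ k, pow_mem htT _, pow_ne_one_of_lt_orderOf (by positivity)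
      (hk ▸ Nat.pow_lt_pow_right (by omega) k.lt_succ_self), ?_⟩
    rw [← pow_add, ← two_mul, ← pow_succ', ← hk, pow_orderOf_eq_one]
  obtain ⟨huniq, r', hr'1, hr'o, hr'i⟩ := involution_unique hab hC hN hTt hs'T hs'1 hs'2
  obtain ⟨l, rfl⟩ := hfs r'
  obtain ⟨sL, hsL, rfl⟩ := hs'T
  set a := (orderOf l).factorization 2
  set r : L := l ^ 2 ^ a with hr
  have hro : Odd (orderOf r) := by
    rw [hr, orderOf_pow_of_dvd (by positivity) (Nat.ordProj_dvd _ _), ← Nat.coprime_two_left]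
    exact Nat.coprime_ordCompl Nat.prime_two (orderOf_pos l).ne'
  have hri : f sL * f r * (f sL)⁻¹ = (f r)⁻¹ := by
    rw [hr, map_pow, ← conj_pow, hr'i, inv_pow]
  have hr1 : f r ≠ 1 := fun e => hr'1 (by
    rw [hr, map_pow] at e
    refine orderOf_eq_one_iff.1 (Nat.eq_one_of_dvd_coprimes ?_ dvd_rfl (orderOf_dvd_of_pow_eq_one e))
    exact Nat.Coprime.pow_right a (Nat.coprime_two_right.2 hr'o))
  set U := U'.map L.subtype with hUdef
  have hmU : ∀ x : L, (x : K) ∈ U ↔ f x = 1 := fun x => by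
    rw [hf1, hUdef]
    exact mem_map_iff_mem L.subtype_injective
  have hUS : U ≤ S := by rintro _ ⟨x, hx, rfl⟩; exact hU'S hx
  have hLU : L ≤ Subgroup.normalizer (U : Set K) := by
    refine (normal_subgroupOf_iff_le_normalizer (hUS.trans hSL.le)).1 ?_
    rw [hUdef, subgroupOf, comap_map_eq_self_of_injective L.subtype_injective]
    infer_instance
  have hZU : ∀ z ∈ S, (∀ y ∈ S, Commute z y) → z ∈ U := fun z hz hzc =>
    (hmU ⟨z, hSL.le hz⟩).2 ((hf1 _).2 (hXU _ (hZX z hz hzc)))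
  have hrS : (r : K) ∉ S := fun h => hr1 (by
    have hc := hab _ ((hcm r).2 h) _ (mem_map_of_mem f hsL)
    have h2 : (f r) ^ 2 = 1 := by
      rw [sq]
      nth_rewrite 2 [show f r = (f r)⁻¹ by rw [← hri, ← hc.eq, mul_inv_cancel_right]]
      rw [mul_inv_cancel]
    refine orderOf_eq_one_iff.1 (Nat.eq_one_of_dvd_coprimes (k := orderOf (f r))
      (a := orderOf r) (b := 2) (Nat.coprime_two_right.2 hro) (orderOf_map_dvd f r)
      (orderOf_dvd_of_pow_eq_one h2)))
  obtain ⟨hnosq, hpkg⟩ := conf hSp hUS hcl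
    (fun x hx u hu => (mem_normalizer_iff.1 (hLU (hSL.le hx)) u).1 hu) hZU hCZ
    (hLU r.2) (by rwa [Subgroup.orderOf_coe]) hrS (show (sL : K) ∈ S from hsL)
    ((hmU (sL * sL)).2 (by rw [map_mul, hs'2]))
    ((hmU (sL * r * sL⁻¹ * r)).2 (by
      rw [map_mul, map_mul, map_mul, map_inv, hri, inv_mul_cancel]))
  -- `S / U` has order two
  have hexp : ∀ x ∈ T, x * x = 1 := by
    intro x hx
    obtain ⟨k, hk⟩ := hTp x hx
    by_contra hxx
    rcases k with _ | _ | k
    · exact hxx (by simp [orderOf_eq_one_iff.1 hk])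
    · exact hxx (by rw [← sq, show (2 : ℕ) = orderOf x by simpa using hk.symm, pow_orderOf_eq_one])
    have hv : x ^ 2 ^ (k + 1) = f sL := huniq _ (pow_mem hx _)
      (pow_ne_one_of_lt_orderOf (by positivity) (hk ▸ Nat.pow_lt_pow_right (by omega) (by omega)))
      (by rw [← pow_add, ← two_mul, ← pow_succ', ← hk, pow_orderOf_eq_one])
    obtain ⟨y, hy, hyx⟩ := pow_mem hx (2 ^ k) (x := x)
    refine hnosq (y : K) hy ((hmU (y * y * sL⁻¹)).2 ?_)
    rw [map_mul, map_mul, map_inv, hyx, ← pow_add, ← two_mul, ← pow_succ', hv, mul_inv_cancel]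
  obtain ⟨W, hW⟩ := hpkg fun x hx hxU => (hmU (⟨x, hSL.le hx⟩ * sL⁻¹)).2 (by
    have h1 : f ⟨x, hSL.le hx⟩ ≠ 1 := fun e => hxU ((hmU _).2 e)
    have h2 : f ⟨x, hSL.le hx⟩ ∈ T := (hcm _).2 hx
    rw [map_mul, map_inv, huniq _ h2 h1 (hexp _ h2), mul_inv_cancel])
  exact no_pkg hBodd hSB hmax hcore hW

/-- The 2-subgroup case of S4038. -/
theorem isSolvable_two (hFT : FTRows.OddSolvable.{u}) (hBodd : Odd (Nat.card B))
    (hcop : (Nat.card B).Coprime (Nat.card K)) (hSB : Stable B S) (hSp : IsPGroup 2 S)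
    (hcl : ∀ x ∈ S, ∀ y ∈ S, ∀ z ∈ S, Commute (x * y * x⁻¹ * y⁻¹) z)
    (hmax : ∀ H : Subgroup K, S ≤ H → Stable B H → H = S ∨ H = ⊤)
    (hcore : ∀ N : Subgroup K, N.Normal → Stable B N → N ≤ S → N = ⊥) :
    Group.IsSolvable K := by
  classical
  haveI : Fact (Nat.Prime 2) := ⟨Nat.prime_two⟩
  rcases eq_or_ne S ⊥ with hS0 | hS0
  · rcases Nat.even_or_odd (Nat.card K) with hK | hK
    swap
    · exact hFT K hK
    haveI : Group.IsSolvable B := hFT B hBodd
    obtain ⟨R, hR⟩ := CfsgLib.Coprime.exists_invariant_sylow (A := B) (G := K) hcop 2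
    rcases hmax (R : Subgroup K) (hS0 ▸ bot_le) (fun b hb x hx => hR ⟨b, hb⟩ x hx) with h | h
    · have h2 := R.dvd_card_of_dvd_card hK.two_dvd
      rw [h, hS0, card_bot] at h2
      omega
    · haveI : Group.IsNilpotent K := (R.2.of_surjective (R : Subgroup K).subtype fun g =>
        ⟨⟨g, h ▸ mem_top g⟩, rfl⟩).isNilpotent
      infer_instance
  -- `S` is self-normalizing and contains `C(Z(S))`
  have hNS : Subgroup.normalizer (S : Set K) ≤ S := by
    rcases hmax _ le_normalizer (Stable.normalizer hSB) with h | h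
    · exact h.le
    · exact absurd (hcore S (normalizer_eq_top_iff.1 h) hSB le_rfl) hS0
  set Z : Subgroup K := S ⊓ centralizer (S : Set K)
  have hmZ : ∀ z, z ∈ Z ↔ z ∈ S ∧ ∀ y ∈ S, Commute z y := fun z =>
    ⟨fun h => ⟨h.1, fun y hy => (mem_centralizer_iff.1 h.2 y hy).symm⟩,
      fun h => ⟨h.1, mem_centralizer_iff.2 fun y hy => (h.2 y hy).symm⟩⟩
  have hZB : Stable B Z := fun b hb z hz => (hmZ _).2 ⟨hSB b hb z ((hmZ z).1 hz).1, fun y hy => by
    have := (((hmZ z).1 hz).2 _ (hSB b⁻¹ (inv_mem hb) y hy)).map b.toMonoidHom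
    simpa [MulAut.apply_inv_self] using this⟩
  have hZne : Z ≠ ⊥ := by
    haveI := (nontrivial_iff_ne_bot S).2 hS0
    haveI := hSp.center_nontrivial
    obtain ⟨z, hz⟩ := exists_ne (1 : center S)
    intro e
    have : ((z : S) : K) ∈ Z := (hmZ _).2 ⟨(z : S).2, fun y hy =>
      (congrArg Subtype.val (mem_center_iff.1 z.2 ⟨y, hy⟩)).symm⟩
    rw [e, mem_bot] at this
    exact hz (Subtype.ext (Subtype.ext this))
  have hCB : Stable B (centralizer (Z : Set K)) := fun b hb g hg => mem_centralizer_iff.2 fun z hz => by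
    have := congrArg b (mem_centralizer_iff.1 hg _ (hZB b⁻¹ (inv_mem hb) z hz))
    simpa [MulAut.apply_inv_self] using this
  have hCZ : ∀ g : K, (∀ z ∈ S, (∀ y ∈ S, Commute z y) → Commute g z) → g ∈ S := by
    intro g hg
    have hgC : g ∈ centralizer (Z : Set K) := mem_centralizer_iff.2 fun z hz =>
      (hg z ((hmZ z).1 hz).1 ((hmZ z).1 hz).2).symm
    rcases hmax _ (fun x hx => mem_centralizer_iff.2 fun z hz => (((hmZ z).1 hz).2 x hx).eq) hCB
      with h | h
    · exact h ▸ hgC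
    · refine absurd (hcore Z ⟨fun z hz y => ?_⟩ hZB inf_le_left) hZne
      have hy : y ∈ centralizer (Z : Set K) := h ▸ mem_top y
      rw [← mem_centralizer_iff.1 hy z hz, mul_inv_cancel_right]
      exact hz
  -- `S` is a Sylow subgroup
  obtain ⟨P, hP⟩ := hSp.exists_le_sylow
  have hSP : (P : Subgroup K) = S := by
    by_contra hne
    have hlt : S.subgroupOf P < Subgroup.normalizer ((S.subgroupOf P : Subgroup P) : Set P) := by
      haveI := P.2.isNilpotent
      exact Group.normalizerCondition_of_isNilpotent _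
        (lt_top_iff_ne_top.2 fun e => hne (le_antisymm (subgroupOf_eq_top.1 e) hP))
    obtain ⟨y, hyN, hyS⟩ := SetLike.exists_of_lt hlt
    refine hyS (mem_subgroupOf.2 (hNS (mem_normalizer_of_conj_le fun x hx => ?_)))
    exact (mem_normalizer_iff.1 hyN ⟨x, hP hx⟩).1 hx
  have hhard := normalizer_le hBodd hSB hSp hcl hmax hcore hNS hCZ
  have hnpc : Cfsg.HasNormalPComplement 2 K := by
    refine CfsgLib.Fusion.hasNormalPComplement_of_localCondition fun Q hQ g hg hgc => ?_
    set N := Subgroup.normalizer (Q : Set K)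
    set C := centralizer (Q : Set K)
    haveI hCn : (C.subgroupOf N).Normal := ⟨fun c' hc' g' => by
      rw [mem_subgroupOf] at hc' ⊢
      refine mem_centralizer_iff.2 fun y hy => ?_
      have h1 := mem_centralizer_iff.1 hc' _ ((mem_normalizer_iff''.1 g'.2 y).1 hy)
      calc y * ((g' : K) * c' * (g' : K)⁻¹) =
          (g' : K) * (((g' : K)⁻¹ * y * g') * c') * (g' : K)⁻¹ := by group
        _ = ((g' : K) * c' * (g' : K)⁻¹) * y := by rw [h1]; group⟩
    set CN := C.subgroupOf N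
    obtain ⟨T⟩ : Nonempty (Sylow 2 CN) := inferInstance
    obtain ⟨R, hT⟩ := (T.2.map CN.subtype).exists_le_sylow
    obtain ⟨S₁, hS₁⟩ := (R.2.map N.subtype).exists_le_sylow
    obtain ⟨x, hx⟩ := MulAction.exists_smul_eq K S₁ P
    set c := MulAut.conj x
    have hS₁S : ∀ y ∈ (S₁ : Subgroup K), c y ∈ S := fun y hy => by
      rw [← hSP, ← hx]
      exact mem_map_of_mem c.toMonoidHom hy
    have hQN : Q ≤ N := le_normalizer
    have hQS : ∀ y ∈ Q, c y ∈ S := fun y hy => by
      refine hS₁S y (hS₁ ⟨⟨y, hQN hy⟩, ?_, rfl⟩)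
      haveI : (Q.subgroupOf N).Normal := normal_in_normalizer
      exact R.3 ((show IsPGroup 2 (Q.subgroupOf N) from
        hQ.comap_of_injective N.subtype N.subtype_injective).to_sup_of_normal_left R.2)
        le_sup_right ▸ mem_sup_left (show (⟨y, hQN hy⟩ : N) ∈ Q.subgroupOf N from hy)
    set T' : Subgroup K := (((T : Subgroup CN).map CN.subtype).map N.subtype).map c.toMonoidHom
    have hT'S : T' ≤ S := by
      rintro _ ⟨w, hw, rfl⟩
      exact hS₁S w (hS₁ (map_mono hT hw))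
    have hZT : ∀ z ∈ S, (∀ u ∈ S, Commute z u) → z ∈ T' := by
      intro z hz hzc
      have hzC : c.symm z ∈ C := mem_centralizer_iff.2 fun u hu => c.injective (by
        rw [map_mul, map_mul, MulEquiv.apply_symm_apply]
        exact (hzc _ (hQS u hu)).symm)
      have hzN : c.symm z ∈ N := centralizer_le_normalizer _ hzC
      set z' : CN := ⟨⟨c.symm z, hzN⟩, hzC⟩
      have hcomm' : ∀ w ∈ (T : Subgroup CN), z' * w = w * z' := fun w hw => by
        refine Subtype.ext (Subtype.ext (c.injective ?_))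
        show c (c.symm z * (w : N).1) = c ((w : N).1 * c.symm z)
        rw [map_mul, map_mul, MulEquiv.apply_symm_apply]
        exact hzc _ (hT'S ⟨_, ⟨_, ⟨w, hw, rfl⟩, rfl⟩, rfl⟩)
      obtain ⟨k, hk⟩ := IsPGroup.iff_orderOf.1 hSp ⟨z, hz⟩
      rw [Subgroup.orderOf_mk] at hk
      have hzp : IsPGroup 2 (zpowers z') := IsPGroup.of_card (n := k) (by
        rw [Nat.card_zpowers, ← hk, ← Subgroup.orderOf_coe, ← Subgroup.orderOf_coe]
        exact MulEquiv.orderOf_eq c.symm z)
      have hle : zpowers z' ≤ Subgroup.normalizer ((T : Subgroup CN) : Set CN) :=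
        zpowers_le.2 (centralizer_le_normalizer _
          (mem_centralizer_iff.2 fun w hw => (hcomm' w hw).symm))
      have hin : z' ∈ (T : Subgroup CN) :=
        T.3 (hzp.to_sup_of_normal_right' T.2 hle) le_sup_right ▸ mem_sup_left (mem_zpowers z')
      exact ⟨c.symm z, ⟨_, ⟨z', hin, rfl⟩, rfl⟩, MulEquiv.apply_symm_apply c z⟩
    have hST : S ≤ Subgroup.normalizer (T' : Set K) := fun u hu =>
      mem_normalizer_of_conj_le fun t ht => by
        have htS := hT'S ht
        have := mul_mem (hZT _ (mul_mem (mul_mem (mul_mem hu htS) (inv_mem hu)) (inv_mem htS))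
          fun v hv => hcl u hu t htS v hv) ht
        rwa [inv_mul_cancel_right] at this
    have hNT := hhard T' hT'S hZT hST
    -- Frattini argument
    have hgN : (⟨g, hg⟩ : N) ∈
        Subgroup.normalizer (((T : Subgroup CN).map CN.subtype : Subgroup N) : Set N) ⊔ CN := by
      rw [Sylow.normalizer_sup_eq_top T]
      exact mem_top _
    rw [sup_comm, mem_sup_of_normal_left] at hgN
    obtain ⟨d, hd, m, hm, hdm⟩ := hgN
    have hmS : c (m : K) ∈ S := by
      refine hNT (mem_normalizer_of_conj_le ?_)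
      rintro _ ⟨_, ⟨w, hw, rfl⟩, rfl⟩
      exact ⟨_, ⟨m * w * m⁻¹, (mem_normalizer_iff.1 hm w).1 hw, rfl⟩, by simp [mul_assoc]⟩
    obtain ⟨k, hk⟩ := IsPGroup.iff_orderOf.1 hSp ⟨_, hmS⟩
    rw [Subgroup.orderOf_mk] at hk
    have hm2 : m ^ 2 ^ k = 1 := Subtype.ext (c.injective (by
      rw [SubmonoidClass.coe_pow, map_pow, ← hk, pow_orderOf_eq_one]; simp))
    have hge : ((⟨g, hg⟩ : N) : N ⧸ CN) ^ 2 ^ k = 1 := by
      rw [← hdm, QuotientGroup.mk_mul, (QuotientGroup.eq_one_iff d).2 hd, one_mul,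
        ← QuotientGroup.mk_pow, hm2, QuotientGroup.mk_one]
    have h1 : orderOf ((⟨g, hg⟩ : N) : N ⧸ CN) ∣ orderOf g := by
      rw [← Subgroup.orderOf_mk g hg]
      exact orderOf_map_dvd (QuotientGroup.mk' CN) _
    have h2 := Nat.eq_one_of_dvd_coprimes (hgc.pow_right _) h1 (orderOf_dvd_of_pow_eq_one hge)
    rw [orderOf_eq_one_iff, QuotientGroup.eq_one_iff] at h2
    exact h2
  obtain ⟨P', C, hCn, hcomp⟩ := hnpc
  haveI := hCn
  haveI : Group.IsSolvable C := hFT C (by
    rw [← hcomp.index_eq_card, Nat.odd_iff, ← Nat.two_dvd_ne_zero]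
    exact P'.not_dvd_index)
  haveI : Group.IsSolvable (K ⧸ C) := by
    obtain ⟨n, hn⟩ := IsPGroup.iff_card.1 P'.2
    haveI := (IsPGroup.of_card (p := 2) (n := n)
      (show Nat.card (K ⧸ C) = 2 ^ n by
        rw [← C.index_eq_card, hcomp.symm.index_eq_card, hn])).isNilpotent
    infer_instance
  exact Group.isSolvable_of_ker_le_range C.subtype (QuotientGroup.mk' C)
    (by rw [QuotientGroup.ker_mk', C.range_subtype])

end

end CfsgLib.InvNilMax
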