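import Cfsg.Agent.FTRows.PiSep
import Cfsg.Agent.Solvable.Basics
import Cfsg.Agent.Perm.Basic
import Cfsg.Agent.S3360
import Cfsg.Prelude.Def_Perm
import Mathlib.GroupTheory.GroupAction.MultipleTransitivity
import Mathlib.GroupTheory.GroupAction.MultiplePrimitivity

/-!
# Kantor's theorem on 2-homogeneous groups

A 2-homogeneous group which is not 2-transitive has odd order; assuming that groups of odd
order are solvable, it is a group of semi-affine maps of a finite field: the point stabiliser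
together with `-1` is a solvable group transitive on the non-zero vectors, so Huppert's
theorem applies, and the exceptional degrees are `1 (mod 4)`.
-/

set_option autoImplicit false
set_option linter.unusedSectionVars false
set_option linter.style.haveILetI false

universe u

namespace CfsgLib.FTRows.Kantor

open MulAction Subgroup
open scoped Pointwise

variable {α : Type u} [Fintype α] [DecidableEq α] {G : Subgroup (Equiv.Perm α)}

theorem exists_map_pair (h2 : IsPretransitive G (Set.powersetCard α 2)) {a b c d : α}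
    (hab : a ≠ b) (hcd : c ≠ d) :
    ∃ g : G, (g • a = c ∧ g • b = d) ∨ (g • a = d ∧ g • b = c) := by
  let s : Set.powersetCard α 2 := ⟨{a, b}, Finset.card_pair hab⟩
  let t : Set.powersetCard α 2 := ⟨{c, d}, Finset.card_pair hcd⟩
  obtain ⟨g, hg⟩ := h2.exists_smul_eq s t
  have hg' : g • ({a, b} : Finset α) = {c, d} := congrArg Subtype.val hg
  have ha : g • a ∈ ({c, d} : Finset α) := by
    rw [← hg', Finset.smul_finset_def]
    exact Finset.mem_image_of_mem _ (Finset.mem_insert_self _ _)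
  have hb : g • b ∈ ({c, d} : Finset α) := by
    rw [← hg', Finset.smul_finset_def]
    exact Finset.mem_image_of_mem _ (Finset.mem_insert_of_mem (Finset.mem_singleton_self _))
  have hne : g • a ≠ g • b := fun e => hab (smul_left_cancel g e)
  simp only [Finset.mem_insert, Finset.mem_singleton] at ha hb
  refine ⟨g, ?_⟩
  rcases ha with ha | ha <;> rcases hb with hb | hb
  · exact absurd (ha.trans hb.symm) hne
  · exact Or.inl ⟨ha, hb⟩
  · exact Or.inr ⟨ha, hb⟩
  · exact absurd (ha.trans hb.symm) hne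

theorem three_le (hne : G ≠ ⊥) (h2 : IsPretransitive G (Set.powersetCard α 2))
    (hn2 : ¬ IsMultiplyPretransitive G α 2) : 3 ≤ Fintype.card α := by
  by_contra hlt
  refine hn2 (is_two_pretransitive_iff.2 fun {a b c d} hab hcd => ?_)
  obtain ⟨g, h | h⟩ := exists_map_pair h2 hab hcd
  · exact ⟨g, h⟩
  -- with two points a non-trivial group is the symmetric group
  obtain ⟨⟨t, htG⟩, ht⟩ := Subgroup.ne_bot_iff_exists_ne_one.1 hne
  replace ht : t ≠ 1 := fun e => ht (Subtype.ext e)
  have huniv : (Finset.univ : Finset α) = {c, d} :=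
    (Finset.eq_of_subset_of_card_le (Finset.subset_univ _) (by
      rw [Finset.card_pair hcd, Finset.card_univ]; omega)).symm
  have hmem : ∀ x : α, x = c ∨ x = d := fun x => by
    have := Finset.mem_univ x
    rw [huniv] at this
    simpa using this
  obtain ⟨x, hx⟩ : ∃ x, t x ≠ x := by
    by_contra hall
    push Not at hall
    exact ht (Equiv.ext hall)
  have hinj := t.injective
  have htc : t c = d ∧ t d = c := by
    rcases hmem x with rfl | rfl <;> rcases hmem (t x) with h1 | h1
    · exact absurd h1 hx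
    · refine ⟨h1, (hmem (t d)).resolve_right fun e => hcd (hinj (h1.trans e.symm))⟩
    · refine ⟨(hmem (t c)).resolve_left fun e => hcd (hinj (e.trans h1.symm)), h1⟩
    · exact absurd h1 hx
  refine ⟨⟨t, htG⟩ * g, ?_, ?_⟩
  · rw [mul_smul, h.1]; exact htc.2
  · rw [mul_smul, h.2]; exact htc.1

theorem odd_card (hne : G ≠ ⊥) (h2 : IsPretransitive G (Set.powersetCard α 2))
    (hn2 : ¬ IsMultiplyPretransitive G α 2) : Odd (Nat.card G) := by
  rw [← Nat.not_even_iff_odd, even_iff_two_dvd]
  intro hdvd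
  haveI : Fact (Nat.Prime 2) := ⟨Nat.prime_two⟩
  obtain ⟨t, ht⟩ := exists_prime_orderOf_dvd_card' (G := G) 2 hdvd
  have ht2 : t * t = 1 := by
    have := pow_orderOf_eq_one t
    rwa [ht, sq] at this
  obtain ⟨x, hx⟩ : ∃ x : α, t • x ≠ x := by
    by_contra hall
    push Not at hall
    have : t = 1 := eq_of_smul_eq_smul fun x : α => by rw [hall, one_smul]
    rw [this, orderOf_one] at ht
    exact absurd ht (by norm_num)
  refine hn2 (is_two_pretransitive_iff.2 fun {a b c d} hab hcd => ?_)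
  obtain ⟨g, h | h⟩ := exists_map_pair h2 hab hcd
  · exact ⟨g, h⟩
  obtain ⟨k, hk | hk⟩ := exists_map_pair h2 (Ne.symm hx) hcd
  · refine ⟨k * t * k⁻¹ * g, ?_, ?_⟩
    · rw [mul_smul, h.1, mul_smul, mul_smul, show k⁻¹ • d = t • x from inv_smul_eq_iff.2 hk.2.symm,
        smul_smul t t, ht2, one_smul, hk.1]
    · rw [mul_smul, h.2, mul_smul, mul_smul, show k⁻¹ • c = x from inv_smul_eq_iff.2 hk.1.symm, hk.2]
  · refine ⟨k * t * k⁻¹ * g, ?_, ?_⟩
    · rw [mul_smul, h.1, mul_smul, mul_smul, show k⁻¹ • d = x from inv_smul_eq_iff.2 hk.1.symm, hk.2]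
    · rw [mul_smul, h.2, mul_smul, mul_smul, show k⁻¹ • c = t • x from inv_smul_eq_iff.2 hk.2.symm,
        smul_smul t t, ht2, one_smul, hk.1]

theorem pretransitive (h3 : 3 ≤ Fintype.card α) (h2 : IsPretransitive G (Set.powersetCard α 2)) :
    IsPretransitive G α := by
  refine ⟨fun a b => ?_⟩
  by_cases hab : a = b
  · exact ⟨1, by rw [one_smul, hab]⟩
  obtain ⟨c, hc⟩ : ∃ c, c ∉ ({a, b} : Finset α) := by
    by_contra hall
    push Not at hall
    have := Finset.card_le_card (fun x (_ : x ∈ Finset.univ) => hall x)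
    rw [Finset.card_univ, Finset.card_pair hab] at this
    omega
  simp only [Finset.mem_insert, Finset.mem_singleton, not_or] at hc
  obtain ⟨g, hg | hg⟩ := exists_map_pair h2 (Ne.symm hc.1) (Ne.symm hc.2)
  · exact ⟨g, hg.1⟩
  · exact ⟨g * g, by rw [mul_smul, hg.1, hg.2]⟩

theorem preprimitive (h3 : 3 ≤ Fintype.card α) (h2 : IsPretransitive G (Set.powersetCard α 2)) :
    IsPreprimitive G α := by
  haveI := pretransitive h3 h2
  constructor
  intro B hB
  by_cases hs : B.Subsingleton
  · exact Or.inl hs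
  obtain ⟨a, ha, b, hb, hab⟩ := Set.not_subsingleton_iff.1 hs
  refine Or.inr (Set.eq_univ_of_forall fun c => ?_)
  by_cases hac : a = c
  · exact hac ▸ ha
  obtain ⟨g, hg | hg⟩ := exists_map_pair h2 hab hac
  · have h1 : a ∈ g • B ∩ B := ⟨⟨a, ha, hg.1⟩, ha⟩
    have h := hB.smul_eq_of_mem (g := g) ha (by rw [hg.1]; exact ha)
    rw [← h]
    exact ⟨b, hb, hg.2⟩
  · have h := hB.smul_eq_of_mem (g := g) hb (by rw [hg.2]; exact ha)
    rw [← h]
    exact ⟨a, ha, hg.1⟩

theorem choose_two_dvd (hodd : Odd (Nat.card G)) (h3 : 3 ≤ Fintype.card α)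
    (h2 : IsPretransitive G (Set.powersetCard α 2)) (hα : Odd (Fintype.card α)) :
    Fintype.card α % 4 = 3 := by
  haveI := h2
  obtain ⟨a, b, hab⟩ := Fintype.exists_pair_of_one_lt_card (α := α) (by omega)
  let s : Set.powersetCard α 2 := ⟨{a, b}, Finset.card_pair hab⟩
  have hd : Nat.card (Set.powersetCard α 2) ∣ Nat.card G := by
    rw [← index_stabilizer_of_transitive G s]
    exact Subgroup.index_dvd_card _
  rw [Set.powersetCard.card, Nat.card_eq_fintype_card (α := α), Nat.choose_two_right] at hd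
  have ho : Odd (Fintype.card α * (Fintype.card α - 1) / 2) := hodd.of_dvd_nat hd
  obtain ⟨m, hm⟩ := hα
  rw [show Fintype.card α - 1 = 2 * m by omega, hm,
    show (2 * m + 1) * (2 * m) = 2 * ((2 * m + 1) * m) by ring, Nat.mul_div_cancel_left _ two_pos,
    Nat.odd_mul] at ho
  obtain ⟨j, hj⟩ := ho.2
  omega

theorem exists_coord {p f : ℕ} [Fact p.Prime] (hf : f ≠ 0) (hcard : Fintype.card α = p ^ f)
    (h3 : 3 ≤ Fintype.card α) (hmod : Fintype.card α % 4 = 3)
    (h2 : IsPretransitive G (Set.powersetCard α 2)) (hsol : Group.IsSolvable G) {a : α}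
    (N : Subgroup G) [N.Normal] (hcomm : ∀ m n : N, m * n = n * m) (hexp : ∀ n : N, n ^ p = 1)
    (hreg : Function.Bijective fun n : N => (n : G) • a) :
    ∃ e : α ≃ GaloisField p f,
      (∀ g : G, e.symm.trans (((g : Equiv.Perm α)).trans e) ∈
        Cfsg.semiaffineGroup (GaloisField p f)) ∧
      ∀ b : GaloisField p f, ∃ g : G, ∀ x : α, e ((g : Equiv.Perm α) x) = e x + b := by
  classical
  letI : CommGroup N := { (inferInstance : Group N) with mul_comm := hcomm }
  have hz : ∀ v : Additive N, p • v = 0 := fun v => by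
    apply Additive.toMul.injective
    rw [toMul_nsmul, toMul_zero]
    exact hexp v.toMul
  haveI : Module (ZMod p) (Additive N) := AddCommGroup.zmodModule hz
  let P : α ≃ N := (Equiv.ofBijective _ hreg).symm
  have hP : ∀ c : α, ((P c : N) : G) • a = c := fun c =>
    (Equiv.ofBijective _ hreg).apply_symm_apply c
  have hNc : Nat.card N = p ^ f := by
    rw [Nat.card_congr P.symm, Nat.card_eq_fintype_card, hcard]
  haveI : Nontrivial N := Finite.one_lt_card_iff_nontrivial.1 (by rw [hNc, ← hcard]; omega)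
  let C : G → (Additive N ≃ₗ[ZMod p] Additive N) := fun g =>
    { MulEquiv.toAdditive (MulAut.conjNormal g : MulAut N) with
      map_smul' := fun r v => ZMod.map_smul
        (MulEquiv.toAdditive (MulAut.conjNormal g : MulAut N)).toAddMonoidHom r v }
  have hC : ∀ (g : G) (v : Additive N), ((C g v).toMul : G) = g * (v.toMul : G) * g⁻¹ :=
    fun _ _ => rfl
  let ρ : stabilizer G a →* (Additive N ≃ₗ[ZMod p] Additive N) :=
    MonoidHom.mk' (fun g => C g) fun g h => LinearEquiv.ext fun v => by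
      apply Additive.toMul.injective
      refine Subtype.ext ?_
      rw [LinearEquiv.mul_apply, hC, hC, hC]
      push_cast
      group
  -- multiplication by the units of `ℤ`
  let μ : ℤˣ →* (Additive N ≃ₗ[ZMod p] Additive N) :=
    { toFun := fun u => if u = 1 then 1 else LinearEquiv.neg (ZMod p)
      map_one' := if_pos rfl
      map_mul' := fun u v => by
        rcases Int.units_eq_one_or u with rfl | rfl <;> rcases Int.units_eq_one_or v with rfl | rfl
        all_goals (apply LinearEquiv.ext; intro w; simp) }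
  have hμc : ∀ g u, Commute (ρ g) (μ u) := fun g u => by
    apply LinearEquiv.ext
    intro w
    rcases Int.units_eq_one_or u with rfl | rfl <;> simp [μ]
  let ψ0 : stabilizer G a × ℤˣ →* (Additive N ≃ₗ[ZMod p] Additive N) :=
    ρ.noncommCoprod μ hμc
  have hψ : ∀ g u v, ψ0 (g, u) v = ρ g (μ u v) := fun _ _ _ => rfl
  haveI := hsol
  haveI : Group.IsSolvable (stabilizer G a) :=
    Group.isSolvable_of_isSolvable_injective (Subgroup.subtype_injective _)
  haveI : Group.IsSolvable (stabilizer G a × ℤˣ) := inferInstance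
  have hKsol : Group.IsSolvable ψ0.range :=
    Group.isSolvable_of_surjective ψ0.rangeRestrict_surjective
  have hne : ∀ m : N, m ≠ 1 → a ≠ (m : G) • a := fun m hm e =>
    hm (hreg.1 ((one_smul G a).trans e : ((1 : N) : G) • a = _).symm)
  have htrans : ∀ v w : Additive N, v ≠ 0 → w ≠ 0 → ∃ k : ψ0.range, (k : _ ≃ₗ[ZMod p] _) v = w := by
    intro v w hv hw
    obtain ⟨g, hg | hg⟩ := exists_map_pair h2 (hne v.toMul fun e => hv e) (hne w.toMul fun e => hw e)
    · refine ⟨⟨ψ0 (⟨g, hg.1⟩, 1), ⟨_, rfl⟩⟩, ?_⟩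
      show ψ0 (⟨g, hg.1⟩, 1) v = w
      rw [hψ, map_one]
      apply Additive.toMul.injective
      refine hreg.1 ?_
      show ((ρ ⟨g, hg.1⟩ v).toMul : G) • a = (w.toMul : G) • a
      show (g * (v.toMul : G) * g⁻¹) • a = _
      rw [mul_smul, mul_smul, inv_smul_eq_iff.2 hg.1.symm, hg.2]
    · have hh : ((w.toMul : G)⁻¹ * g) • a = a := by
        rw [mul_smul, hg.1, inv_smul_smul]
      refine ⟨⟨ψ0 (⟨_, hh⟩, -1), ⟨_, rfl⟩⟩, ?_⟩
      show ψ0 (⟨_, hh⟩, -1) v = w
      rw [hψ, show μ (-1) v = -v by simp [μ], map_neg, neg_eq_iff_eq_neg]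
      apply Additive.toMul.injective
      refine hreg.1 ?_
      show (((w.toMul : G)⁻¹ * g) * (v.toMul : G) * ((w.toMul : G)⁻¹ * g)⁻¹) • a =
        ((w.toMul⁻¹ : N) : G) • a
      rw [mul_smul, inv_smul_eq_iff.2 hh.symm, mul_smul, mul_smul, hg.2, InvMemClass.coe_inv]
  rcases Cfsg.Agent.S3360.result p hKsol ψ0.range.subtype (Subgroup.subtype_injective _) htrans with
    ⟨F, iF, iFt, e, he⟩ | hexc
  swap
  · exfalso
    rw [show Nat.card (Additive N) = Fintype.card α by
      rw [← Nat.card_eq_fintype_card]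
      exact Nat.card_congr (Additive.toMul.trans P.symm)] at hexc
    simp only [Set.mem_insert_iff, Set.mem_singleton_iff] at hexc
    omega
  haveI : Fintype (GaloisField p f) := Fintype.ofFinite _
  have hFc : Fintype.card F = Fintype.card (GaloisField p f) := by
    rw [← Nat.card_eq_fintype_card, ← Nat.card_eq_fintype_card, GaloisField.card p f hf, ← hNc]
    exact (Nat.card_congr (Additive.ofMul.trans e.toEquiv)).symm
  let ψ : F ≃+* GaloisField p f := FiniteField.ringEquivOfCardEq hFc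
  let E0 : α ≃ GaloisField p f := P.trans (Additive.ofMul.trans (e.toEquiv.trans ψ.toEquiv))
  have hE0 : ∀ n : N, E0 ((n : G) • a) = ψ (e (Additive.ofMul n)) := fun n => by
    show ψ (e (Additive.ofMul (P ((n : G) • a)))) = _
    rw [hreg.1 (hP ((n : G) • a))]
  obtain ⟨v₁, hv₁⟩ := exists_ne (0 : Additive N)
  have hstab : ∀ g : G, g • a = a → ∃ (s : (GaloisField p f)ˣ)
      (τ : GaloisField p f ≃+* GaloisField p f),
      ∀ c, E0 (g • c) = (s : GaloisField p f) * τ (E0 c) := by
    intro g hga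
    obtain ⟨s, σ, hs⟩ := he ⟨ψ0 (⟨g, hga⟩, 1), ⟨_, rfl⟩⟩
    have hs' : ∀ v, e (C g v) = s * σ (e v) := fun v => by
      rw [← hs v]
      show e (C g v) = e (ψ0 (⟨g, hga⟩, 1) v)
      rw [hψ, map_one]
      rfl
    have hs0 : s ≠ 0 := fun h0 => by
      have h1 := hs' v₁
      rw [h0, zero_mul] at h1
      exact hv₁ ((LinearEquiv.map_eq_zero_iff _).1 (e.injective (h1.trans (map_zero e).symm)))
    refine ⟨Units.mk0 (ψ s) ((map_ne_zero ψ).2 hs0), ψ.symm.trans (σ.trans ψ), fun c => ?_⟩
    set n := P c with hn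
    have hm : g * (n : G) * g⁻¹ ∈ N := (inferInstance : N.Normal).conj_mem _ n.2 g
    have hgc : g • c = ((⟨_, hm⟩ : N) : G) • a := by
      rw [← hP c, ← hn]
      show g • (n : G) • a = (g * (n : G) * g⁻¹) • a
      rw [mul_smul, mul_smul, inv_smul_eq_iff.2 hga.symm]
    rw [hgc, hE0]
    conv_rhs => rw [← hP c, ← hn, hE0]
    have hval : e (Additive.ofMul (⟨_, hm⟩ : N)) = s * σ (e (Additive.ofMul n)) := by
      rw [← hs']
      rfl
    rw [hval]
    simp only [RingEquiv.trans_apply, RingEquiv.symm_apply_apply, map_mul, Units.val_mk0]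
  have hadd : ∀ (n : N) (c : α), E0 ((n : G) • c) = E0 c + ψ (e (Additive.ofMul n)) := fun n c => by
    conv_lhs => rw [← hP c, ← mul_smul, ← Subgroup.coe_mul, hE0, hcomm, ofMul_mul, map_add, map_add]
    conv_rhs => rw [← hP c, hE0]
  refine ⟨E0, fun g => ?_, fun b => ?_⟩
  · set n₀ := P (g • a) with hn₀
    have hh : ((n₀ : G)⁻¹ * g) • a = a := by rw [mul_smul, inv_smul_eq_iff, hn₀, hP]
    obtain ⟨s, τ, hτ⟩ := hstab _ hh
    refine ⟨s, ψ (e (Additive.ofMul n₀)), τ, fun z => ?_⟩
    obtain ⟨c, rfl⟩ := E0.surjective z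
    show E0 ((g : Equiv.Perm α) (E0.symm (E0 c))) = _
    rw [E0.symm_apply_apply, ← hτ c, ← hadd, ← mul_smul, mul_inv_cancel_left]
    rfl
  · obtain ⟨v, hv⟩ := (e.toEquiv.trans ψ.toEquiv).surjective b
    refine ⟨(v.toMul : G), fun x => ?_⟩
    rw [← hv]
    exact hadd v.toMul x

/-- Kantor's theorem, given that groups of odd order are solvable. -/
theorem main (hFT : CfsgLib.FTRows.OddSolvable.{u}) (hne : G ≠ ⊥)
    (h2 : IsPretransitive G (Set.powersetCard α 2)) (hn2 : ¬ IsMultiplyPretransitive G α 2) :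
    Odd (Nat.card G) ∧ ∃ (p f : ℕ) (_ : Fact p.Prime), p ≠ 2 ∧ Fintype.card α = p ^ f ∧
      p ^ f % 4 = 3 ∧ ∃ e : α ≃ GaloisField p f,
        (∀ g : G, e.symm.trans (((g : Equiv.Perm α)).trans e) ∈
          Cfsg.semiaffineGroup (GaloisField p f)) ∧
        ∀ b : GaloisField p f, ∃ g : G, ∀ x : α, e ((g : Equiv.Perm α) x) = e x + b := by
  classical
  have hodd := odd_card hne h2 hn2
  refine ⟨hodd, ?_⟩
  have h3 := three_le hne h2 hn2
  haveI hsol : Group.IsSolvable G := hFT G hodd
  haveI := pretransitive h3 h2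
  haveI := preprimitive h3 h2
  haveI : Nontrivial G := (Subgroup.nontrivial_iff_ne_bot G).2 hne
  obtain ⟨N, hN, hN1, -, hcomm, -, p, hp, hexp, hpg⟩ :=
    CfsgLib.Solvable.exists_normal_elementary_le (N := (⊤ : Subgroup G)) top_ne_bot inferInstance
  haveI := hN
  haveI : Fact p.Prime := ⟨hp⟩
  haveI := hcomm
  haveI : Nonempty α := Fintype.card_pos_iff.1 (by omega)
  obtain ⟨a⟩ := ‹Nonempty α›
  have hNt : IsPretransitive N α := by
    refine IsQuasiPreprimitive.isPretransitive_of_normal ?_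
    intro hfix
    obtain ⟨n, hn⟩ := Subgroup.ne_bot_iff_exists_ne_one.1 hN1
    refine hn (Subtype.ext (eq_of_smul_eq_smul fun x : α => ?_))
    have hx : x ∈ fixedPoints N α := by rw [hfix]; trivial
    rw [OneMemClass.coe_one, one_smul]
    exact mem_fixedPoints.1 hx n
  haveI := hNt
  have hreg : Function.Bijective fun n : N => (n : G) • a := by
    refine ⟨fun m n h => ?_, fun x => ?_⟩
    · have hfix : ((n : G)⁻¹ * (m : G)) • a = a := by
        rw [mul_smul, inv_smul_eq_iff]; exact h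
      have := CfsgLib.PermBasic.eq_one_of_commute_of_fix N (a := a) (fun t ht => ?_) hfix
      · exact (Subtype.ext (inv_mul_eq_one.1 this)).symm
      · exact congrArg Subtype.val (mul_comm' (⟨t, ht⟩ : N) (n⁻¹ * m))
    · obtain ⟨n, hn⟩ := exists_smul_eq N a x
      exact ⟨n, hn⟩
  obtain ⟨f, hf⟩ := IsPGroup.iff_card.1 hpg
  have hcard : Fintype.card α = p ^ f := by
    rw [← hf, ← Nat.card_eq_fintype_card, Nat.card_eq_of_bijective _ hreg]
  have hf0 : f ≠ 0 := fun e => by rw [e, pow_zero] at hcard; omega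
  have hNodd : Odd (p ^ f) := hf ▸ hodd.of_dvd_nat (Subgroup.card_subgroup_dvd_card N)
  have hp2 : p ≠ 2 := by
    rintro rfl
    rw [Nat.odd_pow_iff hf0] at hNodd
    exact absurd hNodd (by decide)
  have hmod := choose_two_dvd hodd h3 h2 (hcard ▸ hNodd)
  exact ⟨p, f, ⟨hp⟩, hp2, hcard, hcard ▸ hmod, exists_coord hf0 hcard h3 hmod h2 hsol N
    (fun m n => mul_comm' m n) (fun n => Subtype.ext (hexp n n.2)) hreg⟩

end CfsgLib.FTRows.Kantor
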