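import Cfsg.Agent.FTRows.PiSep
import Cfsg.Agent.Comp.Layer

/-!
If any two cyclic `p`-subgroups of equal order are conjugate, for every prime `p`, there is at most
one component, given that groups of odd order are solvable.
-/

set_option autoImplicit false
set_option linter.style.haveILetI false

namespace CfsgLib.FTRows.LayerConj

open Subgroup CfsgLib.Comp

universe u

variable {G : Type u} [Group G] [Finite G]

theorem even_index_center (hFT : OddSolvable.{u}) {K : Subgroup G} (hK : Cfsg.IsComponent K) :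
    2 ∣ (center K).index := by
  by_contra h
  haveI : Group.IsSolvable (K ⧸ center K) :=
    hFT _ (by rw [← index_eq_card, Nat.odd_iff, ← Nat.two_dvd_ne_zero]; exact h)
  haveI : Group.IsSolvable (center K) := Group.isSolvable_of_comm fun a b => mul_comm' a b
  exact component_not_solvable hK
    (Group.isSolvable_of_ker_le_range (center K).subtype (QuotientGroup.mk' (center K)) (by simp))

/-- A 2-element of smallest order among the noncentral ones of a component. -/
theorem exists_minimal (hFT : OddSolvable.{u}) {K : Subgroup G} (hK : Cfsg.IsComponent K) :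
    ∃ (c : ℕ) (x : G), x ∈ K ∧ x ∉ centralizer (K : Set G) ∧ orderOf x = 2 ^ c ∧
      ∀ y ∈ K, y ∉ centralizer (K : Set G) → ∀ d, orderOf y = 2 ^ d → c ≤ d := by
  classical
  haveI : Fact (Nat.Prime 2) := ⟨Nat.prime_two⟩
  have hex : ∃ c, ∃ x ∈ K, x ∉ centralizer (K : Set G) ∧ orderOf x = 2 ^ c := by
    by_contra hcon
    push Not at hcon
    obtain ⟨P⟩ : Nonempty (Sylow 2 K) := inferInstance
    have hle : (P : Subgroup K) ≤ center K := fun y hy => by
      obtain ⟨d, hd⟩ := IsPGroup.iff_orderOf.1 P.2 ⟨y, hy⟩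
      rw [orderOf_mk] at hd
      have hc : (y : G) ∈ centralizer (K : Set G) := by
        by_contra hc
        exact hcon d y y.2 hc (by rw [Subgroup.orderOf_coe, hd])
      exact mem_center_iff.2 fun z => Subtype.ext (mem_centralizer_iff.1 hc z z.2)
    exact P.not_dvd_index ((even_index_center hFT hK).trans (index_dvd_of_le hle))
  obtain ⟨x, hxK, hxC, hx⟩ := Nat.find_spec hex
  exact ⟨Nat.find hex, x, hxK, hxC, hx, fun y hy hyC d hd => Nat.find_le ⟨y, hy, hyC, hd⟩⟩

theorem le_centralizer_of_ne {K L : Subgroup G} (hK : Cfsg.IsComponent K) (hL : Cfsg.IsComponent L)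
    (h : K ≠ L) : K ≤ centralizer (L : Set G) :=
  le_centralizer_of_commutator_eq_bot ((component_eq_or_commute hK hL).resolve_left h)

/-- A subgroup of one component is not conjugate to one moving two of them. -/
theorem not_conj {K₁ K₂ M : Subgroup G} (h₁ : Cfsg.IsComponent K₁) (h₂ : Cfsg.IsComponent K₂)
    (hM : Cfsg.IsComponent M) (hne : K₁ ≠ K₂) {x w : G} (hx : x ∈ M)
    (hw₁ : w ∉ centralizer (K₁ : Set G)) (hw₂ : w ∉ centralizer (K₂ : Set G)) (g : G) :
    zpowers x ≠ (zpowers w).map (MulAut.conj g).toMonoidHom := by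
  intro heq
  have hy : g * w * g⁻¹ ∈ zpowers x := heq ▸ ⟨w, mem_zpowers w, rfl⟩
  have hyM : g * w * g⁻¹ ∈ M := zpowers_le.2 hx hy
  have key : ∀ K : Subgroup G, Cfsg.IsComponent K → w ∉ centralizer (K : Set G) →
      K.map (MulAut.conj g).toMonoidHom = M := by
    intro K hK hw
    by_contra hKM
    refine hw (mem_centralizer_iff.2 fun k hk => ?_)
    have h := mem_centralizer_iff.1
      (le_centralizer_of_ne hM (component_conj g hK) (Ne.symm hKM) hyM) _
      (mem_map_of_mem (MulAut.conj g).toMonoidHom hk)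
    exact (MulAut.conj g).injective (by simp only [map_mul]; exact h)
  exact hne (map_injective (f := (MulAut.conj g).toMonoidHom) (MulAut.conj g).injective
    ((key K₁ h₁ hw₁).trans (key K₂ h₂ hw₂).symm))

/-- Two different components are impossible. -/
theorem eq_of_component (hFT : OddSolvable.{u})
    (hP : ∀ (p : ℕ), p.Prime → ∀ A B : Subgroup G, IsCyclic ↥A → IsCyclic ↥B → IsPGroup p ↥A →
      Nat.card ↥A = Nat.card ↥B → ∃ g : G, B = A.map (MulAut.conj g).toMonoidHom)
    {K L : Subgroup G} (hK : Cfsg.IsComponent K) (hL : Cfsg.IsComponent L) : K = L := by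
  haveI : Fact (Nat.Prime 2) := ⟨Nat.prime_two⟩
  by_contra hne
  obtain ⟨c, x, hxK, hxC, hx, hxmin⟩ := exists_minimal hFT hK
  obtain ⟨d, y, hyL, hyC, hy, hymin⟩ := exists_minimal hFT hL
  wlog hcd : c ≤ d generalizing K L c d x y
  · exact this hL hK (Ne.symm hne) d y hyL hyC hy hymin c x hxK hxC hx hxmin (by omega)
  have hcomm : Commute x y := mem_centralizer_iff.1 (le_centralizer_of_ne hL hK (Ne.symm hne) hyL) x hxK
  set w := x * y with hw
  have hwK : w ∉ centralizer (K : Set G) := fun h => hxC <| by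
    simpa [hw] using mul_mem h (inv_mem (le_centralizer_of_ne hL hK (Ne.symm hne) hyL))
  have hwL : w ∉ centralizer (L : Set G) := fun h => hyC <| by
    simpa [hw] using mul_mem (inv_mem (le_centralizer_of_ne hK hL hne hxK)) h
  have hwd : w ^ 2 ^ d = 1 := by
    rw [hw, hcomm.mul_pow, ← hy, pow_orderOf_eq_one, mul_one, ← orderOf_dvd_iff_pow_eq_one, hy, hx]
    exact pow_dvd_pow 2 hcd
  obtain ⟨e, hed, he⟩ := (Nat.dvd_prime_pow Nat.prime_two).1 (orderOf_dvd_of_pow_eq_one hwd)
  have hcyc : ∀ z : G, IsCyclic (zpowers z) := fun z => inferInstance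
  have hpz : ∀ (z : G) (j : ℕ), orderOf z = 2 ^ j → IsPGroup 2 (zpowers z) := fun z j hj =>
    IsPGroup.of_card (n := j) (by rw [Nat.card_zpowers, hj])
  rcases Nat.eq_or_lt_of_le hed with rfl | hlt
  · obtain ⟨g, hg⟩ := hP 2 Nat.prime_two _ _ (hcyc w) (hcyc y) (hpz w _ he)
      (by rw [Nat.card_zpowers, Nat.card_zpowers, he, hy])
    exact not_conj hK hL hL hne hyL hwK hwL g hg
  -- `w` is shorter, so `c = d`
  have hec : e < c := by
    by_contra hce
    rw [not_lt] at hce
    have h2 : y ^ 2 ^ e = 1 := by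
      have h1 : w ^ 2 ^ e = 1 := by rw [← he, pow_orderOf_eq_one]
      have h3 : x ^ 2 ^ e = 1 := by
        rw [← orderOf_dvd_iff_pow_eq_one, hx]; exact pow_dvd_pow 2 hce
      rwa [hw, hcomm.mul_pow, h3, one_mul] at h1
    have h4 := orderOf_dvd_of_pow_eq_one h2
    rw [hy, Nat.pow_dvd_pow_iff_le_right one_lt_two] at h4
    omega
  set z := x ^ 2 ^ (c - e) with hz
  have hzo : orderOf z = 2 ^ e := by
    rw [hz, orderOf_pow_of_dvd (pow_ne_zero _ two_ne_zero) (hx ▸ pow_dvd_pow 2 (Nat.sub_le c e)), hx,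
      Nat.pow_div (Nat.sub_le c e) two_pos, show c - (c - e) = e by omega]
  have hzC : ∀ M : Subgroup G, Cfsg.IsComponent M → z ∈ centralizer (M : Set G) := fun M hM => by
    by_cases hMK : M = K
    · subst hMK
      by_contra hc
      have := hxmin z (pow_mem hxK _) hc e hzo
      omega
    · exact le_centralizer_of_ne hK hM (Ne.symm hMK) (pow_mem hxK _)
  obtain ⟨g, hg⟩ := hP 2 Nat.prime_two _ _ (hcyc z) (hcyc w) (hpz z _ hzo)
    (by rw [Nat.card_zpowers, Nat.card_zpowers, he, hzo])
  have hwz : w ∈ (zpowers z).map (MulAut.conj g).toMonoidHom := hg ▸ mem_zpowers w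
  obtain ⟨v, hv, hvw⟩ := hwz
  refine hwK (mem_centralizer_iff.2 fun k hk => ?_)
  obtain ⟨k', hk', rfl⟩ : ∃ k' ∈ K.map (MulAut.conj g⁻¹).toMonoidHom, g * k' * g⁻¹ = k :=
    ⟨g⁻¹ * k * g, ⟨k, hk, by simp⟩, by group⟩
  have hvk : v ∈ centralizer ((K.map (MulAut.conj g⁻¹).toMonoidHom : Subgroup G) : Set G) :=
    zpowers_le.2 (hzC _ (component_conj g⁻¹ hK)) hv
  rw [← hvw]
  show g * k' * g⁻¹ * MulAut.conj g v = MulAut.conj g v * (g * k' * g⁻¹)
  rw [← MulAut.conj_apply g k', ← map_mul, ← map_mul, mem_centralizer_iff.1 hvk k' hk']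

/-- S3915 relative to the odd order theorem. -/
theorem layer_quotient (hFT : OddSolvable.{u})
    (hP : ∀ (p : ℕ), p.Prime → ∀ A B : Subgroup G, IsCyclic ↥A → IsCyclic ↥B → IsPGroup p ↥A →
      Nat.card ↥A = Nat.card ↥B → ∃ g : G, B = A.map (MulAut.conj g).toMonoidHom)
    (hE : Cfsg.layer G ≠ ⊥) :
    IsSimpleGroup (↥(Cfsg.layer G) ⧸ Subgroup.center ↥(Cfsg.layer G)) ∧
      ¬ IsMulCommutative (↥(Cfsg.layer G) ⧸ Subgroup.center ↥(Cfsg.layer G)) := by
  obtain ⟨K, hK⟩ : ∃ K : Subgroup G, Cfsg.IsComponent K := by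
    by_contra h
    push Not at h
    exact hE (le_bot_iff.1 (layer_le fun L hL => absurd hL (h L)))
  have heq : Cfsg.layer G = K := le_antisymm
    (layer_le fun L hL => (eq_of_component hFT hP hL hK).le) (component_le_layer hK)
  have hq : Cfsg.IsQuasisimple (Cfsg.layer G) :=
    isQuasisimple_of_equiv (MulEquiv.subgroupCongr heq.symm) hK.2
  refine ⟨hq.2, fun hab => quasisimple_center_ne_top hq ?_⟩
  haveI := hq.1
  have h : commutator (Cfsg.layer G) ≤ center (Cfsg.layer G) :=
    Subgroup.Normal.quotient_commutative_iff_commutator_le.1 hab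
  rwa [Group.IsPerfect.commutator_eq_top, top_le_iff] at h

end CfsgLib.FTRows.LayerConj
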