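import Cfsg.Agent.Solvable.Glauberman
import Cfsg.Prelude

/-!
Sylow theory for sets of primes in π-separable groups and the extension closure of `C_π`,
both relative to a hypothesis stating that groups of odd order are solvable.
-/

set_option autoImplicit false

universe u v

namespace CfsgLib.FTRows

open Subgroup Pointwise

/-- Every finite group of odd order in the given universe is solvable. -/
def OddSolvable : Prop :=
  ∀ (G : Type u) [Group G] [Finite G], Odd (Nat.card G) → Group.IsSolvable G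

theorem solvable_or_of_coprime (hu : OddSolvable.{u}) (hv : OddSolvable.{v}) {A : Type u}
    {B : Type v} [Group A] [Finite A] [Group B] [Finite B]
    (h : (Nat.card A).Coprime (Nat.card B)) : Group.IsSolvable A ∨ Group.IsSolvable B := by
  rcases Nat.even_or_odd (Nat.card A) with hA | hA
  · rcases Nat.even_or_odd (Nat.card B) with hB | hB
    · have := Nat.dvd_gcd hA.two_dvd hB.two_dvd
      rw [h] at this
      omega
    · exact Or.inr (hv B hB)
  · exact Or.inl (hu A hA)

/-- There is a Hall π-subgroup into which every π-subgroup can be conjugated. -/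
def PiDom (π : Set ℕ) (G : Type u) [Group G] : Prop :=
  ∃ K : Subgroup G, Cfsg.IsPiHall π K ∧
    ∀ U : Subgroup G, Cfsg.IsPiSubgroup π U → ∃ g : G, MulAut.conj g • U ≤ K

variable {G : Type u} [Group G] [Finite G] {π : Set ℕ}

theorem hall_card_dvd {K U : Subgroup G} (hK : Cfsg.IsPiHall π K)
    (hU : Cfsg.IsPiSubgroup π U) : Nat.card U ∣ Nat.card K := by
  have hc : (Nat.card U).Coprime K.index := Nat.coprime_of_dvd fun p hp h1 h2 =>
    hK.2 p hp (hU p hp h1) h2
  exact hc.dvd_of_dvd_mul_right (by rw [card_mul_index]; exact card_subgroup_dvd_card U)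

theorem hall_card_eq {K L : Subgroup G} (hK : Cfsg.IsPiHall π K) (hL : Cfsg.IsPiHall π L) :
    Nat.card K = Nat.card L :=
  Nat.dvd_antisymm (hall_card_dvd hL hK.1) (hall_card_dvd hK hL.1)

theorem card_conj_smul (g : G) (U : Subgroup G) : Nat.card ↥(MulAut.conj g • U) = Nat.card U :=
  (Nat.card_congr (Subgroup.equivSMul (MulAut.conj g) U).toEquiv).symm

theorem isPiHall_conj {K : Subgroup G} (hK : Cfsg.IsPiHall π K) (g : G) :
    Cfsg.IsPiHall π (MulAut.conj g • K) := by
  have hc := card_conj_smul g K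
  refine ⟨fun p hp h => hK.1 p hp (hc ▸ h), fun p hp hπ h => hK.2 p hp hπ ?_⟩
  have h1 := (MulAut.conj g • K).card_mul_index
  rw [hc, ← K.card_mul_index] at h1
  rwa [Nat.eq_of_mul_eq_mul_left Nat.card_pos h1] at h

theorem PiDom.conj (h : PiDom π G) {K L : Subgroup G} (hK : Cfsg.IsPiHall π K)
    (hL : Cfsg.IsPiHall π L) : ∃ g : G, L = MulAut.conj g • K := by
  obtain ⟨M, hM, hd⟩ := h
  obtain ⟨a, ha⟩ := hd K hK.1
  obtain ⟨b, hb⟩ := hd L hL.1
  have ha' := CfsgLib.Solvable.eq_of_le_of_card_le ha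
    (by rw [card_conj_smul, hall_card_eq hM hK])
  have hb' := CfsgLib.Solvable.eq_of_le_of_card_le hb
    (by rw [card_conj_smul, hall_card_eq hM hL])
  refine ⟨b⁻¹ * a, ?_⟩
  rw [map_mul, mul_smul, ha', ← hb', ← mul_smul, ← map_mul]
  simp

theorem PiDom.exists_ge (h : PiDom π G) {U : Subgroup G} (hU : Cfsg.IsPiSubgroup π U) :
    ∃ K : Subgroup G, Cfsg.IsPiHall π K ∧ U ≤ K := by
  obtain ⟨M, hM, hd⟩ := h
  obtain ⟨g, hg⟩ := hd U hU
  exact ⟨MulAut.conj g⁻¹ • M, isPiHall_conj hM _, by
    rw [map_inv]; exact Subgroup.pointwise_smul_subset_iff.1 hg⟩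

theorem piDom_self (h : ∀ p : ℕ, p.Prime → p ∣ Nat.card G → p ∈ π) : PiDom π G := by
  refine ⟨⊤, ⟨fun p hp hd => h p hp (by simpa using hd), fun p hp _ hd => hp.ne_one ?_⟩,
    fun U _ => ⟨1, le_top⟩⟩
  simpa using hd

/-- Pull `PiDom` back along a surjection with π- or π′-kernel. -/
theorem piDom_of_surjective (hFT : OddSolvable.{u}) {Q : Type v} [Group Q] (f : G →* Q)
    (hf : Function.Surjective f)
    (hk : (∀ p : ℕ, p.Prime → p ∣ Nat.card f.ker → p ∈ π) ∨
      (∀ p : ℕ, p.Prime → p ∣ Nat.card f.ker → p ∉ π))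
    (h : PiDom π Q) : PiDom π G := by
  haveI : Finite Q := Finite.of_surjective f hf
  obtain ⟨K, hK, hd⟩ := h
  have hidx : (K.comap f).index = K.index := K.index_comap_of_surjective hf
  have hcard : Nat.card ↥(K.comap f) = Nat.card f.ker * Nat.card K := by
    have h1 := (K.comap f).card_mul_index
    have h2 := f.ker.card_mul_index
    rw [Subgroup.index_ker, MonoidHom.range_eq_top.2 hf, card_top, ← K.card_mul_index] at h2
    rw [hidx, ← h2, ← mul_assoc] at h1
    exact Nat.eq_of_mul_eq_mul_right (Nat.pos_of_ne_zero Subgroup.index_ne_zero_of_finite) h1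
  have hlift : ∀ U : Subgroup G, Cfsg.IsPiSubgroup π U →
      ∃ g : G, MulAut.conj g • U ≤ K.comap f := by
    intro U hU
    obtain ⟨q, hq⟩ := hd (U.map f) fun p hp h' => hU p hp (h'.trans (U.card_map_dvd f))
    obtain ⟨g, rfl⟩ := hf q
    refine ⟨g, fun x hx => hq ?_⟩
    obtain ⟨y, hy, rfl⟩ := hx
    exact ⟨f y, mem_map_of_mem f hy, by simp⟩
  rcases hk with hk | hk
  · refine ⟨K.comap f, ⟨fun p hp h' => ?_, fun p hp hπ => hidx ▸ hK.2 p hp hπ⟩, hlift⟩
    rw [hcard] at h'
    exact (hp.dvd_mul.1 h').elim (hk p hp) (hK.1 p hp)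
  · set M := K.comap f with hM
    have hkerM : f.ker ≤ M := fun x hx => mem_comap.2 (by simp [MonoidHom.mem_ker.1 hx])
    have hcop : (Nat.card f.ker).Coprime (Nat.card K) :=
      Nat.coprime_of_dvd fun p hp h1 h2 => hk p hp h1 (hK.1 p hp h2)
    have hN : Nat.card (f.ker.subgroupOf M) = Nat.card f.ker :=
      Nat.card_congr (subgroupOfEquivOfLe hkerM).toEquiv
    have hNi : (f.ker.subgroupOf M).index = Nat.card K := by
      have h1 := (f.ker.subgroupOf M).card_mul_index
      rw [hN, hcard] at h1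
      exact Nat.eq_of_mul_eq_mul_left Nat.card_pos h1
    obtain ⟨C', hC'⟩ := Subgroup.exists_right_complement'_of_coprime
      (N := f.ker.subgroupOf M) (by rw [hN, hNi]; exact hcop)
    set C := C'.map M.subtype with hC
    have hCM : C ≤ M := map_subtype_le C'
    have hcardC : Nat.card C = Nat.card K := by
      rw [hC, card_map_of_injective M.subtype_injective, ← hC'.symm.index_eq_card, hNi]
    have hsup : C ⊔ f.ker = M := by
      have h1 := congr_arg (Subgroup.map M.subtype) hC'.sup_eq_top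
      rw [Subgroup.map_sup, ← MonoidHom.range_eq_map, M.range_subtype,
        map_subgroupOf_eq_of_le hkerM, sup_comm] at h1
      exact h1
    have hCn : C ≤ normalizer (f.ker : Set G) := by
      rw [Subgroup.normalizer_eq_top]; exact le_top
    have hcC : (Nat.card C).Coprime (Nat.card f.ker) := hcardC ▸ hcop.symm
    have hCi : C.index = Nat.card f.ker * K.index := by
      have h1 := C.card_mul_index
      rw [hcardC, ← M.card_mul_index, hcard, hidx, mul_comm (Nat.card f.ker), mul_assoc] at h1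
      exact Nat.eq_of_mul_eq_mul_left Nat.card_pos h1
    refine ⟨C, ⟨fun p hp h' => hK.1 p hp (hcardC ▸ h'), fun p hp hπ h' => ?_⟩, fun U hU => ?_⟩
    · rw [hCi] at h'
      exact (hp.dvd_mul.1 h').elim (fun h1 => hk p hp h1 hπ) (hK.2 p hp hπ)
    · obtain ⟨g, hg⟩ := hlift U hU
      obtain ⟨k, -, hk'⟩ := CfsgLib.SZ.conj_le hCn hcC (solvable_or_of_coprime hFT hFT hcC)
        (hg.trans hsup.ge) (Nat.coprime_of_dvd fun p hp h1 h2 =>
          hk p hp h2 (hU p hp (card_conj_smul g U ▸ h1)))
      exact ⟨k * g, by rwa [map_mul, mul_smul]⟩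

theorem piDom_of_normal (hFT : OddSolvable.{u}) (N : Subgroup G) [N.Normal]
    (hk : (∀ p : ℕ, p.Prime → p ∣ Nat.card N → p ∈ π) ∨
      (∀ p : ℕ, p.Prime → p ∣ Nat.card N → p ∉ π))
    (h : PiDom π (G ⧸ N)) : PiDom π G :=
  piDom_of_surjective hFT (QuotientGroup.mk' N) (QuotientGroup.mk'_surjective N)
    (by rwa [QuotientGroup.ker_mk']) h

theorem piDom_of_series (hFT : OddSolvable.{u}) (n : ℕ) (H : Fin (n + 1) → Subgroup G)
    (h0 : H 0 = ⊥) (hlast : H (Fin.last n) = ⊤) (hmono : Monotone H) (hn : ∀ i, (H i).Normal)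
    (hsec : ∀ i : Fin n, (∀ q : ℕ, q.Prime → q ∣ (H i.castSucc).relIndex (H i.succ) → q ∈ π) ∨
      (∀ q : ℕ, q.Prime → q ∣ (H i.castSucc).relIndex (H i.succ) → q ∉ π)) : PiDom π G := by
  have key : ∀ i : Fin (n + 1), haveI := hn i; PiDom π (G ⧸ H i) := by
    intro i
    induction i using Fin.reverseInduction with
    | last =>
      haveI := hn (Fin.last n)
      refine piDom_self fun p hp hd => absurd ?_ hp.ne_one
      rwa [← Subgroup.index_eq_card, hlast, index_top, Nat.dvd_one] at hd
    | cast i ih =>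
      haveI := hn i.castSucc
      haveI := hn i.succ
      have hle0 : H i.castSucc ≤ H i.succ := hmono (Fin.castSucc_le_succ i)
      have hle : H i.castSucc ≤ (H i.succ).comap (MonoidHom.id G) := by simpa using hle0
      refine piDom_of_surjective hFT
        (QuotientGroup.map (H i.castSucc) (H i.succ) (MonoidHom.id G) hle)
        (fun x => Quotient.inductionOn' x fun g => ⟨(g : G ⧸ H i.castSucc), rfl⟩) ?_ ih
      have hker : Nat.card (QuotientGroup.map (H i.castSucc) (H i.succ) (MonoidHom.id G) hle).ker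
          = (H i.castSucc).relIndex (H i.succ) := by
        rw [QuotientGroup.ker_map, Subgroup.comap_id, ← relIndex_bot_left,
          ← (Subgroup.map_eq_bot_iff (H i.castSucc)).2 (QuotientGroup.ker_mk' _).ge,
          relIndex_map_map, QuotientGroup.ker_mk', sup_idem, sup_eq_left.2 hle0]
      simpa only [hker] using hsec i
  haveI := hn 0
  exact piDom_of_normal hFT (H 0)
    (Or.inl fun p hp hd => absurd (by rw [h0, card_bot, Nat.dvd_one] at hd; exact hd) hp.ne_one)
    (key 0)

/-- If `M/A` is a π-group and `H` a Hall π-subgroup of `A`, the normalizer of `H` in `M`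
satisfies the full Sylow theory for π. -/
theorem piDom_normalizer (hFT : OddSolvable.{u}) (A M : Subgroup G) [A.Normal] (hAM : A ≤ M)
    (hMA : ∀ p : ℕ, p.Prime → p ∣ A.relIndex M → p ∈ π) {H : Subgroup G} (hHA : H ≤ A)
    (hH : ∀ p : ℕ, p.Prime → p ∣ Nat.card H → p ∈ π)
    (hHi : ∀ p : ℕ, p.Prime → p ∈ π → ¬ p ∣ H.relIndex A) :
    PiDom π ↥(M ⊓ normalizer (H : Set G)) := by
  set N := M ⊓ normalizer (H : Set G) with hN
  have hHN : H ≤ N := le_inf (hHA.trans hAM) le_normalizer
  haveI : (H.subgroupOf N).Normal :=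
    (normal_subgroupOf_iff_le_normalizer hHN).2 inf_le_right
  refine piDom_of_normal hFT (H.subgroupOf N) (Or.inl fun p hp hd => hH p hp
    (by rwa [Nat.card_congr (subgroupOfEquivOfLe hHN).toEquiv] at hd)) ?_
  have hle : H.subgroupOf N ≤ ((QuotientGroup.mk' A).comp N.subtype).ker := fun x hx => by
    rw [MonoidHom.mem_ker]
    exact (QuotientGroup.eq_one_iff _).2 (hHA hx)
  set g := QuotientGroup.lift (H.subgroupOf N) _ hle with hg
  refine piDom_of_surjective hFT g.rangeRestrict g.rangeRestrict_surjective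
    (Or.inr fun p hp hd hπ => hHi p hp hπ ?_) (piDom_self fun p hp hd => hMA p hp ?_)
  · rw [MonoidHom.ker_rangeRestrict, hg, QuotientGroup.ker_lift] at hd
    have h1 : Nat.card ↥((((QuotientGroup.mk' A).comp N.subtype).ker).map
        (QuotientGroup.mk' (H.subgroupOf N))) = H.relIndex (A ⊓ N) := by
      rw [← MonoidHom.comap_ker, QuotientGroup.ker_mk', ← relIndex_bot_left,
        ← (Subgroup.map_eq_bot_iff (H.subgroupOf N)).2 (QuotientGroup.ker_mk' _).ge,
        relIndex_map_map, QuotientGroup.ker_mk', sup_idem,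
        sup_eq_left.2 (fun x hx => hHA hx : H.subgroupOf N ≤ A.subgroupOf N)]
      show (H.subgroupOf N).relIndex (A.subgroupOf N) = _
      rw [← inf_subgroupOf_right A N, relIndex_subgroupOf inf_le_right]
    rw [h1] at hd
    rw [← relIndex_mul_relIndex H (A ⊓ N) A (le_inf hHA hHN) inf_le_left]
    exact hd.mul_right _
  · refine hd.trans ?_
    have h1 : g.range ≤ M.map (QuotientGroup.mk' A) := by
      rintro _ ⟨x, rfl⟩
      obtain ⟨y, rfl⟩ := QuotientGroup.mk_surjective x
      exact ⟨y, y.2.1, rfl⟩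
    refine (card_dvd_of_le h1).trans (dvd_of_eq ?_)
    rw [← relIndex_bot_left, ← (Subgroup.map_eq_bot_iff A).2 (QuotientGroup.ker_mk' A).ge,
      relIndex_map_map, QuotientGroup.ker_mk', sup_idem, sup_eq_left.2 hAM]

theorem isPiHall_map_subtype {A : Subgroup G} {H : Subgroup A} (hH : Cfsg.IsPiHall π H) :
    (∀ p : ℕ, p.Prime → p ∣ Nat.card ↥(H.map A.subtype) → p ∈ π) ∧
      ∀ p : ℕ, p.Prime → p ∈ π → ¬ p ∣ (H.map A.subtype).relIndex A := by
  refine ⟨fun p hp hd => hH.1 p hp (by rwa [card_map_of_injective A.subtype_injective] at hd),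
    fun p hp hπ hd => hH.2 p hp hπ ?_⟩
  rwa [relIndex, subgroupOf, comap_map_eq_self_of_injective A.subtype_injective] at hd

/-- The Hall π-subgroups of a normal subgroup cut out by a Hall π-subgroup. -/
theorem isPiHall_inf (A : Subgroup G) [A.Normal] {K : Subgroup G} (hK : Cfsg.IsPiHall π K) :
    Cfsg.IsPiHall π (K.subgroupOf A) := by
  refine ⟨fun p hp hd => hK.1 p hp (hd.trans ?_), fun p hp hπ hd => hK.2 p hp hπ (hd.trans ?_)⟩
  · rw [← inf_subgroupOf_right, Nat.card_congr (subgroupOfEquivOfLe inf_le_right).toEquiv]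
    exact card_dvd_of_le inf_le_left
  · have h1 := CfsgLib.Solvable.card_sup_mul_card_inf (A := K) (K := A)
      (by rw [Subgroup.normalizer_eq_top]; exact le_top)
    have h2 := (K.subgroupOf A).card_mul_index
    rw [← inf_subgroupOf_right, Nat.card_congr (subgroupOfEquivOfLe inf_le_right).toEquiv,
      inf_subgroupOf_right] at h2
    have h3 : Nat.card ↥(K ⊔ A) = Nat.card K * K.relIndex A := by
      refine Nat.eq_of_mul_eq_mul_right (Nat.card_pos (α := ↥(K ⊓ A))) ?_
      rw [h1, ← h2, relIndex]; ring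
    have h4 := card_subgroup_dvd_card (K ⊔ A)
    rw [h3, ← K.card_mul_index] at h4
    exact Nat.dvd_of_mul_dvd_mul_left Nat.card_pos h4

theorem map_subgroupOf_subtype (A K : Subgroup G) :
    (K.subgroupOf A).map A.subtype = K ⊓ A := by
  rw [subgroupOf, map_comap_eq, A.range_subtype, inf_comm]

/-- `C_π` is closed under extensions. -/
theorem cPi_extension (hFT : OddSolvable.{u}) (A : Subgroup G) [A.Normal]
    (hA : Cfsg.IsCPiGroup π ↥A) (hQ : Cfsg.IsCPiGroup π (G ⧸ A)) : Cfsg.IsCPiGroup π G := by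
  obtain ⟨⟨H₀, hH₀⟩, hconjA⟩ := hA
  obtain ⟨⟨Kbar, hKbar⟩, hconjQ⟩ := hQ
  constructor
  · set M := Kbar.comap (QuotientGroup.mk' A) with hM
    have hAM : A ≤ M := fun x hx => by
      show QuotientGroup.mk' A x ∈ Kbar
      rw [(QuotientGroup.eq_one_iff x).2 hx |> (fun h => show QuotientGroup.mk' A x = 1 from h)]
      exact one_mem _
    have hMidx : M.index = Kbar.index :=
      Kbar.index_comap_of_surjective (QuotientGroup.mk'_surjective A)
    have hMA : A.relIndex M = Nat.card Kbar := by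
      have h1 := relIndex_mul_index hAM
      rw [hMidx, ← Subgroup.index_eq_card A |>.symm, ← Kbar.card_mul_index] at h1
      exact Nat.eq_of_mul_eq_mul_right (Nat.pos_of_ne_zero Subgroup.index_ne_zero_of_finite) h1
    obtain ⟨hH, hHi⟩ := isPiHall_map_subtype hH₀
    set H := H₀.map A.subtype with hHdef
    have hHA : H ≤ A := map_subtype_le H₀
    set N := M ⊓ normalizer (H : Set G) with hN
    obtain ⟨K₀, hK₀, -⟩ := piDom_normalizer hFT A M hAM (fun p hp hd => hKbar.1 p hp (hMA ▸ hd))
      hHA hH hHi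
    have hfr : ∀ m ∈ M, ∃ a ∈ A, ∃ n ∈ N, m = a * n := by
      intro m hm
      have h1 : MulAut.conj m • H ≤ A := by
        intro x hx
        obtain ⟨y, hy, rfl⟩ := hx
        simpa using ‹A.Normal›.conj_mem y (hHA hy) m
      have h2 : Cfsg.IsPiHall π ((MulAut.conj m • H).subgroupOf A) := by
        have hc : Nat.card ↥((MulAut.conj m • H).subgroupOf A) = Nat.card H₀ := by
          rw [Nat.card_congr (subgroupOfEquivOfLe h1).toEquiv, card_conj_smul, hHdef,
            card_map_of_injective A.subtype_injective]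
        refine ⟨fun p hp hd => hH₀.1 p hp (hc ▸ hd), fun p hp hπ hd => hH₀.2 p hp hπ ?_⟩
        have h3 := ((MulAut.conj m • H).subgroupOf A).card_mul_index
        rw [hc, ← H₀.card_mul_index] at h3
        rwa [Nat.eq_of_mul_eq_mul_left Nat.card_pos h3] at hd
      obtain ⟨a, ha⟩ := hconjA _ _ hH₀ h2
      have ha' : MulAut.conj m • H = MulAut.conj (a : G) • H := by
        have h4 := congr_arg (Subgroup.map A.subtype) ha
        rw [map_subgroupOf_eq_of_le h1, map_map] at h4
        rw [h4, hHdef]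
        show _ = (H₀.map A.subtype).map (MulAut.conj (a : G)).toMonoidHom
        rw [map_map]
        rfl
      refine ⟨a, a.2, (a : G)⁻¹ * m, ⟨M.mul_mem (M.inv_mem (hAM a.2)) hm, ?_⟩, by group⟩
      apply CfsgLib.SZ.conj_smul_eq_iff_mem_normalizer.1
      rw [map_mul, mul_smul, ha', ← mul_smul, ← map_mul, inv_mul_cancel, map_one, one_smul]
    have hsup : N ⊔ A = M := by
      refine le_antisymm (sup_le inf_le_left hAM) fun m hm => ?_
      obtain ⟨a, ha, x, hx, rfl⟩ := hfr m hm
      exact mul_mem (mem_sup_right ha) (mem_sup_left hx)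
    have hNM : N.relIndex M = N.relIndex A := by
      have h1 := CfsgLib.Solvable.card_sup_mul_card_inf (A := N) (K := A)
        (by rw [Subgroup.normalizer_eq_top]; exact le_top)
      rw [hsup] at h1
      have h2 := (N.subgroupOf A).card_mul_index
      rw [← inf_subgroupOf_right, Nat.card_congr (subgroupOfEquivOfLe inf_le_right).toEquiv,
        inf_subgroupOf_right] at h2
      have h3 := (N.subgroupOf M).card_mul_index
      rw [Nat.card_congr (subgroupOfEquivOfLe (inf_le_left : N ≤ M)).toEquiv] at h3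
      have h4 : Nat.card ↥N * N.relIndex M * Nat.card ↥(N ⊓ A)
          = Nat.card ↥N * N.relIndex A * Nat.card ↥(N ⊓ A) := by
        rw [relIndex, h3, h1, ← h2, relIndex]; ring
      exact Nat.eq_of_mul_eq_mul_left Nat.card_pos
        (Nat.eq_of_mul_eq_mul_right Nat.card_pos h4)
    refine ⟨K₀.map N.subtype, fun p hp hd => hK₀.1 p hp
      (by rwa [card_map_of_injective N.subtype_injective] at hd), fun p hp hπ hd => ?_⟩
    rw [index_map, N.ker_subtype, sup_bot_eq, N.range_subtype] at hd
    rcases hp.dvd_mul.1 hd with hd | hd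
    · exact hK₀.2 p hp hπ hd
    rw [← relIndex_mul_index (inf_le_left : N ≤ M), hMidx, hNM] at hd
    rcases hp.dvd_mul.1 hd with hd | hd
    · exact hHi p hp hπ (hd.trans (relIndex_dvd_of_le_left A (le_inf (hHA.trans hAM) le_normalizer)))
    · exact hKbar.2 p hp hπ hd
  · intro K L hK hL
    have hsurj := QuotientGroup.mk'_surjective A
    have himg : ∀ X : Subgroup G, Cfsg.IsPiHall π X →
        Cfsg.IsPiHall π (X.map (QuotientGroup.mk' A)) := fun X hX =>
      ⟨fun p hp hd => hX.1 p hp (hd.trans (X.card_map_dvd _)),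
        fun p hp hπ hd => hX.2 p hp hπ (hd.trans (X.index_map_dvd hsurj))⟩
    obtain ⟨q, hq⟩ := hconjQ _ _ (himg K hK) (himg L hL)
    obtain ⟨g, rfl⟩ := hsurj q
    set M := L ⊔ A with hM
    have hK1 : MulAut.conj g • K ≤ M := by
      rintro _ ⟨y, hy, rfl⟩
      have h1 : QuotientGroup.mk' A (g * y * g⁻¹) ∈ L.map (QuotientGroup.mk' A) := by
        rw [hq]
        exact ⟨QuotientGroup.mk' A y, mem_map_of_mem _ hy, by simp⟩
      obtain ⟨l, hl, hle⟩ := h1
      have h2 : l⁻¹ * (g * y * g⁻¹) ∈ A := by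
        rw [← QuotientGroup.eq_one_iff]
        simpa [QuotientGroup.mk'_apply] using (inv_mul_eq_one.2 hle)
      have h3 := mul_mem (mem_sup_left (T := A) hl) (mem_sup_right h2)
      simpa [mul_assoc] using h3
    obtain ⟨a, ha⟩ := hconjA _ _ (isPiHall_inf A (isPiHall_conj hK g)) (isPiHall_inf A hL)
    have hA1 : ∀ x : G, MulAut.conj x • A = A := fun x =>
      CfsgLib.SZ.conj_smul_eq_iff_mem_normalizer.2
        (by rw [Subgroup.normalizer_eq_top]; exact mem_top x)
    set K₂ := MulAut.conj (a : G) • (MulAut.conj g • K) with hK₂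
    have hcap : K₂ ⊓ A = L ⊓ A := by
      have h4 := congr_arg (Subgroup.map A.subtype) ha
      rw [map_subgroupOf_subtype, map_map] at h4
      have h5 : MulAut.conj (a : G) • ((MulAut.conj g • K) ⊓ A) = L ⊓ A := by
        rw [h4, ← map_subgroupOf_subtype A (MulAut.conj g • K)]
        show (((MulAut.conj g • K).subgroupOf A).map A.subtype).map
          (MulAut.conj (a : G)).toMonoidHom = _
        rw [map_map]
        rfl
      rw [← h5, Subgroup.smul_inf, hA1, hK₂]
    have hnorm : ∀ X : Subgroup G, X ≤ normalizer ((X ⊓ A : Subgroup G) : Set G) := fun X x hx =>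
      CfsgLib.SZ.conj_smul_eq_iff_mem_normalizer.1
        (by rw [Subgroup.smul_inf, CfsgLib.SZ.conj_smul_self_of_mem hx, hA1])
    set N := M ⊓ normalizer ((L ⊓ A : Subgroup G) : Set G) with hN
    have hLN : L ≤ N := le_inf le_sup_left (hnorm L)
    have hKN : K₂ ≤ N := by
      refine le_inf ?_ (hcap ▸ hnorm K₂)
      rintro _ ⟨y, hy, rfl⟩
      have h6 : (a : G) ∈ M := mem_sup_right a.2
      simpa using mul_mem (mul_mem h6 (hK1 hy)) (inv_mem h6)
    have hres : ∀ X : Subgroup G, X ≤ N → Cfsg.IsPiHall π X → Cfsg.IsPiHall π (X.subgroupOf N) :=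
      fun X hX hH => ⟨fun p hp hd => hH.1 p hp
          (by rwa [Nat.card_congr (subgroupOfEquivOfLe hX).toEquiv] at hd),
        fun p hp hπ hd => hH.2 p hp hπ (hd.trans ⟨_, (relIndex_mul_index hX).symm⟩)⟩
    have hLA := isPiHall_inf A hL
    have hdom : PiDom π ↥N := piDom_normalizer hFT A M le_sup_right (fun p hp hd => by
        refine hL.1 p hp (hd.trans ⟨Nat.card ↥(L ⊓ A), ?_⟩)
        have h1 := CfsgLib.Solvable.card_sup_mul_card_inf (A := L) (K := A)
          (by rw [Subgroup.normalizer_eq_top]; exact le_top)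
        have h2 := (A.subgroupOf M).card_mul_index
        rw [Nat.card_congr (subgroupOfEquivOfLe (le_sup_right : A ≤ M)).toEquiv] at h2
        refine Nat.eq_of_mul_eq_mul_left (Nat.card_pos (α := A)) ?_
        rw [← mul_assoc, relIndex, h2, h1, mul_comm])
      inf_le_right
      (fun p hp hd => hLA.1 p hp (by
        rwa [← inf_subgroupOf_right, Nat.card_congr (subgroupOfEquivOfLe inf_le_right).toEquiv]))
      (fun p hp hπ hd => hLA.2 p hp hπ (by rwa [inf_relIndex_right] at hd))
    obtain ⟨n, hn⟩ := hdom.conj (hres _ hKN (by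
      exact isPiHall_conj (isPiHall_conj hK g) _)) (hres _ hLN hL)
    refine ⟨(n : G) * a * g, ?_⟩
    have h7 := congr_arg (Subgroup.map N.subtype) hn
    rw [map_subgroupOf_eq_of_le hLN] at h7
    show L = MulAut.conj ((n : G) * a * g) • K
    rw [map_mul, map_mul, mul_smul, mul_smul, ← hK₂, h7]
    conv_rhs => rw [← map_subgroupOf_eq_of_le hKN]
    show ((K₂.subgroupOf N).map (MulAut.conj n).toMonoidHom).map N.subtype = _
    show _ = ((K₂.subgroupOf N).map N.subtype).map (MulAut.conj (n : G)).toMonoidHom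
    rw [map_map, map_map]
    rfl

end CfsgLib.FTRows
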