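import Cfsg.Agent.OddBase.Main
import Cfsg.Agent.FTRows.PiSep

/-!
Two vectors with trivial common stabiliser in a completely reducible module for a group of odd
order (S4375), relative to the solvability of groups of odd order.
-/

set_option autoImplicit false
set_option linter.style.haveILetI false

universe u v

namespace CfsgLib.FTRows

open CfsgLib.OddBase

/-- S4375 relative to the odd order theorem. -/
theorem odd_order_base_two (hFT : OddSolvable.{u}) {A : Type u} {V : Type v} [Group A] [Finite A]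
    [AddCommGroup V] [Finite V] [DistribMulAction A V] [FaithfulSMul A V] (hA : Odd (Nat.card A))
    (hcr : (∀ U : AddSubgroup V, (∀ a : A, ∀ v ∈ U, a • v ∈ U) → ∃ W : AddSubgroup V,
      (∀ a : A, ∀ w ∈ W, a • w ∈ W) ∧ U ⊓ W = ⊥ ∧ U ⊔ W = ⊤)) :
    ∃ v w : V, ∀ a : A, a • v = v → a • w = w → a = 1 := by
  have : Group.IsSolvable A := hFT A hA
  let ρ : A →* Aut V := (DistribMulAction.toAddMonoidEnd A V).toHomUnits
  have hρ : ∀ (a : A) (v : V), ρ a • v = a • v := fun a v => rfl
  have hinj : Function.Injective ρ := fun a b h => eq_of_smul_eq_smul fun v => by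
    rw [← hρ, ← hρ, h]
  have hodd : Odd (Nat.card ρ.range) :=
    hA.of_dvd_nat (Subgroup.card_range_dvd ρ)
  obtain ⟨v, w, h⟩ := exists_pair ρ.range (Group.isSolvable_of_surjective ρ.rangeRestrict_surjective) hodd
    (fun U hU => by
      obtain ⟨W, hW, h1, h2⟩ := hcr U fun a v hv => hρ a v ▸ hU _ ⟨a, rfl⟩ v hv
      refine ⟨W, ?_, h1, h2⟩
      rintro _ ⟨a, rfl⟩ w hw
      exact (hρ a w).symm ▸ hW a w hw)
  exact ⟨v, w, fun a ha hb => hinj (((h _ ⟨a, rfl⟩ ((hρ a v).trans ha) ((hρ a w).trans hb))).trans (map_one ρ).symm)⟩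

end CfsgLib.FTRows
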