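import Cfsg.Agent.FTRows.AutSylowTwo
import Cfsg.Prelude.Def_KGroupFacts

/-!
The outer automorphism group of a simple group of even order is solvable when the image in `Aut S`
of the automorphisms normalising a Sylow 2-subgroup `S` is; relative to the solvability of groups of
odd order.
-/

set_option autoImplicit false
set_option linter.unusedSectionVars false
set_option linter.style.haveILetI false

universe u

namespace CfsgLib.FTRows.OutSylow

open Subgroup Pointwise

variable {G : Type u} [Group G] [Finite G]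

/-- Automorphisms stabilising `S`. -/
def stab (S : Subgroup G) : Subgroup (MulAut G) where
  carrier := {φ | ∀ x : G, φ x ∈ S ↔ x ∈ S}
  one_mem' := fun x => Iff.rfl
  mul_mem' := fun {a b} ha hb x => (ha (b x)).trans (hb x)
  inv_mem' := fun {a} ha x => by
    rw [← ha (a⁻¹ x), MulAut.apply_inv_self]

/-- Restriction to `S`. -/
def res (S : Subgroup G) : stab S →* MulAut S where
  toFun φ :=
    { toFun := fun x => ⟨(φ : MulAut G) x, (φ.2 x).2 x.2⟩
      invFun := fun x => ⟨(φ : MulAut G)⁻¹ x, (φ⁻¹).2 x |>.2 x.2⟩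
      left_inv := fun x => Subtype.ext (MulAut.inv_apply_self G _ _)
      right_inv := fun x => Subtype.ext (MulAut.apply_inv_self G _ _)
      map_mul' := fun x y => Subtype.ext (map_mul (φ : MulAut G) _ _) }
  map_one' := MulEquiv.ext fun x => rfl
  map_mul' φ ψ := MulEquiv.ext fun x => rfl

theorem res_apply (S : Subgroup G) (φ : stab S) (x : S) :
    ((res S φ x : S) : G) = (φ : MulAut G) x := rfl

theorem mk_surjective (S : Sylow 2 G) :
    Function.Surjective ((QuotientGroup.mk' (Cfsg.Inn G)).comp (stab (S : Subgroup G)).subtype) := by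
  haveI : Fact (Nat.Prime 2) := ⟨Nat.prime_two⟩
  intro y
  obtain ⟨φ, rfl⟩ := QuotientGroup.mk'_surjective _ y
  obtain ⟨R, hR⟩ : ∃ R : Sylow 2 G, (R : Subgroup G) = (S : Subgroup G).map φ.toMonoidHom :=
    ⟨Sylow.mapSurjective φ.surjective S, Sylow.coe_mapSurjective _ _⟩
  obtain ⟨g, hg⟩ := MulAction.exists_smul_eq G R S
  have hmem : ∀ z : G, MulAut.conj g (φ z) ∈ (S : Subgroup G) ↔ z ∈ (S : Subgroup G) := by
    intro z
    conv_lhs => rw [← hg, Sylow.coe_subgroup_smul]
    constructor
    · rintro ⟨w, hw, e⟩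
      have : w = φ z := (MulAut.conj g).injective e
      rw [this, hR] at hw
      obtain ⟨v, hv, e'⟩ := hw
      exact φ.injective e' ▸ hv
    · intro hz
      exact ⟨φ z, hR ▸ ⟨z, hz, rfl⟩, rfl⟩
  refine ⟨⟨MulAut.conj g * φ, hmem⟩, ?_⟩
  show ((MulAut.conj g * φ : MulAut G) : MulAut G ⧸ Cfsg.Inn G) = (φ : MulAut G ⧸ Cfsg.Inn G)
  rw [QuotientGroup.mk_mul,
    (QuotientGroup.eq_one_iff (MulAut.conj g)).2 (⟨g, rfl⟩ : MulAut.conj g ∈ (MulAut.conj : G →* MulAut G).range),
    one_mul]

theorem out_solvable (hFT : OddSolvable.{u}) [IsSimpleGroup G] (hG : ¬ IsMulCommutative G)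
    (S : Sylow 2 G) (hS : (S : Subgroup G) ≠ ⊥)
    (hY : Group.IsSolvable (res (S : Subgroup G)).range) : Group.IsSolvable (Cfsg.Out G) := by
  haveI : Fact (Nat.Prime 2) := ⟨Nat.prime_two⟩
  have hO : ∀ N : Subgroup G, N.Normal → Odd (Nat.card N) → N = ⊥ := by
    intro N hN hodd
    rcases hN.eq_bot_or_eq_top with h | h
    · exact h
    · exfalso
      rw [h, Subgroup.card_top] at hodd
      refine hS (Subgroup.card_eq_one.1 ?_)
      obtain ⟨n, hn⟩ := IsPGroup.iff_card.1 S.isPGroup'
      rcases n with _ | n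
      · simpa using hn
      · have : Odd (Nat.card (S : Subgroup G)) := hodd.of_dvd_nat (Subgroup.card_subgroup_dvd_card _)
        rw [hn, Nat.odd_pow_iff (Nat.succ_ne_zero n)] at this
        exact absurd this (by decide)
  let C : Subgroup (MulAut G) :=
    { carrier := {φ | ∀ s : G, s ∈ S → φ s = s}
      one_mem' := fun _ _ => rfl
      mul_mem' := fun {a b} ha hb s hs => by
        show a (b s) = s
        rw [hb s hs, ha s hs]
      inv_mem' := fun {a} ha s hs => by
        conv_lhs => rw [← ha s hs]
        exact MulAut.inv_apply_self G a s }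
  haveI hC : Group.IsSolvable C := (aut_fixing_sylow_two hFT hO S C fun φ => Iff.rfl).2
  haveI : Group.IsSolvable (res (S : Subgroup G)).ker :=
    Group.isSolvable_of_isSolvable_injective
      (f := ((stab (S : Subgroup G)).subtype.comp (res (S : Subgroup G)).ker.subtype).codRestrict C
        fun φ s hs => by
          have h := congrArg Subtype.val
            (DFunLike.congr_fun (MonoidHom.mem_ker.1 φ.2) (⟨s, hs⟩ : (S : Subgroup G)))
          exact h)
      (fun a b h => Subtype.ext (Subtype.ext (congrArg Subtype.val h :)))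
  haveI := hY
  haveI : Group.IsSolvable (stab (S : Subgroup G)) :=
    Group.isSolvable_of_ker_le_range (res (S : Subgroup G)).ker.subtype
      (res (S : Subgroup G)).rangeRestrict
      (by rw [MonoidHom.ker_rangeRestrict, Subgroup.range_subtype])
  exact Group.isSolvable_of_surjective (mk_surjective S)

/-- Statement of S3065. -/
theorem out_solvable_of_aut (hFT : OddSolvable.{u}) [IsSimpleGroup G] (hG : ¬ IsMulCommutative G)
    (S : Sylow 2 G) (hS1 : (S : Subgroup G) ≠ ⊥) (hS : Group.IsSolvable (MulAut ↥S)) :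
    Group.IsSolvable (Cfsg.Out G) :=
  haveI := hS
  out_solvable hFT hG S hS1 (Group.isSolvable_of_isSolvable_injective (Subgroup.subtype_injective _))

end CfsgLib.FTRows.OutSylow
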