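import Cfsg.Agent.FTRows.OutSylow
import Cfsg.Agent.KGroup.TISquares
import Cfsg.Agent.RadFree.Basic
import Mathlib.GroupTheory.Frattini
import Mathlib.LinearAlgebra.Matrix.GeneralLinearGroup.Card

/-!
Outer automorphisms when a Sylow 2-subgroup is generated by few elements: the action on `S/Φ(S)`.
-/

set_option autoImplicit false
set_option linter.unusedSectionVars false
set_option linter.style.haveILetI false

universe u

namespace CfsgLib.FTRows.OutSylow

open Subgroup

variable {S : Type u} [Group S]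

/-- Automorphisms act on the Frattini quotient. -/
noncomputable def fratAct (S : Type u) [Group S] : MulAut S →* MulAut (S ⧸ frattini S) :=
  MonoidHom.mk'
    (fun φ => QuotientGroup.congr (frattini S) (frattini S) φ
      (characteristic_iff_map_eq.1 inferInstance φ))
    fun φ ψ => MulEquiv.ext fun x => by
      obtain ⟨y, rfl⟩ := QuotientGroup.mk'_surjective (frattini S) x
      rfl

theorem fratAct_mk (φ : MulAut S) (x : S) :
    fratAct S φ (x : S ⧸ frattini S) = (φ x : S ⧸ frattini S) := rfl

theorem isPGroup_ker_fratAct [Finite S] (hS : IsPGroup 2 S) : IsPGroup 2 (fratAct S).ker := by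
  classical
  haveI : Fact (Nat.Prime 2) := ⟨Nat.prime_two⟩
  refine IsPGroup.of_card (n := (Nat.card (fratAct S).ker).primeFactorsList.length)
    (Nat.eq_prime_pow_of_unique_prime_dvd Nat.card_pos.ne' fun {r} hr hrd => ?_)
  by_contra hr2
  haveI : Fact r.Prime := ⟨hr⟩
  obtain ⟨φ, hφ⟩ := exists_prime_orderOf_dvd_card' r hrd
  have hφr : ((φ : MulAut S)) ^ r = 1 := by
    rw [← SubmonoidClass.coe_pow, ← hφ, pow_orderOf_eq_one]; rfl
  let Fx : Subgroup S :=
    { carrier := {x | (φ : MulAut S) x = x}
      one_mem' := map_one _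
      mul_mem' := fun {a b} ha hb => by
        show (φ : MulAut S) (a * b) = a * b
        rw [map_mul, ha, hb]
      inv_mem' := fun {a} ha => by
        show (φ : MulAut S) a⁻¹ = a⁻¹
        rw [map_inv, ha] }
  have hfix : ∀ x : S, ∃ f ∈ Fx, x⁻¹ * f ∈ frattini S := by
    intro x
    let X := {y : S // x⁻¹ * y ∈ frattini S}
    let e : X ≃ frattini S :=
      { toFun := fun y => ⟨x⁻¹ * y.1, y.2⟩
        invFun := fun f => ⟨x * f.1, by rw [inv_mul_cancel_left]; exact f.2⟩
        left_inv := fun y => Subtype.ext (mul_inv_cancel_left _ _)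
        right_inv := fun f => Subtype.ext (inv_mul_cancel_left _ _) }
    have hmem : ∀ y : S, x⁻¹ * (φ : MulAut S) y ∈ frattini S ↔ x⁻¹ * y ∈ frattini S := by
      intro y
      rw [← QuotientGroup.eq (s := frattini S), ← QuotientGroup.eq (s := frattini S),
        ← fratAct_mk (φ : MulAut S) y,
        show fratAct S (φ : MulAut S) = 1 from MonoidHom.mem_ker.1 φ.2]
      rfl
    let σ : Equiv.Perm X := ((φ : MulAut S).toEquiv).subtypeEquiv fun y => (hmem y).symm
    have hσ : ∀ (n : ℕ) (y : X), (((σ ^ n) y : X) : S) = ((φ : MulAut S) ^ n) y.1 := by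
      intro n
      induction n with
      | zero => intro y; rfl
      | succ n ih => intro y; rw [pow_succ, pow_succ, Equiv.Perm.mul_apply, ih]; rfl
    haveI : Fintype X := Fintype.ofFinite X
    have hσr : σ ^ r ^ 1 = 1 := by
      rw [pow_one]
      exact Equiv.ext fun y => Subtype.ext (by rw [hσ, hφr]; rfl)
    obtain ⟨k, hk⟩ := IsPGroup.iff_card.1 (hS.to_subgroup (frattini S))
    have hnd : ¬ r ∣ Fintype.card X := by
      rw [← Nat.card_eq_fintype_card, Nat.card_congr e, hk]
      intro h
      exact hr2 ((Nat.prime_dvd_prime_iff_eq hr Nat.prime_two).1 (hr.dvd_of_dvd_pow h))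
    obtain ⟨y, hy⟩ := Equiv.Perm.exists_fixed_point_of_prime hnd hσr
    exact ⟨y.1, congrArg Subtype.val hy, y.2⟩
  have htop : Fx ⊔ frattini S = ⊤ := by
    refine eq_top_iff.2 fun x _ => ?_
    obtain ⟨f, hf, hm⟩ := hfix x
    rw [show x = f * (x⁻¹ * f)⁻¹ by group]
    exact mul_mem (mem_sup_left hf) (mem_sup_right (inv_mem hm))
  have hF := frattini_nongenerating htop
  have h1 : (φ : MulAut S) = 1 := MulEquiv.ext fun x => by
    have : x ∈ Fx := hF ▸ Subgroup.mem_top x
    exact this
  have : φ = 1 := Subtype.ext h1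
  rw [this, orderOf_one] at hφ
  exact hr.one_lt.ne hφ

theorem isSolvable_range_of_frat [Finite S] (hS : IsPGroup 2 S) (Y : Subgroup (MulAut S))
    (h : Group.IsSolvable (Y.map (fratAct S))) : Group.IsSolvable Y := by
  haveI := h
  haveI : Fact (Nat.Prime 2) := ⟨Nat.prime_two⟩
  haveI : Group.IsNilpotent (fratAct S).ker := (isPGroup_ker_fratAct hS).isNilpotent
  haveI : Group.IsSolvable ((fratAct S).subgroupMap Y).ker :=
    Group.isSolvable_of_isSolvable_injective
      (f := ((Y.subtype.comp ((fratAct S).subgroupMap Y).ker.subtype)).codRestrict (fratAct S).ker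
        fun y => MonoidHom.mem_ker.2 (congrArg Subtype.val (MonoidHom.mem_ker.1 y.2)))
      (fun a b e => Subtype.ext (Subtype.ext (congrArg Subtype.val e :)))
  exact Group.isSolvable_of_ker_le_range ((fratAct S).subgroupMap Y).ker.subtype
    ((fratAct S).subgroupMap Y) (by rw [Subgroup.range_subtype])

theorem sq_eq_one_quot [Finite S] (hS : IsPGroup 2 S) (x : S ⧸ frattini S) : x ^ 2 = 1 := by
  obtain ⟨y, rfl⟩ := QuotientGroup.mk'_surjective (frattini S) x
  rw [← map_pow, QuotientGroup.mk'_apply, QuotientGroup.eq_one_iff]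
  exact CfsgLib.TISquares.sq_mem_frattini hS y

theorem card_quot_le [Finite S] (hS : IsPGroup 2 S) :
    (∀ a b : S, closure ({a, b} : Set S) = ⊤ → Nat.card (S ⧸ frattini S) ≤ 4) ∧
    (∀ a b c : S, closure ({a, b, c} : Set S) = ⊤ → Nat.card (S ⧸ frattini S) ≤ 8) := by
  classical
  have hsq := sq_eq_one_quot hS
  have hcomm : ∀ x y : S ⧸ frattini S, x * y = y * x := fun x y => by
    have hx := hsq x; have hy := hsq y; have hxy := hsq (x * y)
    rw [sq] at hx hy hxy
    have e1 := inv_eq_of_mul_eq_one_right hxy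
    rw [mul_inv_rev, inv_eq_of_mul_eq_one_right hx, inv_eq_of_mul_eq_one_right hy] at e1
    exact e1.symm
  letI : CommGroup (S ⧸ frattini S) := { (inferInstance : Group (S ⧸ frattini S)) with mul_comm := hcomm }
  have key : ∀ k, ∀ s : Fin k → S, closure (Set.range s) = ⊤ → Nat.card (S ⧸ frattini S) ≤ 2 ^ k := by
    intro k s hs
    let f : (Fin k → Fin 2) → S ⧸ frattini S := fun e => ∏ i, (s i : S ⧸ frattini S) ^ (e i).val
    have hadd : ∀ e e', f e * f e' = f (e + e') := fun e e' => by
      simp only [f, ← Finset.prod_mul_distrib, ← pow_add]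
      refine Finset.prod_congr rfl fun i _ => ?_
      rw [Pi.add_apply, Fin.val_add, ← pow_mod_two_aux (hsq _)]
    have hsurj : Function.Surjective f := by
      intro x
      obtain ⟨y, rfl⟩ := QuotientGroup.mk'_surjective (frattini S) x
      have hy : y ∈ closure (Set.range s) := hs ▸ Subgroup.mem_top y
      induction hy using closure_induction with
      | mem z hz =>
        obtain ⟨i, rfl⟩ := hz
        refine ⟨Pi.single i 1, ?_⟩
        show f _ = _
        simp only [f]
        rw [Finset.prod_eq_single i (fun j _ hj => by rw [Pi.single_eq_of_ne hj]; simp)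
          (fun h => absurd (Finset.mem_univ i) h)]
        simp
      | one => exact ⟨0, by simp [f]⟩
      | mul a b _ _ ha hb =>
        obtain ⟨ea, ha⟩ := ha
        obtain ⟨eb, hb⟩ := hb
        exact ⟨ea + eb, by rw [← hadd, ha, hb, map_mul]⟩
      | inv a _ ha =>
        obtain ⟨ea, ha⟩ := ha
        refine ⟨ea, ?_⟩
        rw [ha, map_inv]
        have h := hsq (QuotientGroup.mk' (frattini S) a)
        rw [sq] at h
        exact (inv_eq_of_mul_eq_one_right h).symm
    calc Nat.card (S ⧸ frattini S) ≤ Nat.card (Fin k → Fin 2) :=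
          Nat.card_le_card_of_surjective f hsurj
      _ = 2 ^ k := by simp
  refine ⟨fun a b h => key 2 ![a, b] ?_, fun a b c h => key 3 ![a, b, c] ?_⟩
  · refine eq_top_iff.2 (h.symm.le.trans (closure_mono ?_))
    rintro x (rfl | rfl)
    · exact ⟨0, rfl⟩
    · exact ⟨1, rfl⟩
  · refine eq_top_iff.2 (h.symm.le.trans (closure_mono ?_))
    rintro x (rfl | rfl | rfl)
    · exact ⟨0, rfl⟩
    · exact ⟨1, rfl⟩
    · exact ⟨2, rfl⟩
where
  pow_mod_two_aux {M : Type u} [Monoid M] {x : M} {n : ℕ} (hx : x ^ 2 = 1) : x ^ n = x ^ (n % 2) := by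
    conv_lhs => rw [← Nat.mod_add_div n 2, pow_add, pow_mul, hx, one_pow, mul_one]

theorem isSolvable_mulAut_small {Q : Type u} [Group Q] [Finite Q] (hQ : Nat.card Q ≤ 4) :
    Group.IsSolvable (MulAut Q) := by
  classical
  have hinj : Function.Injective (fun φ : MulAut Q => φ.toEquiv) := fun a b h =>
    MulEquiv.ext fun x => Equiv.congr_fun h x
  haveI : Group.IsSolvable (Equiv.Perm Q) := by
    haveI : Fintype Q := Fintype.ofFinite Q
    have hd : Nat.card (Equiv.Perm Q) ∣ 2 ^ 3 * 3 ^ 1 := by
      rw [Nat.card_perm]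
      exact (Nat.factorial_dvd_factorial hQ).trans (dvd_of_eq (by decide))
    exact CfsgLib.RadFree.isSolvable_of_dvd_two 2 3 3 1 Nat.prime_two Nat.prime_three hd
  exact Group.isSolvable_of_isSolvable_injective
    (f := MonoidHom.mk' (fun φ : MulAut Q => φ.toEquiv) fun a b => rfl) hinj

end CfsgLib.FTRows.OutSylow
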