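import Cfsg.Agent.PrimClassSize.HalfBound
import Cfsg.Agent.FTRows.PiSep

/-!
The `p`-part of a primitive character degree of a group of odd order divides a class size (S4991),
relative to the solvability of groups of odd order.
-/

set_option autoImplicit false
set_option linter.style.haveILetI false

universe u

namespace CfsgLib.FTRows

/-- S4991 relative to the odd order theorem. -/
theorem primitive_p_part_dvd_class_size (hFT : OddSolvable.{u}) {G : Type u} [Group G] [Fintype G]
    (hodd : Odd (Nat.card G)) (χ : Cfsg.IrrCharacter G)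
    (hprim : ¬ ∃ (H : Subgroup G), H ≠ ⊤ ∧ ∃ θ : ↥H → ℂ, Cfsg.IsCharacter ↥H θ ∧
      Cfsg.indFun H θ = (χ : G → ℂ))
    (p : ℕ) [Fact p.Prime] :
    ∃ g : G, (Cfsg.charDegree (χ : G → ℂ)).factorization p ≤
      ((Subgroup.centralizer ({g} : Set G)).index).factorization p := by
  haveI := hFT G hodd
  obtain ⟨d, -, hd⟩ := CfsgLib.Char.IsIrrCharacter.exists_degree χ.2
  have hdeg : Cfsg.charDegree (χ : G → ℂ) = d := by
    rw [Cfsg.charDegree, hd, Complex.natCast_re, Nat.floor_natCast]
  rw [hdeg]
  exact CfsgLib.PrimClassSize.exists_class_val_sharp p χ.2 (fun H θ hθ hind => by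
    by_contra hH
    exact hprim ⟨H, hH, θ, hθ, hind⟩) hd

end CfsgLib.FTRows
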