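import Cfsg.Agent.FTRows.PiSep
import Cfsg.Agent.Transfer.Frobenius
import Cfsg.Agent.Transfer.PResidual
import Cfsg.Agent.Invol.BaerSuzuki
import Cfsg.Agent.Invol.Isolated

/-!
Real elements and the structure of the group generated by 2-elements (Dolfi–Pacifici–Sanus type),
relative to the solvability of groups of odd order.
-/

set_option autoImplicit false
set_option linter.unusedSectionVars false

universe u

namespace CfsgLib.FTRows.RealTwo

open Subgroup

variable {G : Type u} [Group G] [Finite G]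

/-- A 2-group acted on nontrivially by an element of odd order contains a real element that is not
central. -/
theorem exists_real (n : ℕ) : ∀ (W : Subgroup G) (q : G), Nat.card W ≤ n → IsPGroup 2 W →
    Odd (orderOf q) → (∀ x ∈ W, q * x * q⁻¹ ∈ W) → ¬ (∀ x ∈ W, q * x = x * q) →
    ∃ w ∈ W, w ∉ Subgroup.center G ∧ IsConj w w⁻¹ := by
  haveI : Fact (Nat.Prime 2) := ⟨Nat.prime_two⟩
  induction n with
  | zero => intro W q h; exact absurd h (by have := Nat.card_pos (α := W); omega)
  | succ n ih =>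
    intro W q hn hW hq hinv hne
    by_cases hsq : ∀ x ∈ W, q * (x * x) = x * x * q
    · push Not at hne
      obtain ⟨x, hx, hxq⟩ := hne
      set y := q * x * q⁻¹ with hy
      have hy2 : y * y = x * x := by
        calc y * y = q * (x * x) * q⁻¹ := by rw [hy]; group
          _ = x * x := by rw [hsq x hx, mul_inv_cancel_right]
      refine ⟨x⁻¹ * y, mul_mem (inv_mem hx) (hinv x hx), fun hc => hxq ?_, ?_⟩
      · have hw : ∀ k : ℕ, q ^ k * x * (q ^ k)⁻¹ = x * (x⁻¹ * y) ^ k := by
          intro k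
          induction k with
          | zero => simp
          | succ k ih2 =>
            have e : q ^ (k + 1) * x * (q ^ (k + 1))⁻¹ = q * (q ^ k * x * (q ^ k)⁻¹) * q⁻¹ := by
              rw [pow_succ']; group
            have ec : q * (x⁻¹ * y) ^ k = (x⁻¹ * y) ^ k * q :=
              ((show Commute q (x⁻¹ * y) from Subgroup.mem_center_iff.1 hc q).pow_right k).eq
            rw [e, ih2]
            calc q * (x * (x⁻¹ * y) ^ k) * q⁻¹ = q * x * ((x⁻¹ * y) ^ k * q⁻¹) := by group
              _ = q * x * (q⁻¹ * (x⁻¹ * y) ^ k) := by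
                congr 1
                apply mul_left_cancel (a := q)
                apply mul_right_cancel (b := q)
                calc q * ((x⁻¹ * y) ^ k * q⁻¹) * q = q * (x⁻¹ * y) ^ k := by group
                  _ = (x⁻¹ * y) ^ k * q := ec
                  _ = _ := by group
              _ = x * (x⁻¹ * y) ^ (k + 1) := by
                rw [pow_succ', ← mul_assoc x (x⁻¹ * y), mul_inv_cancel_left, hy]
                simp only [mul_assoc]
        have h1 := hw (orderOf q)
        rw [pow_orderOf_eq_one, one_mul, inv_one, mul_one, left_eq_mul] at h1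
        obtain ⟨j, hj⟩ := hW ⟨x⁻¹ * y, mul_mem (inv_mem hx) (hinv x hx)⟩
        have h2 : x⁻¹ * y = 1 := orderOf_eq_one_iff.1 (Nat.eq_one_of_dvd_coprimes
          (Nat.Coprime.pow_left j (Nat.coprime_two_left.2 hq))
          (orderOf_dvd_of_pow_eq_one (congrArg Subtype.val hj)) (orderOf_dvd_of_pow_eq_one h1))
        rw [inv_mul_eq_one] at h2
        exact mul_inv_eq_iff_eq_mul.1 h2.symm
      · refine isConj_iff.2 ⟨x, eq_inv_of_mul_eq_one_right ?_⟩
        calc x⁻¹ * y * (x * (x⁻¹ * y) * x⁻¹) = x⁻¹ * (y * y) * x⁻¹ := by group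
          _ = 1 := by rw [hy2]; group
    · set F := closure {z : G | ∃ x ∈ W, x * x = z} with hF
      have hFW : F ≤ W := (closure_le W).2 (by rintro _ ⟨x, hx, rfl⟩; exact mul_mem hx hx)
      have hFlt : Nat.card F < Nat.card W := by
        obtain ⟨k, hk⟩ := IsPGroup.iff_card.1 hW
        rcases k with _ | k
        · exfalso
          apply hne
          intro x hx
          have : W = ⊥ := Subgroup.card_eq_one.1 (by rw [hk, pow_zero])
          rw [this, Subgroup.mem_bot] at hx
          rw [hx, mul_one, one_mul]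
        · obtain ⟨K, hK⟩ := Sylow.exists_subgroup_card_pow_prime (G := W) 2
            (show 2 ^ k ∣ Nat.card W by rw [hk]; exact pow_dvd_pow 2 (Nat.le_succ k))
          have hKi : K.index = 2 := by
            have := K.card_mul_index
            rw [hK, hk, pow_succ] at this
            exact Nat.eq_of_mul_eq_mul_left (pow_pos two_pos k) this
          have hle : F ≤ K.map W.subtype := (closure_le _).2 (by
            rintro _ ⟨x, hx, rfl⟩
            exact ⟨⟨x, hx⟩ * ⟨x, hx⟩, Subgroup.mul_self_mem_of_index_two hKi ⟨x, hx⟩, rfl⟩)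
          refine lt_of_le_of_lt (Subgroup.card_le_of_le hle) ?_
          rw [Subgroup.card_map_of_injective W.subtype_injective, hK, hk]
          exact Nat.pow_lt_pow_right one_lt_two (Nat.lt_succ_self k)
      have hFinv : ∀ z ∈ F, q * z * q⁻¹ ∈ F := by
        intro z hz
        have hle : F.map (MulAut.conj q).toMonoidHom ≤ F := by
          rw [hF, MonoidHom.map_closure]
          refine closure_mono ?_
          rintro _ ⟨_, ⟨x, hx, rfl⟩, rfl⟩
          exact ⟨q * x * q⁻¹, hinv x hx, by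
            show q * x * q⁻¹ * (q * x * q⁻¹) = q * (x * x) * q⁻¹
            group⟩
        exact hle ⟨z, hz, rfl⟩
      push Not at hsq
      obtain ⟨x, hx, hxq⟩ := hsq
      obtain ⟨w, hw, hw1, hw2⟩ := ih F q (by omega) (hW.to_le hFW) hq hFinv
        (fun hall => hxq (hall _ (subset_closure ⟨x, hx, rfl⟩)))
      exact ⟨w, hFW hw, hw1, hw2⟩

/-- Real elements of odd prime order lift from a quotient by a normal 2-subgroup. -/
theorem lift_real (N : Subgroup G) [N.Normal] (hN : IsPGroup 2 N) {r : G ⧸ N} (hr : r ≠ 1)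
    (hodd : Odd (orderOf r)) (hreal : IsConj r r⁻¹) :
    ∃ x : G, x ≠ 1 ∧ Odd (orderOf x) ∧ IsConj x x⁻¹ := by
  obtain ⟨q, hq, hqr⟩ := Nat.exists_prime_and_dvd
    (fun h => hr (orderOf_eq_one_iff.1 h) : orderOf r ≠ 1)
  haveI := Fact.mk hq
  have hq2 : q ≠ 2 := fun e => (Nat.not_even_iff_odd.2 (hodd.of_dvd_nat hqr)) (e ▸ even_two)
  set r₁ := r ^ (orderOf r / q) with hr₁
  have hr₁o : orderOf r₁ = q := orderOf_pow_orderOf_div (orderOf_pos r).ne' hqr
  have hr₁real : IsConj r₁ r₁⁻¹ := by rw [hr₁, ← inv_pow]; exact hreal.pow _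
  obtain ⟨g, hg⟩ := QuotientGroup.mk_surjective r₁
  have hgq : g ^ q ∈ N := by
    rw [← QuotientGroup.eq_one_iff, QuotientGroup.mk_pow, hg, ← hr₁o, pow_orderOf_eq_one]
  obtain ⟨e, he⟩ := hN ⟨g ^ q, hgq⟩
  set E := 2 ^ e with hE
  set x := g ^ E with hx
  have hxq : x ^ q = 1 := by
    rw [hx, ← pow_mul, mul_comm, pow_mul]; exact congrArg Subtype.val he
  have hxr : (x : G ⧸ N) = r₁ ^ E := by rw [hx, QuotientGroup.mk_pow, hg]
  have hco : Nat.Coprime q E := ((Nat.coprime_primes hq Nat.prime_two).2 hq2).pow_right e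
  have hxr1 : (x : G ⧸ N) ≠ 1 := fun h1 => by
    rw [hxr] at h1
    have h2 := orderOf_dvd_of_pow_eq_one h1
    rw [hr₁o] at h2
    exact hq.ne_one (Nat.eq_one_of_dvd_coprimes hco dvd_rfl h2)
  have hxo : orderOf x = q :=
    orderOf_eq_prime hxq fun h1 => hxr1 (by rw [h1, QuotientGroup.mk_one])
  have hxNi : ∀ a ∈ zpowers x, a ∈ N → a = 1 := by
    intro a ha haN
    obtain ⟨j, hj⟩ := hN ⟨a, haN⟩
    have hd : orderOf a ∣ q := by
      rw [← hxo, ← Nat.card_zpowers x]
      exact Subgroup.orderOf_mk a ha ▸ orderOf_dvd_natCard (⟨a, ha⟩ : zpowers x)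
    exact orderOf_eq_one_iff.1 (Nat.eq_one_of_dvd_coprimes
      (((Nat.coprime_primes hq Nat.prime_two).2 hq2).pow_right j) hd
      (orderOf_dvd_of_pow_eq_one (congrArg Subtype.val hj)))
  obtain ⟨c, hc⟩ := isConj_iff.1 (hr₁real.pow E)
  obtain ⟨t, rfl⟩ := QuotientGroup.mk_surjective c
  rw [inv_pow, ← hxr] at hc
  -- Sylow subgroups of `N ⟨x⟩`
  set M := zpowers x ⊔ N with hM
  have hxM : zpowers x ≤ M := le_sup_left
  have hcard : Nat.card M = q * Nat.card N := by
    have hinf : zpowers x ⊓ N = ⊥ :=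
      (Subgroup.eq_bot_iff_forall _).2 fun a ha => hxNi a (mem_inf.1 ha).1 (mem_inf.1 ha).2
    have h1 := CfsgLib.Solvable.card_sup_mul_card_inf (A := zpowers x) (K := N)
      (by rw [Subgroup.normalizer_eq_top]; exact le_top)
    rw [hinf, Subgroup.card_bot, mul_one, Nat.card_zpowers, hxo] at h1
    exact h1
  have hsyl : ∀ P : Subgroup G, P ≤ M → Nat.card P = q → Nat.card (P.subgroupOf M) =
      q ^ (Nat.card M).factorization q := by
    intro P hP hPq
    rw [Nat.card_congr (subgroupOfEquivOfLe hP).toEquiv, hPq, hcard]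
    have hqN : (Nat.card N).factorization q = 0 := by
      obtain ⟨j, hj⟩ := IsPGroup.iff_card.1 hN
      apply Nat.factorization_eq_zero_of_not_dvd
      rw [hj]
      exact fun h => hq2 ((Nat.prime_dvd_prime_iff_eq hq Nat.prime_two).1 (hq.dvd_of_dvd_pow h))
    rw [Nat.factorization_mul hq.ne_zero Nat.card_pos.ne', Finsupp.add_apply, hqN,
      hq.factorization_self, add_zero, pow_one]
  have ht : t * x * t⁻¹ ∈ M := by
    have h1 : x * (t * x * t⁻¹) ∈ N := by
      rw [← QuotientGroup.eq_one_iff]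
      simp only [QuotientGroup.mk_mul, QuotientGroup.mk_inv]
      rw [hc, mul_inv_cancel]
    have := mul_mem (inv_mem (mem_sup_left (mem_zpowers x) : x ∈ M)) (mem_sup_right h1 : _ ∈ M)
    rwa [inv_mul_cancel_left] at this
  let P₁ : Sylow q M := Sylow.ofCard ((zpowers x).subgroupOf M)
    (hsyl _ hxM (by rw [Nat.card_zpowers, hxo]))
  let P₂ : Sylow q M := Sylow.ofCard ((zpowers (t * x * t⁻¹)).subgroupOf M)
    (hsyl _ (zpowers_le.2 ht) (by rw [Nat.card_zpowers, CfsgLib.Invol.orderOf_conj_eq, hxo]))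
  obtain ⟨m, hm⟩ := MulAction.exists_smul_eq M P₂ P₁
  have hmem : (m : G) * (t * x * t⁻¹) * (m : G)⁻¹ ∈ zpowers x := by
    have h1 : m * (⟨_, ht⟩ : M) * m⁻¹ ∈ ((m • P₂ : Sylow q M) : Subgroup M) := by
      rw [Sylow.coe_subgroup_smul]
      exact ⟨⟨_, ht⟩, mem_subgroupOf.2 (mem_zpowers _), rfl⟩
    rw [hm] at h1
    exact mem_subgroupOf.1 (show _ ∈ (zpowers x).subgroupOf M from h1)
  have hmN : ((m : G) : G ⧸ N) * (x : G ⧸ N) = (x : G ⧸ N) * ((m : G) : G ⧸ N) := by
    obtain ⟨a, ha, b, hb, e⟩ := mem_sup_of_normal_right.1 m.2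
    obtain ⟨i, rfl⟩ := Subgroup.mem_zpowers_iff.1 ha
    rw [← e, QuotientGroup.mk_mul, (QuotientGroup.eq_one_iff b).2 hb, mul_one, QuotientGroup.mk_zpow]
    exact ((Commute.refl (x : G ⧸ N)).zpow_left i).eq
  refine ⟨x, fun h1 => hxr1 (by rw [h1, QuotientGroup.mk_one]), hxo ▸ hq.odd_of_ne_two hq2,
    isConj_iff.2 ⟨(m : G) * t, ?_⟩⟩
  refine eq_inv_of_mul_eq_one_right (hxNi _ (mul_mem (mem_zpowers x) ?_) ?_)
  · convert hmem using 1
    group
  · rw [← QuotientGroup.eq_one_iff]
    simp only [QuotientGroup.mk_mul, QuotientGroup.mk_inv, mul_inv_rev]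
    calc (x : G ⧸ N) * (((m : G) : G ⧸ N) * t * x * ((t : G ⧸ N)⁻¹ * ((m : G) : G ⧸ N)⁻¹))
        = (x : G ⧸ N) * (((m : G) : G ⧸ N) * ((t : G ⧸ N) * x * (t : G ⧸ N)⁻¹) *
            ((m : G) : G ⧸ N)⁻¹) := by group
      _ = (x : G ⧸ N) * (((m : G) : G ⧸ N) * (x : G ⧸ N)⁻¹ * ((m : G) : G ⧸ N)⁻¹) := by rw [hc]
      _ = 1 := by
          have e : ((m : G) : G ⧸ N) * (x : G ⧸ N)⁻¹ = (x : G ⧸ N)⁻¹ * ((m : G) : G ⧸ N) :=
            ((show Commute ((m : G) : G ⧸ N) (x : G ⧸ N) from hmN).inv_right).eq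
          rw [e]; group

/-- Without nontrivial real elements of odd order the Sylow 2-subgroup is normal. -/
theorem sylow_normal (h : ∀ x : G, Odd (orderOf x) → IsConj x x⁻¹ → x = 1) :
    Odd (Cfsg.pCore 2 G).index := by
  haveI : Fact (Nat.Prime 2) := ⟨Nat.prime_two⟩
  set N := Cfsg.pCore 2 G with hN
  by_contra hev
  rw [Nat.not_odd_iff_even, even_iff_two_dvd, Subgroup.index_eq_card] at hev
  obtain ⟨t, ht⟩ := exists_prime_orderOf_dvd_card' (G := G ⧸ N) 2 hev
  have hno : ∀ r : G ⧸ N, Odd (orderOf r) → IsConj r r⁻¹ → r = 1 := by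
    intro r ho hr
    by_contra hr1
    obtain ⟨x, hx1, hxo, hxr⟩ := lift_real N (Solvable.isPGroup_pCore 2) hr1 ho hr
    exact hx1 (h x hxo hxr)
  have hmem : t ∈ Cfsg.pCore 2 (G ⧸ N) := by
    refine Invol.mem_pCore_of_pairs t fun g => ?_
    set t' := g * t * g⁻¹ with ht'
    have ht'o : orderOf t' = 2 := (Invol.orderOf_conj_eq g t).trans ht
    set z := t * t' with hz
    obtain ⟨a, b, hb, hab⟩ := Nat.exists_eq_two_pow_mul_odd (orderOf_pos z).ne'
    have hz2 : z ^ 2 ^ a = 1 := by
      refine hno _ ?_ ?_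
      · refine hb.of_dvd_nat (orderOf_dvd_of_pow_eq_one ?_)
        rw [← pow_mul, ← hab, pow_orderOf_eq_one]
      · have hinv : IsConj z z⁻¹ := isConj_iff.2 ⟨t, Invol.conj_mul_inv ht ht'o⟩
        rw [← inv_pow]
        exact hinv.pow _
    rintro ⟨y, hy⟩
    have hzk : ∀ k : ℤ, (z ^ k) ^ 2 ^ a = 1 := fun k => by
      rw [← zpow_natCast, ← zpow_mul, mul_comm, zpow_mul, zpow_natCast, hz2, one_zpow]
    rcases (Invol.mem_closure_pair_iff ht ht'o).mp hy with ⟨k, rfl⟩ | ⟨k, rfl⟩
    · exact ⟨a, Subtype.ext (hzk k)⟩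
    · refine ⟨1, Subtype.ext ?_⟩
      show (t * (t * t') ^ k) ^ 2 ^ 1 = 1
      rw [pow_one, sq]
      exact Invol.mul_zpow_mul_self (Invol.mul_self_eq_one ht) (Invol.conj_mul_inv ht ht'o) k
  set T := (Cfsg.pCore 2 (G ⧸ N)).comap (QuotientGroup.mk' N) with hT
  have hT2 : IsPGroup 2 T := (Solvable.isPGroup_pCore 2).comap_of_ker_isPGroup _
    (by rw [QuotientGroup.ker_mk']; exact Solvable.isPGroup_pCore 2)
  have hTN : T ≤ N := Solvable.le_pCore 2 inferInstance hT2
  obtain ⟨g, rfl⟩ := QuotientGroup.mk_surjective t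
  rw [(QuotientGroup.eq_one_iff g).2 (hTN hmem), orderOf_one] at ht
  omega

/-- A real element is inverted by a 2-element. -/
theorem exists_inverter {x : G} (hx : IsConj x x⁻¹) :
    ∃ t : G, (∃ k, t ^ 2 ^ k = 1) ∧ t * x * t⁻¹ = x⁻¹ := by
  obtain ⟨c, hc⟩ := isConj_iff.1 hx
  obtain ⟨a, b, ⟨i, hi⟩, hab⟩ := Nat.exists_eq_two_pow_mul_odd (orderOf_pos c).ne'
  refine ⟨c ^ b, ⟨a, by rw [← pow_mul, mul_comm, ← hab, pow_orderOf_eq_one]⟩, ?_⟩
  have h2 : Commute (c ^ 2) x := by
    show c ^ 2 * x = x * c ^ 2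
    have hc' : c * x⁻¹ * c⁻¹ = x := by
      have := congrArg (·⁻¹) hc
      simpa [mul_assoc] using this
    calc c ^ 2 * x = c * (c * x * c⁻¹) * c := by rw [sq]; group
      _ = c * x⁻¹ * c⁻¹ * c ^ 2 := by rw [hc, sq]; group
      _ = x * c ^ 2 := by rw [hc']
  have hi' : c ^ b = c * (c ^ 2) ^ i := by rw [← pow_mul, ← pow_succ', hi]
  rw [hi']
  calc c * (c ^ 2) ^ i * x * (c * (c ^ 2) ^ i)⁻¹ = c * ((c ^ 2) ^ i * x * ((c ^ 2) ^ i)⁻¹) * c⁻¹ := by
        group
    _ = x⁻¹ := by rw [(h2.pow_left i).eq, mul_inv_cancel_right, hc]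

end CfsgLib.FTRows.RealTwo

namespace CfsgLib.FTRows

open Subgroup

/-- S4193 relative to the solvability of groups of odd order. -/
theorem real_classes_two_part (hFT : OddSolvable.{u}) {G : Type u} [Group G] [Finite G] (a : ℕ)
    (h : ∀ x : G, IsConj x x⁻¹ → x ∉ Subgroup.center G →
      ((centralizer ({x} : Set G)).index).factorization 2 = a)
    (S : Sylow 2 G)
    (hS : ∀ s : ↥(S : Subgroup G), IsConj s s⁻¹ → s ∈ Subgroup.center ↥(S : Subgroup G)) :
    Group.IsSolvable G ∧
      Cfsg.HasNormalPComplement 2 ↥(closure {g : G | ∃ k : ℕ, orderOf g = 2 ^ k}) := by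
  haveI : Fact (Nat.Prime 2) := ⟨Nat.prime_two⟩
  set K := closure {g : G | ∃ k : ℕ, orderOf g = 2 ^ k} with hK
  by_cases hex : ∃ w : G, (∃ k, w ^ 2 ^ k = 1) ∧ w ∉ Subgroup.center G ∧ IsConj w w⁻¹
  · obtain ⟨w, ⟨k, hk⟩, hwc, hwr⟩ := hex
    -- the real non-central 2-element lies in the centre of a Sylow subgroup
    have ha : a = 0 := by
      obtain ⟨t, ⟨j, hj⟩, htw⟩ := RealTwo.exists_inverter hwr
      have hn : zpowers t ≤ normalizer (zpowers w : Set G) := by
        rw [zpowers_le, mem_normalizer_iff_map_conj_eq, MonoidHom.map_zpowers]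
        show zpowers (t * w * t⁻¹) = zpowers w
        rw [htw, zpowers_inv]
      have hp : ∀ {u : G} {i : ℕ}, u ^ 2 ^ i = 1 → IsPGroup 2 (zpowers u) := fun {u i} hu => by
        obtain ⟨l, -, hl⟩ := (Nat.dvd_prime_pow Nat.prime_two).1 (orderOf_dvd_of_pow_eq_one hu)
        exact IsPGroup.of_card (n := l) (by rw [Nat.card_zpowers, hl])
      obtain ⟨R, hR⟩ := ((hp hj).to_sup_of_normal_right' (hp hk) hn).exists_le_sylow
      obtain ⟨c, hc⟩ := MulAction.exists_smul_eq G R S
      have hin : ∀ u ∈ zpowers t ⊔ zpowers w, c * u * c⁻¹ ∈ (S : Subgroup G) := fun u hu => by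
        rw [← hc, Sylow.coe_subgroup_smul]
        exact ⟨u, hR hu, rfl⟩
      have hwS := hin w (mem_sup_right (mem_zpowers w))
      have hw' : (⟨_, hwS⟩ : (S : Subgroup G)) ∈ Subgroup.center (S : Subgroup G) := by
        refine hS _ (isConj_iff.2 ⟨⟨_, hin t (mem_sup_left (mem_zpowers t))⟩, Subtype.ext ?_⟩)
        show c * t * c⁻¹ * (c * w * c⁻¹) * (c * t * c⁻¹)⁻¹ = (c * w * c⁻¹)⁻¹
        calc c * t * c⁻¹ * (c * w * c⁻¹) * (c * t * c⁻¹)⁻¹ = c * (t * w * t⁻¹) * c⁻¹ := by group
          _ = _ := by rw [htw]; group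
      have hSC : (S : Subgroup G) ≤ centralizer ({c * w * c⁻¹} : Set G) := fun s hs =>
        mem_centralizer_singleton_iff.2 (congrArg Subtype.val (mem_center_iff.1 hw' ⟨s, hs⟩))
      have hnd : ¬ 2 ∣ (centralizer ({c * w * c⁻¹} : Set G)).index := fun hd =>
        S.not_dvd_index (hd.trans (index_dvd_of_le hSC))
      rw [← h (c * w * c⁻¹) ?_ ?_]
      · exact Nat.factorization_eq_zero_of_not_dvd hnd
      · rw [show (c * w * c⁻¹)⁻¹ = c * w⁻¹ * c⁻¹ by group]
        exact (isConj_iff.2 ⟨c, rfl⟩ : IsConj w (c * w * c⁻¹)).symm.trans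
          (hwr.trans (isConj_iff.2 ⟨c, rfl⟩))
      · intro hc'
        apply hwc
        have := (inferInstance : (Subgroup.center G).Normal).conj_mem _ hc' c⁻¹
        rwa [show c⁻¹ * (c * w * c⁻¹) * c⁻¹⁻¹ = w by group] at this
    have hreal : ∀ x : G, Odd (orderOf x) → IsConj x x⁻¹ → x = 1 := by
      intro x hxo hxr
      have hsq : x = x⁻¹ → x = 1 := fun e => Invol.eq_one_of_sq_eq_one_of_odd
        (by rw [sq]; nth_rewrite 2 [e]; exact mul_inv_cancel x) hxo
      by_cases hxc : x ∈ Subgroup.center G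
      · obtain ⟨c, hc⟩ := isConj_iff.1 hxr
        rw [mem_center_iff.1 hxc c, mul_inv_cancel_right] at hc
        exact hsq hc
      · have h0 := h x hxr hxc
        rw [ha] at h0
        set C := centralizer ({x} : Set G) with hC
        obtain ⟨R⟩ : Nonempty (Sylow 2 C) := inferInstance
        have hRidx : ¬ 2 ∣ ((R : Subgroup C).map C.subtype).index := by
          rw [Subgroup.index_map_subtype]
          intro hd
          rcases Nat.prime_two.dvd_mul.1 hd with h1 | h1
          · exact R.not_dvd_index h1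
          · have := Nat.prime_two.factorization_pos_of_dvd C.index_ne_zero_of_finite h1
            omega
        let R' : Sylow 2 G := (R.2.map C.subtype).toSylow hRidx
        obtain ⟨t, ⟨j, hj⟩, htx⟩ := RealTwo.exists_inverter hxr
        have htC : ∀ y ∈ C, t * y * t⁻¹ ∈ C := fun y hy => mem_centralizer_singleton_iff.2 (by
          have e : y * x⁻¹ = x⁻¹ * y :=
            ((show Commute y x from mem_centralizer_singleton_iff.1 hy).inv_right).eq
          have e2 : x = t * x⁻¹ * t⁻¹ := by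
            rw [show t * x⁻¹ * t⁻¹ = (t * x * t⁻¹)⁻¹ by group, htx, inv_inv]
          rw [e2]
          calc t * y * t⁻¹ * (t * x⁻¹ * t⁻¹) = t * (y * x⁻¹) * t⁻¹ := by group
            _ = _ := by rw [e]; group)
        have hR2 : IsPGroup 2 (((R : Subgroup C).map C.subtype).map (MulAut.conj t).toMonoidHom) :=
          (R.2.map _).map _
        have hR2C : ((R : Subgroup C).map C.subtype).map (MulAut.conj t).toMonoidHom ≤ C := by
          rintro _ ⟨y, hy, rfl⟩; exact htC y (map_subtype_le _ hy)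
        obtain ⟨R₂, hR₂⟩ := (hR2.comap_subtype (K := C)).exists_le_sylow
        obtain ⟨c, hc⟩ := MulAction.exists_smul_eq C R₂ R
        have hct : ∀ y ∈ (R : Subgroup C).map C.subtype,
            ((c : G) * t) * y * ((c : G) * t)⁻¹ ∈ (R : Subgroup C).map C.subtype := by
          intro y hy
          have hy' : t * y * t⁻¹ ∈ C := htC y (map_subtype_le _ hy)
          have h1 : c * ⟨_, hy'⟩ * c⁻¹ ∈ ((c • R₂ : Sylow 2 C) : Subgroup C) := by
            rw [Sylow.coe_subgroup_smul]
            exact ⟨_, hR₂ (show (⟨_, hy'⟩ : C) ∈ Subgroup.comap C.subtype _ from ⟨y, hy, rfl⟩), rfl⟩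
          rw [hc] at h1
          refine ⟨_, h1, ?_⟩
          show (c : G) * (t * y * t⁻¹) * (c : G)⁻¹ = _
          group
        have hcx : ((c : G) * t) * x * ((c : G) * t)⁻¹ = x⁻¹ := by
          have e : (c : G) * x⁻¹ = x⁻¹ * (c : G) :=
            ((show Commute (c : G) x from mem_centralizer_singleton_iff.1 c.2).inv_right).eq
          calc ((c : G) * t) * x * ((c : G) * t)⁻¹ = (c : G) * (t * x * t⁻¹) * (c : G)⁻¹ := by group
            _ = x⁻¹ := by rw [htx, e, mul_inv_cancel_right]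
        set u := (c : G) * t
        obtain ⟨i, b, ⟨l, hl⟩, hub⟩ := Nat.exists_eq_two_pow_mul_odd (orderOf_pos u).ne'
        have hun : u ^ b ∈ normalizer (((R' : Subgroup G)) : Set G) := by
          refine pow_mem ?_ b
          rw [mem_normalizer_iff_map_conj_eq]
          refine Subgroup.eq_of_le_of_card_ge ?_ (by
            rw [Subgroup.card_map_of_injective (MulAut.conj u).injective])
          rintro _ ⟨y, hy, rfl⟩
          exact hct y hy
        have hu2 : IsPGroup 2 (zpowers (u ^ b)) := by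
          have hpow : (u ^ b) ^ 2 ^ i = 1 := by
            rw [← pow_mul, mul_comm, ← hub, pow_orderOf_eq_one]
          obtain ⟨l', -, hl'⟩ := (Nat.dvd_prime_pow Nat.prime_two).1 (orderOf_dvd_of_pow_eq_one hpow)
          exact IsPGroup.of_card (n := l') (by rw [Nat.card_zpowers, hl'])
        have huR : u ^ b ∈ (R' : Subgroup G) := by
          have h1 := R'.is_maximal' (hu2.to_sup_of_normal_right' R'.2 (zpowers_le.2 hun))
            le_sup_right
          exact h1 ▸ mem_sup_left (mem_zpowers (u ^ b))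
        have hux : u ^ b * x = x * u ^ b :=
          mem_centralizer_singleton_iff.1 (map_subtype_le _ huR)
        have h2 : Commute (u ^ 2) x := by
          show u ^ 2 * x = x * u ^ 2
          have hc' : u * x⁻¹ * u⁻¹ = x := by
            have := congrArg (·⁻¹) hcx
            simpa [mul_assoc] using this
          calc u ^ 2 * x = u * (u * x * u⁻¹) * u := by rw [sq]; group
            _ = u * x⁻¹ * u⁻¹ * u ^ 2 := by rw [hcx, sq]; group
            _ = x * u ^ 2 := by rw [hc']
        have hub' : u ^ b = u * (u ^ 2) ^ l := by rw [← pow_mul, ← pow_succ', hl]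
        apply hsq
        calc x = u ^ b * x * (u ^ b)⁻¹ := by rw [hux, mul_inv_cancel_right]
          _ = u * ((u ^ 2) ^ l * x * ((u ^ 2) ^ l)⁻¹) * u⁻¹ := by rw [hub']; group
          _ = x⁻¹ := by rw [(h2.pow_left l).eq, mul_inv_cancel_right, hcx]
    have hodd := RealTwo.sylow_normal hreal
    set N := Cfsg.pCore 2 G with hN
    have hN2 : IsPGroup 2 N := Solvable.isPGroup_pCore 2
    haveI : Group.IsSolvable N := by
      haveI := hN2.isNilpotent
      infer_instance
    refine ⟨?_, ?_⟩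
    · haveI := hFT (G ⧸ N) (by rwa [← Subgroup.index_eq_card])
      exact Group.isSolvable_of_ker_le_range N.subtype (QuotientGroup.mk' N)
        (by rw [QuotientGroup.ker_mk', N.range_subtype])
    · have hKN : K ≤ N := (closure_le N).2 fun g ⟨k, hk⟩ => by
        rw [SetLike.mem_coe, ← QuotientGroup.eq_one_iff, ← orderOf_eq_one_iff]
        refine Nat.eq_one_of_dvd_coprimes ?_ (orderOf_map_dvd (QuotientGroup.mk' N) g |>.trans
          hk.dvd) (orderOf_dvd_natCard _)
        rw [← Subgroup.index_eq_card]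
        exact (Nat.coprime_two_left.2 hodd).pow_left k
      have hK2 : IsPGroup 2 K := hN2.to_le hKN
      have htop : IsPGroup 2 (⊤ : Subgroup K) := fun g => by
        obtain ⟨k, hk⟩ := hK2 g.1
        exact ⟨k, Subtype.ext hk⟩
      refine ⟨htop.toSylow (by rw [Subgroup.index_top]; norm_num), ⊥, inferInstance, ?_⟩
      rw [IsPGroup.toSylow_coe]
      exact Subgroup.isComplement'_bot_top
  · push Not at hex
    have hLC : Fusion.LocalCondition 2 G := by
      intro Q hQ g hg hgo
      by_contra hgc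
      obtain ⟨w, hwQ, hwc, hwr⟩ := RealTwo.exists_real (Nat.card Q) Q g le_rfl hQ
        (Nat.coprime_two_right.1 hgo) (fun x hx => (mem_normalizer_iff.1 hg x).1 hx)
        (fun hall => hgc (mem_centralizer_iff.2 fun x hx => (hall x hx).symm))
      obtain ⟨k, hk⟩ := hQ ⟨w, hwQ⟩
      exact hex w ⟨k, congrArg Subtype.val hk⟩ hwc hwr
    have hcompl := Fusion.hasNormalPComplement_of_localCondition hLC
    refine ⟨?_, PResidual.hasNormalPComplement_of_injective K.subtype K.subtype_injective hcompl⟩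
    obtain ⟨P, N, hNn, hNP⟩ := hcompl
    haveI := hNn
    haveI := hFT N (Nat.not_even_iff_odd.1 fun he => P.not_dvd_index (by
      rw [hNP.index_eq_card]; exact he.two_dvd))
    haveI : Group.IsSolvable (G ⧸ N) := by
      obtain ⟨k, hk⟩ := IsPGroup.iff_card.1 P.2
      haveI := (IsPGroup.of_card (p := 2) (n := k) (G := G ⧸ N)
        (by rw [← Subgroup.index_eq_card, hNP.symm.index_eq_card, hk])).isNilpotent
      infer_instance
    exact Group.isSolvable_of_ker_le_range N.subtype (QuotientGroup.mk' N)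
      (by rw [QuotientGroup.ker_mk', N.range_subtype])

end CfsgLib.FTRows
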