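import Cfsg.Agent.FTRows.PiSep

/-!
S1908 and S4310 relative to the solvability of groups of odd order.
-/

set_option autoImplicit false

universe u

namespace CfsgLib.FTRows

/-- Statement of S1908. -/
theorem separable_dPi (hFT : OddSolvable.{u}) {G : Type u} [Group G] [Finite G] (π : Set ℕ)
    (hsep : ∃ (n : ℕ) (H : Fin (n + 1) → Subgroup G), H 0 = ⊥ ∧ H (Fin.last n) = ⊤ ∧ Monotone H ∧ (∀ i, (H i).Normal) ∧
      ∀ i : Fin n, (∀ q : ℕ, q.Prime → q ∣ (H i.castSucc).relIndex (H i.succ) → q ∈ π) ∨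
        (∀ q : ℕ, q.Prime → q ∣ (H i.castSucc).relIndex (H i.succ) → q ∉ π)) :
    (∃ K : Subgroup G, Cfsg.IsPiHall π K) ∧
      (∀ K L : Subgroup G, Cfsg.IsPiHall π K → Cfsg.IsPiHall π L →
        ∃ g : G, L = K.map (MulAut.conj g).toMonoidHom) ∧
      ∀ U : Subgroup G, (∀ q : ℕ, q.Prime → q ∣ Nat.card U → q ∈ π) →
        ∃ K : Subgroup G, Cfsg.IsPiHall π K ∧ U ≤ K := by
  obtain ⟨n, H, h0, hlast, hmono, hn, hsec⟩ := hsep
  have h := piDom_of_series hFT n H h0 hlast hmono hn hsec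
  exact ⟨h.imp fun K hK => hK.1, fun K L hK hL => h.conj hK hL, fun U hU => h.exists_ge hU⟩

end CfsgLib.FTRows
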