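import Cfsg.Agent.FTRows.PiSep
import Cfsg.Agent.ZStar.RankOneApps

/-!
A non-cyclic simple group contains a four-group, given that groups of odd order are solvable.
-/

set_option autoImplicit false
set_option linter.style.haveILetI false

universe u

namespace CfsgLib.FTRows

variable {G : Type u} [Group G] [Finite G]

theorem exists_klein (hFT : OddSolvable.{u}) [IsSimpleGroup G] (hG : ¬ IsCyclic G) :
    ∃ E : Subgroup G, IsKleinFour E := by
  by_contra h
  push Not at h
  have hcomm : ∀ a b : G, a * b = b * a := by
    rcases Nat.even_or_odd (Nat.card G) with he | ho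
    · obtain ⟨z, hz, N, hN, hNodd, hc⟩ := CfsgLib.ZStar.exists_central_modulo he h
      rcases hN.eq_bot_or_eq_top with hb | ht
      · have hzc : z ∈ Subgroup.center G := Subgroup.mem_center_iff.2 fun g => by
          have h1 := hc g
          rw [hb, Subgroup.mem_bot, mul_inv_eq_one, mul_inv_eq_iff_eq_mul] at h1
          exact h1.symm
        rcases (inferInstance : (Subgroup.center G).Normal).eq_bot_or_eq_top with hb' | ht'
        · rw [hb', Subgroup.mem_bot] at hzc
          rw [hzc, orderOf_one] at hz
          exact absurd hz (by norm_num)
        · exact fun a b => (Subgroup.mem_center_iff.1 (ht' ▸ Subgroup.mem_top a) b).symm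
      · rw [ht, Subgroup.card_top] at hNodd
        exact absurd he (Nat.not_even_iff_odd.2 hNodd)
    · exact IsSimpleGroup.comm_iff_isSolvable.2 (hFT G ho)
  letI : CommGroup G := { (inferInstance : Group G) with mul_comm := hcomm }
  exact hG IsSimpleGroup.isCyclic

end CfsgLib.FTRows
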