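import Cfsg.Agent.FTRows.PiSep
import Cfsg.Agent.OddDep.Trichotomy
import Cfsg.Agent.Balance2.Layer
import Cfsg.Agent.Comp.Layer

/-!
The layer of a group with a standard subgroup, relative to the solvability of groups of odd order.
-/

set_option autoImplicit false
set_option linter.unusedSectionVars false
set_option linter.style.haveILetI false

universe u

namespace CfsgLib.FTRows.Standard

open Subgroup CfsgLib.Comp
open scoped commutatorElement

variable {G : Type u} [Group G] [Finite G]

/-- An involution normalising a subgroup of even order centralises an involution of it. -/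
theorem exists_involution_fixed {L : Subgroup G} {t : G} (ht : orderOf t = 2)
    (hL : ∀ x ∈ L, t * x * t⁻¹ ∈ L) (he : 2 ∣ Nat.card L) :
    ∃ u ∈ L, orderOf u = 2 ∧ t * u = u * t := by
  haveI : Fact (Nat.Prime 2) := ⟨Nat.prime_two⟩
  have hmem : ∀ a ∈ zpowers t, ∀ x ∈ L, a * x * a⁻¹ ∈ L := by
    intro a ha x hx
    rcases eq_or_ne a 1 with rfl | h1
    · simpa using hx
    · obtain ⟨k, rfl⟩ := Subgroup.mem_zpowers_iff.1 ha
      have hk : t ^ k = t := by
        have e : t ^ k = t ^ (k % (orderOf t : ℤ)) := (zpow_mod_orderOf t k).symm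
        rw [ht] at e
        rcases Int.emod_two_eq k with h | h
        · rw [show ((2 : ℕ) : ℤ) = 2 from rfl, h, zpow_zero] at e; exact absurd e h1
        · rwa [show ((2 : ℕ) : ℤ) = 2 from rfl, h, zpow_one] at e
      rw [hk]; exact hL x hx
  letI : MulAction (zpowers t) L :=
    { smul := fun a x => ⟨(a : G) * x * (a : G)⁻¹, hmem a a.2 x x.2⟩
      one_smul := fun x => Subtype.ext (by show (1 : G) * (x : G) * (1 : G)⁻¹ = x; group)
      mul_smul := fun a b x => Subtype.ext (by
        show (a : G) * b * x * ((a : G) * b)⁻¹ = (a : G) * ((b : G) * x * (b : G)⁻¹) * (a : G)⁻¹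
        group) }
  have hp : IsPGroup 2 (zpowers t) := IsPGroup.of_card (n := 1) (by rw [Nat.card_zpowers, ht]; rfl)
  have hC : 2 ∣ Nat.card ↥(L ⊓ centralizer ({t} : Set G)) := by
    have e : Nat.card ↥(L ⊓ centralizer ({t} : Set G)) =
        Nat.card (MulAction.fixedPoints (zpowers t) L) := by
      refine Nat.card_congr
        { toFun := fun x => ⟨⟨x.1, (mem_inf.1 x.2).1⟩, fun a => Subtype.ext (by
            show (a : G) * x.1 * (a : G)⁻¹ = x.1
            have hc : Commute t x.1 := (mem_centralizer_singleton_iff.1 (mem_inf.1 x.2).2).symm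
            obtain ⟨k, hk⟩ := Subgroup.mem_zpowers_iff.1 a.2
            rw [← hk, (hc.zpow_left k).eq, mul_inv_cancel_right])⟩
          invFun := fun x => ⟨x.1.1, mem_inf.2 ⟨x.1.2, mem_centralizer_singleton_iff.2 (by
            have h : t * x.1.1 * t⁻¹ = x.1.1 :=
              congrArg Subtype.val (x.2 ⟨t, mem_zpowers t⟩)
            exact (mul_inv_eq_iff_eq_mul.1 h).symm)⟩⟩
          left_inv := fun x => rfl
          right_inv := fun x => rfl }
    rw [e]
    have h := hp.card_modEq_card_fixedPoints L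
    exact Nat.modEq_zero_iff_dvd.1 (h.symm.trans (Nat.modEq_zero_iff_dvd.2 he))
  obtain ⟨u, hu⟩ := exists_prime_orderOf_dvd_card' (G := ↥(L ⊓ centralizer ({t} : Set G))) 2 hC
  exact ⟨u, (mem_inf.1 u.2).1, by rw [Subgroup.orderOf_coe, hu],
    (mem_centralizer_singleton_iff.1 (mem_inf.1 u.2).2).symm⟩

/-- Trivial odd core and 2-core give a trivial Fitting subgroup. -/
theorem fitting_bot (hO : Cfsg.oddCore G = ⊥) (h2 : Cfsg.pCore 2 G = ⊥) :
    Cfsg.fittingSubgroup G = ⊥ := by
  by_contra h
  have hne : Nat.card (Cfsg.fittingSubgroup G) ≠ 1 := fun e => h (Subgroup.card_eq_one.1 e)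
  obtain ⟨p, hp, hpF⟩ := Nat.exists_prime_and_dvd hne
  haveI := Fact.mk hp
  set F := Cfsg.fittingSubgroup G
  haveI : Group.IsNilpotent F := Solvable.isNilpotent_fittingSubgroup
  obtain ⟨P⟩ : Nonempty (Sylow p F) := inferInstance
  haveI : (P : Subgroup F).Characteristic := Sylow.characteristic_of_normal P
    (Sylow.normal_of_normalizerCondition Group.normalizerCondition_of_isNilpotent P)
  haveI : ((P : Subgroup F).map F.subtype).Normal := ConjAct.normal_of_characteristic_of_normal
  have hne : (P : Subgroup F).map F.subtype ≠ ⊥ := fun e => by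
    rw [Subgroup.map_eq_bot_iff_of_injective _ F.subtype_injective] at e
    have := P.dvd_card_of_dvd_card hpF
    rw [e, Subgroup.card_bot] at this
    exact hp.not_dvd_one this
  by_cases hp2 : p = 2
  · subst hp2
    apply hne
    rw [eq_bot_iff, ← h2]
    exact Solvable.le_pCore 2 inferInstance (P.2.map _)
  · apply hne
    rw [eq_bot_iff, ← hO]
    refine Solvable.le_pPrimeCore 2 inferInstance ?_
    obtain ⟨k, hk⟩ := IsPGroup.iff_card.1 (P.2.map F.subtype)
    rw [hk]
    exact ((Nat.coprime_primes Nat.prime_two hp).2 (Ne.symm hp2)).symm.pow_left k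

end CfsgLib.FTRows.Standard

namespace CfsgLib.FTRows

open Subgroup CfsgLib.Comp
open scoped commutatorElement

/-- S1347 relative to the solvability of groups of odd order. -/
theorem standard_subgroup_layer (hFT : OddSolvable.{u}) {G : Type u} [Group G] [Finite G]
    (A : Subgroup G) (hA : Cfsg.IsStandardSubgroup A) (hO : Cfsg.oddCore G = ⊥) (t : G)
    (ht : orderOf t = 2) (htA : t ∈ centralizer (A : Set G)) :
    A.Normal ∨ (∃ X : Subgroup G, IsSimpleGroup ↥X ∧ ¬ IsMulCommutative ↥X ∧ Nonempty (↥X ≃* ↥A) ∧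
      (∀ a ∈ X, ∀ b ∈ X.map (MulAut.conj t).toMonoidHom, a * b = b * a) ∧
      X ⊓ X.map (MulAut.conj t).toMonoidHom = ⊥ ∧
      X ⊔ X.map (MulAut.conj t).toMonoidHom = Cfsg.layer G ∧
      centralizer (A : Set G) = zpowers t) ∨
    (A ≤ Cfsg.layer G ∧ IsSimpleGroup ↥(Cfsg.layer G) ∧ ¬ IsMulCommutative ↥(Cfsg.layer G)) := by
  haveI : Fact (Nat.Prime 2) := ⟨Nat.prime_two⟩
  by_cases hAn : A.Normal
  · exact Or.inl hAn
  right
  obtain ⟨hAq, ⟨-, htight⟩, hcomm, hnorm⟩ := hA
  set K := centralizer (A : Set G) with hK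
  have ht2 : t * t = 1 := Invol.mul_self_eq_one ht
  -- an involution of `K` keeps `g` inside the normalizer
  have hnK : ∀ u ∈ K, orderOf u = 2 → ∀ g : G, g * u * g⁻¹ ∈ K → g ∈ normalizer (A : Set G) := by
    intro u hu hu2 g hg
    rw [hnorm]
    by_contra hgn
    have h2 : 2 ∣ Nat.card ↥(K ⊓ K.map (MulAut.conj g).toMonoidHom) := by
      have := Subgroup.orderOf_dvd_natCard (K ⊓ K.map (MulAut.conj g).toMonoidHom)
        (mem_inf.2 ⟨hg, ⟨u, hu, rfl⟩⟩)
      rwa [show g * u * g⁻¹ = MulAut.conj g u from rfl, (MulAut.conj g).orderOf_eq, hu2] at this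
    exact (Nat.not_even_iff_odd.2 (htight g hgn)) (even_iff_two_dvd.2 h2)
  set Ct := centralizer ({t} : Set G) with hCt
  have hCtN : Ct ≤ normalizer (A : Set G) := fun c hc => hnK t htA ht c (by
    rwa [mem_centralizer_singleton_iff.1 hc, mul_inv_cancel_right])
  have hACt : A ≤ Ct := fun a ha =>
    mem_centralizer_singleton_iff.2 (mem_centralizer_iff.1 htA a ha)
  have hAlayer : A ≤ Cfsg.layer G := by
    refine Balance2.le_layer (R := zpowers t) hO
      (IsPGroup.of_card (n := 1) (by rw [Nat.card_zpowers, ht]; rfl)) ?_ ?_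
      (OddDep.quasi_two hFT hAq)
    · exact fun a ha => mem_centralizer_iff.2 fun z hz => by
        obtain ⟨k, rfl⟩ := Subgroup.mem_zpowers_iff.1 hz
        exact (((show Commute t a from (mem_centralizer_singleton_iff.1 (hACt ha)).symm)).zpow_left k).eq
    · have e : centralizer (zpowers t : Set G) = Ct := by
        rw [hCt, zpowers_eq_closure, centralizer_closure]
      rw [e]
      exact ((normal_subgroupOf_iff_le_normalizer hACt).2 hCtN).isSubnormal
  have hAne : A ≠ ⊥ := fun e => by
    subst e
    exact quasisimple_not_solvable hAq inferInstance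
  have hAperf : ⁅A, A⁆ = A := Subgroup.isPerfect_iff.mp hAq.1
  -- the layer does not normalise `A`
  have hlay : ¬ Cfsg.layer G ≤ normalizer (A : Set G) := by
    intro hle
    have hAc : Cfsg.IsComponent A := by
      refine ⟨IsSubnormal.trans hAlayer ?_ (Normal.isSubnormal inferInstance), hAq⟩
      exact ((normal_subgroupOf_iff_le_normalizer hAlayer).2 hle).isSubnormal
    apply hAn
    refine ⟨fun a ha g => ?_⟩
    have hg : A.map (MulAut.conj g).toMonoidHom = A := by
      by_contra hne
      exact hcomm g hne ((component_eq_or_commute hAc (component_conj g hAc)).resolve_left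
        fun e => hne e.symm)
    exact hg ▸ ⟨a, ha, rfl⟩
  -- the Fitting subgroup is trivial
  have h2core : Cfsg.pCore 2 G = ⊥ := by
    by_contra hne
    have hle : Cfsg.pCore 2 G ≤ K := by
      rw [hK, Subgroup.le_centralizer_iff]
      exact hAlayer.trans (layer_le_centralizer_fitting.trans (centralizer_le
        (le_fitting inferInstance (Solvable.isPGroup_pCore (G := G) 2).isNilpotent)))
    obtain ⟨u, hu⟩ := exists_prime_orderOf_dvd_card' (G := Cfsg.pCore 2 G) 2 (by
      obtain ⟨k, hk⟩ := IsPGroup.iff_card.1 (Solvable.isPGroup_pCore (G := G) 2)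
      rcases k with _ | k
      · exact absurd (Subgroup.card_eq_one.1 (by rw [hk, pow_zero])) hne
      · rw [hk]; exact dvd_pow_self 2 (Nat.succ_ne_zero k))
    exact hlay fun g _ => hnK u (hle u.2) (by rw [Subgroup.orderOf_coe, hu]) g
      (hle (Subgroup.Normal.conj_mem inferInstance _ u.2 g))
  have hF := Standard.fitting_bot hO h2core
  have hsimple : ∀ L : Subgroup G, Cfsg.IsComponent L → IsSimpleGroup L := by
    intro L hL
    have hz : center L = ⊥ := by
      have h1 : (center L).map L.subtype ≤ (center (Cfsg.layer G)).map (Cfsg.layer G).subtype := by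
        rw [center_layer_eq]
        exact le_iSup_of_le ⟨L, hL⟩ le_rfl
      rw [center_layer_eq_fitting_inf, hF, bot_inf_eq, le_bot_iff,
        Subgroup.map_eq_bot_iff_of_injective _ L.subtype_injective] at h1
      exact h1
    haveI := hL.2.2
    exact ((QuotientGroup.quotientBot (G := L)).symm.trans
      (QuotientGroup.quotientMulEquivOfEq hz.symm)).isSimpleGroup
  have hnab : ∀ L : Subgroup G, Cfsg.IsComponent L → ¬ IsMulCommutative L := fun L hL h =>
    component_not_solvable hL (Group.isSolvable_of_comm fun a b => h.is_comm.comm a b)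
  have heven : ∀ L : Subgroup G, Cfsg.IsComponent L → 2 ∣ Nat.card L := by
    intro L hL
    by_contra h
    exact component_not_solvable hL (hFT L (Nat.not_even_iff_odd.1
      fun he => h (even_iff_two_dvd.1 he)))
  -- no component centralises `A`
  have hsupp : ∀ L : Subgroup G, Cfsg.IsComponent L → ¬ L ≤ K := by
    intro L hL hle
    obtain ⟨u, hu⟩ := exists_prime_orderOf_dvd_card' (G := L) 2 (heven L hL)
    exact hlay fun g hg => hnK u (hle u.2) (by rw [Subgroup.orderOf_coe, hu]) g
      (hle ((mem_normalizer_iff.1 (layer_le_normalizer_component hL hg) _).1 u.2))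
  have hother : ∀ L M : Subgroup G, Cfsg.IsComponent L → Cfsg.IsComponent M → L ≠ M →
      L ≤ centralizer (M : Set G) := fun L M hL hM hne =>
    le_centralizer_of_commutator_eq_bot ((component_eq_or_commute hL hM).resolve_left hne)
  have hAL : ∀ L : Subgroup G, Cfsg.IsComponent L → A ≤ normalizer (L : Set G) := fun L hL =>
    hAlayer.trans (layer_le_normalizer_component hL)
  by_cases hswap : ∃ L : Subgroup G, Cfsg.IsComponent L ∧ L.map (MulAut.conj t).toMonoidHom ≠ L
  · left
    obtain ⟨L, hL, hLt⟩ := hswap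
    set L' := L.map (MulAut.conj t).toMonoidHom with hL'
    have hL'c : Cfsg.IsComponent L' := component_conj t hL
    have hLL' : L ≤ centralizer (L' : Set G) := hother L L' hL hL'c (Ne.symm hLt)
    have hinf : L ⊓ L' = ⊥ := by
      haveI := hsimple L hL
      haveI : ((L ⊓ L').subgroupOf L).Normal :=
        (normal_subgroupOf_iff_le_normalizer inf_le_left).2 fun g hg => by
          refine (inf_normalizer_le_normalizer_inf) (mem_inf.2 ⟨le_normalizer hg, ?_⟩)
          exact layer_le_normalizer_component hL'c (component_le_layer hL hg)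
      rcases IsSimpleGroup.eq_bot_or_eq_top_of_normal ((L ⊓ L').subgroupOf L) inferInstance with h | h
      · rwa [subgroupOf_eq_bot, disjoint_iff, inf_right_comm, inf_idem] at h
      · exact absurd (component_le_eq hL hL'c ((subgroupOf_eq_top.1 h).trans inf_le_right)) (Ne.symm hLt)
    let f : L →* G :=
      { toFun := fun x => (x : G) * (t * (x : G) * t⁻¹)
        map_one' := by simp
        map_mul' := fun x y => by
          have e : (y : G) * (t * (x : G) * t⁻¹) = t * (x : G) * t⁻¹ * (y : G) :=
            (mem_centralizer_iff.1 (hLL' y.2) _ ⟨x, x.2, rfl⟩).symm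
          push_cast
          calc (x : G) * y * (t * ((x : G) * y) * t⁻¹)
              = x * ((y : G) * (t * x * t⁻¹)) * (t * y * t⁻¹) := by group
            _ = _ := by rw [e]; group }
    have huniq : ∀ a ∈ L, ∀ b ∈ L', ∀ c ∈ L, ∀ d ∈ L', a * b = c * d → a = c := by
      intro a ha b hb c hc d hd e
      have h1 : c⁻¹ * a ∈ L ⊓ L' := mem_inf.2 ⟨mul_mem (inv_mem hc) ha, by
        have e1 : c⁻¹ * a = d * b⁻¹ := by
          apply mul_left_cancel (a := c); apply mul_right_cancel (b := b)
          rw [mul_inv_cancel_left, mul_assoc, inv_mul_cancel_right, e]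
        rw [e1]; exact mul_mem hd (inv_mem hb)⟩
      rw [hinf, mem_bot, inv_mul_eq_one] at h1
      exact h1.symm
    have hf : Function.Injective f := fun x y e =>
      Subtype.ext (huniq x x.2 _ ⟨x, x.2, rfl⟩ y y.2 _ ⟨y, y.2, rfl⟩ e)
    set D := f.range with hD
    haveI := hsimple L hL
    have hDsimple : IsSimpleGroup D := (MonoidHom.ofInjective hf).symm.isSimpleGroup
    have hDCt : D ≤ Ct := by
      rintro _ ⟨x, rfl⟩
      apply mem_centralizer_singleton_iff.2
      show (x : G) * (t * x * t⁻¹) * t = t * ((x : G) * (t * x * t⁻¹))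
      have e : (x : G) * (t * x * t⁻¹) = t * x * t⁻¹ * x :=
        (mem_centralizer_iff.1 (hLL' x.2) _ ⟨x, x.2, rfl⟩).symm
      have e2 : t⁻¹ = t := inv_eq_of_mul_eq_one_right ht2
      calc (x : G) * (t * x * t⁻¹) * t = x * t * x := by group
        _ = (t * t) * x * t * x := by rw [ht2, one_mul]
        _ = t * (t * x * t⁻¹ * x) := by rw [e2]; group
        _ = _ := by rw [← e]
    have hconjt : ∀ a ∈ A, ∀ x : L, ∃ y : L, (y : G) = a * x * a⁻¹ ∧ f y = a * f x * a⁻¹ := by
      intro a ha x
      refine ⟨⟨a * x * a⁻¹, (mem_normalizer_iff.1 (hAL L hL ha) _).1 x.2⟩, rfl, ?_⟩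
      have hat : Commute a t := mem_centralizer_singleton_iff.1 (hACt ha)
      show a * x * a⁻¹ * (t * (a * x * a⁻¹) * t⁻¹) = a * ((x : G) * (t * x * t⁻¹)) * a⁻¹
      have e1 : t * a = a * t := hat.symm.eq
      have e2 : a⁻¹ * t⁻¹ = t⁻¹ * a⁻¹ := by rw [← mul_inv_rev, e1, mul_inv_rev]
      calc a * x * a⁻¹ * (t * (a * x * a⁻¹) * t⁻¹) = a * x * a⁻¹ * ((t * a) * x * (a⁻¹ * t⁻¹)) := by
            group
        _ = _ := by rw [e1, e2]; group
    have hAD : A ≤ normalizer (D : Set G) := by
      intro a ha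
      have h1 : ∀ b ∈ A, ∀ d ∈ D, b * d * b⁻¹ ∈ D := by
        rintro b hb _ ⟨x, rfl⟩
        obtain ⟨y, -, hy⟩ := hconjt b hb x
        exact ⟨y, hy⟩
      refine mem_normalizer_iff.2 fun d => ⟨h1 a ha d, fun hd => ?_⟩
      have := h1 a⁻¹ (inv_mem ha) _ hd
      rwa [show a⁻¹ * (a * d * a⁻¹) * a⁻¹⁻¹ = d by group] at this
    haveI hAq' : Cfsg.IsQuasisimple A := hAq
    have hDA : D = A := by
      haveI : ((A ⊓ D).subgroupOf D).Normal := (normal_subgroupOf_iff_le_normalizer inf_le_right).2
        fun g hg => inf_normalizer_le_normalizer_inf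
          (mem_inf.2 ⟨hCtN (hDCt hg), le_normalizer hg⟩)
      rcases IsSimpleGroup.eq_bot_or_eq_top_of_normal ((A ⊓ D).subgroupOf D) inferInstance with h | h
      · exfalso
        apply hsupp L hL
        intro x hx
        refine mem_centralizer_iff.2 fun a ha => ?_
        obtain ⟨y, hy, hfy⟩ := hconjt a ha ⟨x, hx⟩
        have hcomm' : a * f ⟨x, hx⟩ * a⁻¹ * (f ⟨x, hx⟩)⁻¹ ∈ A ⊓ D := mem_inf.2
          ⟨by
            have := (mem_normalizer_iff.1 (hCtN (hDCt ⟨⟨x, hx⟩, rfl⟩)) a⁻¹).1 (inv_mem ha)
            have e : a * f ⟨x, hx⟩ * a⁻¹ * (f ⟨x, hx⟩)⁻¹ =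
                a * (f ⟨x, hx⟩ * a⁻¹ * (f ⟨x, hx⟩)⁻¹) := by group
            rw [e]; exact mul_mem ha this,
          mul_mem (hfy ▸ ⟨y, rfl⟩) (inv_mem ⟨_, rfl⟩)⟩
        have hb : A ⊓ D = ⊥ := by
          rwa [subgroupOf_eq_bot, disjoint_iff, inf_assoc, inf_idem] at h
        rw [hb, mem_bot, mul_inv_eq_one, ← hfy] at hcomm'
        have hyx : (y : G) = x := congrArg Subtype.val (hf hcomm')
        rw [hy] at hyx
        exact mul_inv_eq_iff_eq_mul.1 hyx
      · have hDle : D ≤ A := (subgroupOf_eq_top.1 h).trans inf_le_left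
        haveI : (D.subgroupOf A).Normal := (normal_subgroupOf_iff_le_normalizer hDle).2 hAD
        rcases quasisimple_normal hAq (H := D.subgroupOf A) inferInstance with h1 | h1
        · exact le_antisymm hDle (subgroupOf_eq_top.1 h1)
        · exfalso
          apply hnab L hL
          refine ⟨⟨fun x y => hf ?_⟩⟩
          rw [map_mul, map_mul]
          exact (congrArg Subtype.val (mem_center_iff.1 (h1 (show (⟨f x, hDle ⟨x, rfl⟩⟩ : A) ∈
            D.subgroupOf A from ⟨x, rfl⟩)) ⟨f y, hDle ⟨y, rfl⟩⟩)).symm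
    have honly : ∀ M : Subgroup G, Cfsg.IsComponent M → M = L ∨ M = L' := by
      intro M hM
      by_contra hne
      push Not at hne
      refine hsupp M hM fun m hm => mem_centralizer_iff.2 fun a ha => ?_
      rw [← hDA] at ha
      obtain ⟨x, rfl⟩ := ha
      have h1 : Commute (x : G) m := mem_centralizer_iff.1 (hother M L hM hL hne.1 hm) _ x.2
      have h2 : Commute (t * (x : G) * t⁻¹) m :=
        mem_centralizer_iff.1 (hother M L' hM hL'c hne.2 hm) _ ⟨x, x.2, rfl⟩
      exact (h1.mul_left h2).eq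
    have hlayer : L ⊔ L' = Cfsg.layer G :=
      le_antisymm (sup_le (component_le_layer hL) (component_le_layer hL'c))
        (layer_le fun M hM => by rcases honly M hM with rfl | rfl
                                 · exact le_sup_left
                                 · exact le_sup_right)
    refine ⟨L, hsimple L hL, hnab L hL, ⟨(MonoidHom.ofInjective hf).trans
      (MulEquiv.subgroupCongr hDA)⟩, fun a ha b hb =>
        (mem_centralizer_iff.1 (hLL' ha) b hb).symm, hinf, hlayer,
      le_antisymm (fun c hc => ?_) (zpowers_le.2 htA)⟩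
    -- elements centralising `A`
    have hfix : ∀ c ∈ K, L.map (MulAut.conj c).toMonoidHom = L → c = 1 := by
      intro c hc hcL
      have hconj' : ∀ x ∈ L', c * x * c⁻¹ ∈ L' := by
        intro x hx
        have hc' : Cfsg.IsComponent (L'.map (MulAut.conj c).toMonoidHom) := component_conj c hL'c
        rcases honly _ hc' with h | h
        · exfalso
          rw [← hcL] at h
          exact hLt (Subgroup.map_injective (MulAut.conj c).injective h)
        · exact h ▸ ⟨x, hx, rfl⟩
      have hcfix : ∀ x : L, c * x * c⁻¹ = x ∧ c * (t * x * t⁻¹) * c⁻¹ = t * x * t⁻¹ := by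
        intro x
        have hfx : f x ∈ A := hDA ▸ ⟨x, rfl⟩
        have e : c * (x : G) * c⁻¹ * (c * (t * x * t⁻¹) * c⁻¹) = (x : G) * (t * x * t⁻¹) := by
          rw [show c * (x : G) * c⁻¹ * (c * (t * x * t⁻¹) * c⁻¹) = c * f x * c⁻¹ by
            show _ = c * ((x : G) * (t * x * t⁻¹)) * c⁻¹; group,
            ← mem_centralizer_iff.1 hc _ hfx, mul_inv_cancel_right]
          rfl
        have h1 : c * (x : G) * c⁻¹ = x := huniq _ (hcL.le ⟨x, x.2, rfl⟩) _ (hconj' _ ⟨x, x.2, rfl⟩)
          _ x.2 _ ⟨x, x.2, rfl⟩ e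
        refine ⟨h1, ?_⟩
        rw [h1] at e
        exact mul_left_cancel e
      have hcl : Cfsg.layer G ≤ centralizer ({c} : Set G) := by
        rw [← hlayer]
        refine sup_le (fun x hx => mem_centralizer_singleton_iff.2 ?_) ?_
        · exact (mul_inv_eq_iff_eq_mul.1 (hcfix ⟨x, hx⟩).1).symm
        · rintro _ ⟨x, hx, rfl⟩
          exact mem_centralizer_singleton_iff.2 (mul_inv_eq_iff_eq_mul.1 (hcfix ⟨x, hx⟩).2).symm
      have hFs : Cfsg.generalizedFittingSubgroup G = Cfsg.layer G := by
        show Cfsg.layer G ⊔ Cfsg.fittingSubgroup G = _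
        rw [hF, sup_bot_eq]
      have hc1 : c ∈ Cfsg.layer G := by
        rw [← hFs]
        refine centralizer_Fstar_le (mem_centralizer_iff.2 fun x hx => ?_)
        exact mem_centralizer_singleton_iff.1 (hcl (hFs ▸ hx))
      have hc2 : c ∈ (center (Cfsg.layer G)).map (Cfsg.layer G).subtype :=
        ⟨⟨c, hc1⟩, mem_center_iff.2 fun x => Subtype.ext
          (mem_centralizer_singleton_iff.1 (hcl x.2)), rfl⟩
      rwa [center_layer_eq_fitting_inf, hF, bot_inf_eq, mem_bot] at hc2
    rcases honly _ (component_conj c hL) with h | h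
    · rw [hfix c hc h]; exact one_mem _
    · have h' : L.map (MulAut.conj (t * c)).toMonoidHom = L := by
        have e : (MulAut.conj (t * c)).toMonoidHom =
            (MulAut.conj t).toMonoidHom.comp (MulAut.conj c).toMonoidHom := by
          ext x; simp [mul_assoc]
        rw [e, ← Subgroup.map_map, h, hL', Subgroup.map_map]
        have e2 : (MulAut.conj t).toMonoidHom.comp (MulAut.conj t).toMonoidHom = MonoidHom.id G := by
          ext x
          show t * (t * x * t⁻¹) * t⁻¹ = x
          rw [inv_eq_of_mul_eq_one_right ht2,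
            show t * (t * x * t) * t = (t * t) * x * (t * t) by group, ht2, one_mul, mul_one]
        rw [e2, Subgroup.map_id]
      have := hfix _ (mul_mem htA hc) h'
      rw [mul_eq_one_iff_eq_inv', inv_eq_of_mul_eq_one_right ht2] at this
      rw [this]; exact mem_zpowers t
  · push Not at hswap
    right
    have hnotle : ∀ L : Subgroup G, Cfsg.IsComponent L → ∀ M : Subgroup G, Cfsg.IsComponent M →
        M ≠ L → ¬ A ≤ L := fun L hL M hM hne hle =>
      hsupp M hM ((hother M L hM hL hne).trans (centralizer_le hle))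
    by_cases hone : ∀ L M : Subgroup G, Cfsg.IsComponent L → Cfsg.IsComponent M → L = M
    · refine ⟨hAlayer, ?_⟩
      obtain ⟨L, hL⟩ : ∃ L : Subgroup G, Cfsg.IsComponent L := by
        by_contra hne
        push Not at hne
        exact hAne (le_bot_iff.1 (hAlayer.trans (layer_le fun L hL => absurd hL (hne L))))
      have e : Cfsg.layer G = L :=
        le_antisymm (layer_le fun M hM => (hone M L hM hL).le) (component_le_layer hL)
      rw [e]
      exact ⟨hsimple L hL, hnab L hL⟩
    · exfalso
      push Not at hone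
      obtain ⟨L₀, M₀, hL₀, hM₀, hLM⟩ := hone
      have hcentr : ∀ L : Subgroup G, Cfsg.IsComponent L → L ⊓ Ct ≤ K := by
        intro L hL
        obtain ⟨M, hM, hne⟩ : ∃ M, Cfsg.IsComponent M ∧ M ≠ L := by
          by_cases h : L₀ = L
          · exact ⟨M₀, hM₀, h ▸ Ne.symm hLM⟩
          · exact ⟨L₀, hL₀, h⟩
        haveI : ((A ⊓ L).subgroupOf A).Normal := (normal_subgroupOf_iff_le_normalizer inf_le_left).2
          fun a ha => inf_normalizer_le_normalizer_inf
            (mem_inf.2 ⟨le_normalizer ha, hAL L hL ha⟩)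
        rcases quasisimple_normal hAq (H := (A ⊓ L).subgroupOf A) inferInstance with h | h
        · exact absurd ((subgroupOf_eq_top.1 h).trans inf_le_right) (hnotle L hL M hM hne)
        · have h1 : ⁅A, L ⊓ Ct⁆ ≤ (center A).map A.subtype := by
            rw [commutator_le]
            intro a ha c hc
            have h2 : ⁅a, c⁆ ∈ A ⊓ L := by
              rw [commutatorElement_def]
              refine mem_inf.2 ⟨?_, ?_⟩
              · have := (mem_normalizer_iff.1 (hCtN (mem_inf.1 hc).2) a⁻¹).1 (inv_mem ha)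
                rw [show a * c * a⁻¹ * c⁻¹ = a * (c * a⁻¹ * c⁻¹) by group]
                exact mul_mem ha this
              · exact mul_mem ((mem_normalizer_iff.1 (hAL L hL ha) c).1 (mem_inf.1 hc).1)
                  (inv_mem (mem_inf.1 hc).1)
            exact ⟨⟨_, (mem_inf.1 h2).1⟩, h (show (⟨_, (mem_inf.1 h2).1⟩ : A) ∈ _ from h2), rfl⟩
          have h3 : ⁅⁅L ⊓ Ct, A⁆, A⁆ = ⊥ := by
            rw [commutator_eq_bot_iff_le_centralizer, commutator_comm]
            refine h1.trans ?_
            rintro _ ⟨z, hz, rfl⟩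
            exact mem_centralizer_iff.2 fun b hb =>
              congrArg Subtype.val (mem_center_iff.1 hz ⟨b, hb⟩)
          rw [hK]
          exact commutator_eq_bot_iff_le_centralizer.1 (commutator_eq_bot_of_perfect hAperf h3)
      apply hlay
      refine layer_le fun M hM g hg => ?_
      obtain ⟨L, hL, hne⟩ : ∃ L, Cfsg.IsComponent L ∧ L ≠ M := by
        by_cases h : L₀ = M
        · exact ⟨M₀, hM₀, h ▸ Ne.symm hLM⟩
        · exact ⟨L₀, hL₀, h⟩
      obtain ⟨u, huL, hu2, hut⟩ := Standard.exists_involution_fixed ht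
        (fun x hx => hswap L hL ▸ ⟨x, hx, rfl⟩) (heven L hL)
      have huK : u ∈ K := hcentr L hL (mem_inf.2 ⟨huL, mem_centralizer_singleton_iff.2 hut.symm⟩)
      refine hnK u huK hu2 g ?_
      have e : u * g = g * u := mem_centralizer_iff.1 (hother M L hM hL (Ne.symm hne) hg) u huL
      rwa [← e, mul_inv_cancel_right]

end CfsgLib.FTRows
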