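import Cfsg.Agent.FTRows.PiSep
import Cfsg.Agent.Invol.CentralWeak

/-!
A nonabelian 2-complement `Q` of a normal subgroup `N` with an element `t` of `Z(Q) ∩ [Q,Q]`
having the same centraliser in `N` as `Q`: then `[N,Q]` has odd order (so is solvable, given
solvability of groups of odd order).
-/

set_option autoImplicit false
set_option linter.unusedSectionVars false

universe u

namespace CfsgLib.FTRows.SharedCent

open Subgroup

open scoped commutatorElement Pointwise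

variable {G : Type u} [Group G] [Finite G] {N Q : Subgroup G} [N.Normal] {t : G}

theorem exists_mul_of_mem_sup {H K : Subgroup G} (hle : H ≤ normalizer (K : Set G)) {g : G}
    (hg : g ∈ H ⊔ K) : ∃ a ∈ H, ∃ b ∈ K, a * b = g := by
  rw [← SetLike.mem_coe, Subgroup.coe_mul_of_left_le_normalizer_right H K hle] at hg
  exact Set.mem_mul.1 hg

/-- The hypotheses. -/
structure Cfg (N Q : Subgroup G) (t : G) : Prop where
  sup : Q ⊔ N = ⊤
  two : IsPGroup 2 Q
  disj : Q ⊓ N = ⊥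
  mem : t ∈ Q
  central : ∀ q ∈ Q, q * t = t * q
  der : t ∈ ⁅Q, Q⁆
  cent : ∀ n ∈ N, t * n = n * t → ∀ q ∈ Q, q * n = n * q

variable (h : Cfg N Q t)
include h

theorem Cfg.decomp (g : G) : ∃ n ∈ N, ∃ q ∈ Q, g = n * q := by
  have hg : g ∈ N ⊔ Q := by rw [sup_comm, h.sup]; trivial
  obtain ⟨n, hn, q, hq, e⟩ := Subgroup.mem_sup_of_normal_left.1 hg
  exact ⟨n, hn, q, hq, e.symm⟩

theorem Cfg.centralMod (g : G) : g * t * g⁻¹ * t⁻¹ ∈ N := by
  obtain ⟨n, hn, q, hq, rfl⟩ := h.decomp g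
  have e : n * q * t * (n * q)⁻¹ * t⁻¹ = n * (t * n⁻¹ * t⁻¹) := by
    rw [show n * q * t * (n * q)⁻¹ = n * (q * t) * q⁻¹ * n⁻¹ by group, h.central q hq]
    group
  rw [e]
  exact mul_mem hn (Subgroup.Normal.conj_mem inferInstance _ (inv_mem hn) t)

/-- `Q` centralises every `Q`-invariant 2-subgroup of `N`. -/
theorem Cfg.centralizes {M : Subgroup G} (hM : M ≤ N) (hM2 : IsPGroup 2 M)
    (hinv : Q ≤ normalizer (M : Set G)) : M ≤ centralizer (Q : Set G) := by
  haveI : Fact (Nat.Prime 2) := ⟨Nat.prime_two⟩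
  by_contra hne
  set P0 := M ⊓ centralizer (Q : Set G) with hP0
  have hP0N : P0 ≤ N := inf_le_left.trans hM
  have hcomm : ∀ p ∈ P0, ∀ q ∈ Q, q * p = p * q := fun p hp q hq =>
    Subgroup.mem_centralizer_iff.1 (Subgroup.mem_inf.1 hp).2 q hq
  have hQP : Q ≤ normalizer (P0 : Set G) := fun q hq => by
    refine Subgroup.mem_normalizer_iff.2 fun p => ⟨fun hp => ?_, fun hp => ?_⟩
    · rw [hcomm p hp q hq, mul_inv_cancel_right]; exact hp
    · have e := hcomm _ hp q hq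
      have e2 : q * p * q⁻¹ = p := by
        apply mul_left_cancel (a := q)
        rw [e]; group
      rwa [e2] at hp
  set A := Q ⊔ P0
  set B := Q ⊔ M
  have hB2 : IsPGroup 2 B := h.two.to_sup_of_normal_right' hM2 hinv
  have hAB : A < B := by
    refine lt_of_le_not_ge (sup_le_sup le_rfl inf_le_left) fun hle => hne fun m hm => ?_
    obtain ⟨q, hq, p, hp, e⟩ :=
      exists_mul_of_mem_sup hQP (hle (Subgroup.mem_sup_right hm))
    have hqN : q ∈ Q ⊓ N := Subgroup.mem_inf.2 ⟨hq, by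
      have : q = m * p⁻¹ := by rw [← e]; group
      rw [this]; exact mul_mem (hM hm) (inv_mem (hP0N hp))⟩
    rw [h.disj, Subgroup.mem_bot] at hqN
    rw [hqN, one_mul] at e
    exact e ▸ (Subgroup.mem_inf.1 hp).2
  obtain ⟨y, hyB, hyA, hyN⟩ : ∃ y ∈ B, y ∉ A ∧ y ∈ normalizer (A : Set G) := by
    haveI := hB2.isNilpotent
    have hlt : A.subgroupOf B < ⊤ := lt_of_le_not_ge le_top fun hle => hAB.not_ge fun b hb =>
      Subgroup.mem_subgroupOf.1 (hle (Subgroup.mem_top (⟨b, hb⟩ : B)))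
    obtain ⟨⟨y, hyB⟩, hy1, hy2⟩ := SetLike.exists_of_lt
      (Group.normalizerCondition_of_isNilpotent (G := B) _ hlt)
    refine ⟨y, hyB, fun hy => hy2 (Subgroup.mem_subgroupOf.2 hy), ?_⟩
    refine Subgroup.mem_normalizer_iff.2 fun a => ⟨fun ha => ?_, fun ha => ?_⟩
    · have := (Subgroup.mem_normalizer_iff.1 hy1 ⟨a, hAB.le ha⟩).1 (Subgroup.mem_subgroupOf.2 ha)
      exact Subgroup.mem_subgroupOf.1 this
    · have haB : a ∈ B := by
        have := mul_mem (mul_mem (inv_mem hyB) (hAB.le ha)) hyB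
        rwa [show y⁻¹ * (y * a * y⁻¹) * y = a by group] at this
      exact Subgroup.mem_subgroupOf.1 ((Subgroup.mem_normalizer_iff.1 hy1 ⟨a, haB⟩).2
        (Subgroup.mem_subgroupOf.2 ha))
  obtain ⟨q₁, hq₁, m, hm, hy⟩ := exists_mul_of_mem_sup hinv hyB
  have hmA : m ∈ normalizer (A : Set G) := by
    have : m = q₁⁻¹ * y := by rw [← hy]; group
    rw [this]
    exact mul_mem (inv_mem (Subgroup.le_normalizer (Subgroup.mem_sup_left hq₁))) hyN
  have hmP : m ∉ P0 := fun hp => hyA (hy ▸ mul_mem (Subgroup.mem_sup_left hq₁)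
    (Subgroup.mem_sup_right hp))
  have hAM : ∀ a ∈ A, a ∈ M → a ∈ P0 := by
    intro a ha haM
    obtain ⟨q, hq, p, hp, e⟩ := exists_mul_of_mem_sup hQP ha
    have hqN : q ∈ Q ⊓ N := Subgroup.mem_inf.2 ⟨hq, by
      have : q = a * p⁻¹ := by rw [← e]; group
      rw [this]; exact mul_mem (hM haM) (inv_mem (hP0N hp))⟩
    rw [h.disj, Subgroup.mem_bot] at hqN
    rw [hqN, one_mul] at e
    exact e ▸ hp
  have hconjP : ∀ p ∈ P0, m * p * m⁻¹ ∈ P0 := fun p hp => hAM _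
    ((Subgroup.mem_normalizer_iff.1 hmA p).1 (Subgroup.mem_sup_right hp))
    (mul_mem (mul_mem hm (inf_le_left (a := M) hp)) (inv_mem hm))
  -- the cocycle
  have hc : ∀ q ∈ Q, q * m * q⁻¹ * m⁻¹ ∈ P0 := by
    intro q hq
    refine hAM _ ?_ (mul_mem ((Subgroup.mem_normalizer_iff.1 (hinv hq) m).1 hm) (inv_mem hm))
    have h1 : m * q⁻¹ * m⁻¹ ∈ A :=
      (Subgroup.mem_normalizer_iff.1 hmA _).1 (Subgroup.mem_sup_left (inv_mem hq))
    have h2 := mul_mem (Subgroup.mem_sup_left (T := P0) hq) h1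
    rwa [show q * (m * q⁻¹ * m⁻¹) = q * m * q⁻¹ * m⁻¹ by group] at h2
  have hcP : ∀ q ∈ Q, ∀ p ∈ P0, q * m * q⁻¹ * m⁻¹ * p = p * (q * m * q⁻¹ * m⁻¹) := by
    intro q hq p hp
    have hp' : m⁻¹ * p * m ∈ P0 := by
      have hset : P0.map (MulAut.conj m).toMonoidHom = P0 := by
        apply Subgroup.eq_of_le_of_card_ge
        · rintro x ⟨z, hz, rfl⟩; exact hconjP z hz
        · rw [Subgroup.card_map_of_injective (MulAut.conj m).injective]
      have hp2 : p ∈ P0.map (MulAut.conj m).toMonoidHom := hset.symm ▸ hp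
      obtain ⟨z, hz, hzp⟩ := Subgroup.mem_map.1 hp2
      have hzp' : m * z * m⁻¹ = p := hzp
      rw [← hzp', show m⁻¹ * (m * z * m⁻¹) * m = z by group]
      exact hz
    have e1 : q * p * q⁻¹ = p := by rw [hcomm p hp q hq, mul_inv_cancel_right]
    have e2 : q * (m⁻¹ * p * m) * q⁻¹ = m⁻¹ * p * m := by
      rw [hcomm _ hp' q hq, mul_inv_cancel_right]
    calc q * m * q⁻¹ * m⁻¹ * p = q * m * q⁻¹ * (m⁻¹ * p * m) * m⁻¹ := by group
      _ = q * m * q⁻¹ * (q * (m⁻¹ * p * m) * q⁻¹) * m⁻¹ := by rw [e2]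
      _ = q * p * q⁻¹ * (q * m * q⁻¹ * m⁻¹) := by group
      _ = p * (q * m * q⁻¹ * m⁻¹) := by rw [e1]
  have hmul : ∀ q ∈ Q, ∀ r ∈ Q, (q * r) * m * (q * r)⁻¹ * m⁻¹ =
      (r * m * r⁻¹ * m⁻¹) * (q * m * q⁻¹ * m⁻¹) := by
    intro q hq r hr
    have e : q * (r * m * r⁻¹ * m⁻¹) = (r * m * r⁻¹ * m⁻¹) * q := hcomm _ (hc r hr) q hq
    calc (q * r) * m * (q * r)⁻¹ * m⁻¹
        = q * (r * m * r⁻¹ * m⁻¹) * (m * q⁻¹ * m⁻¹) := by group
      _ = _ := by rw [e]; group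
  have hfix : ⁅Q, Q⁆ ≤ centralizer ({m} : Set G) := by
    rw [Subgroup.commutator_le]
    intro q hq r hr
    have e : (q⁻¹ * r⁻¹) * m * (q⁻¹ * r⁻¹)⁻¹ * m⁻¹ = (r⁻¹ * q⁻¹) * m * (r⁻¹ * q⁻¹)⁻¹ * m⁻¹ := by
      rw [hmul _ (inv_mem hq) _ (inv_mem hr), hmul _ (inv_mem hr) _ (inv_mem hq),
        hcP _ (inv_mem hr) _ (hc _ (inv_mem hq))]
    rw [mul_left_inj] at e
    rw [Subgroup.mem_centralizer_singleton_iff, commutatorElement_def]
    calc q * r * q⁻¹ * r⁻¹ * m
        = q * r * ((q⁻¹ * r⁻¹) * m * (q⁻¹ * r⁻¹)⁻¹) * (q⁻¹ * r⁻¹) := by group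
      _ = q * r * ((r⁻¹ * q⁻¹) * m * (r⁻¹ * q⁻¹)⁻¹) * (q⁻¹ * r⁻¹) := by rw [e]
      _ = _ := by group
  have htm := Subgroup.mem_centralizer_singleton_iff.1 (hfix h.der)
  exact hmP ⟨hm, Subgroup.mem_centralizer_iff.2 fun q hq => h.cent m (hM hm) htm q hq⟩

/-- Every Sylow 2-subgroup containing `Q` and a conjugate of `Q` contains only one conjugate of
`t` of the same class modulo `N`. -/
theorem Cfg.fixed_of_mem (P : Sylow 2 G) (hQP : Q ≤ (P : Subgroup G)) {x : G}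
    (hx : ∀ q ∈ Q, x⁻¹ * q * x ∈ (P : Subgroup G)) : x * t * x⁻¹ = t := by
  have key : ∀ (R : Sylow 2 G), Q ≤ (R : Subgroup G) →
      (R : Subgroup G) ⊓ N ≤ centralizer (Q : Set G) := fun R hR =>
    h.centralizes inf_le_right (R.2.to_le inf_le_left) fun q hq =>
      Subgroup.mem_normalizer_iff.2 fun a => by
        simp only [Subgroup.mem_inf]
        constructor
        · exact fun ha => ⟨mul_mem (mul_mem (hR hq) ha.1) (inv_mem (hR hq)),
            Subgroup.Normal.conj_mem inferInstance _ ha.2 q⟩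
        · intro ha
          have e : a = q⁻¹ * (q * a * q⁻¹) * q⁻¹⁻¹ := by group
          rw [e]
          exact ⟨mul_mem (mul_mem (inv_mem (hR hq)) ha.1) (inv_mem (inv_mem (hR hq))),
            Subgroup.Normal.conj_mem inferInstance _ ha.2 q⁻¹⟩
  have hP := key P hQP
  have hxR : Q ≤ ((x • P : Sylow 2 G) : Subgroup G) := fun q hq => by
    rw [Sylow.coe_subgroup_smul]
    exact ⟨x⁻¹ * q * x, hx q hq, by show x * (x⁻¹ * q * x) * x⁻¹ = q; group⟩
  have hR := key (x • P) hxR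
  have hcP : ∀ q ∈ Q, ∀ a ∈ (P : Subgroup G) ⊓ N, x⁻¹ * q * x * a = a * (x⁻¹ * q * x) := by
    intro q hq a ha
    have h1 : x * a * x⁻¹ ∈ ((x • P : Sylow 2 G) : Subgroup G) ⊓ N := ⟨by
      rw [Sylow.coe_subgroup_smul]; exact ⟨a, ha.1, rfl⟩,
      Subgroup.Normal.conj_mem inferInstance _ ha.2 x⟩
    have e := Subgroup.mem_centralizer_iff.1 (hR h1) q hq
    calc x⁻¹ * q * x * a = x⁻¹ * (q * (x * a * x⁻¹)) * x := by group
      _ = _ := by rw [e]; group
  have hsplit : ∀ q ∈ Q, ∃ a ∈ (P : Subgroup G) ⊓ N, ∃ b ∈ Q, x⁻¹ * q * x = a * b ∧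
      ∀ c ∈ (P : Subgroup G) ⊓ N, a * c = c * a := by
    intro q hq
    obtain ⟨a, ha, b, hb, e⟩ := h.decomp (x⁻¹ * q * x)
    have haP : a ∈ (P : Subgroup G) ⊓ N := ⟨by
      have := mul_mem (hx q hq) (inv_mem (hQP hb))
      rwa [e, mul_inv_cancel_right] at this, ha⟩
    refine ⟨a, haP, b, hb, e, fun c hc => ?_⟩
    have e1 := hcP q hq c hc
    rw [e] at e1
    have e2 : b * c = c * b := Subgroup.mem_centralizer_iff.1 (hP hc) b hb
    apply mul_right_cancel (b := b)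
    calc a * c * b = a * (b * c) := by rw [e2, mul_assoc]
      _ = a * b * c := by group
      _ = c * a * b := by rw [e1]; group
  have hder : ⁅Q, Q⁆ ≤ Q.comap (MulAut.conj x⁻¹).toMonoidHom := by
    rw [Subgroup.commutator_le]
    intro q hq r hr
    obtain ⟨a, ha, b, hb, ea, haZ⟩ := hsplit q hq
    obtain ⟨a', ha', b', hb', ea', ha'Z⟩ := hsplit r hr
    have c1 : Commute a b' := (Subgroup.mem_centralizer_iff.1 (hP ha) b' hb').symm
    have c2 : Commute a' b := (Subgroup.mem_centralizer_iff.1 (hP ha') b hb).symm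
    have c3 : Commute a a' := haZ a' ha'
    have c4 : Commute a b := (Subgroup.mem_centralizer_iff.1 (hP ha) b hb).symm
    have c5 : Commute a' b' := (Subgroup.mem_centralizer_iff.1 (hP ha') b' hb').symm
    rw [Subgroup.mem_comap]
    have e : (MulAut.conj x⁻¹).toMonoidHom ⁅q, r⁆ = ⁅b, b'⁆ := by
      rw [map_commutatorElement]
      simp only [MulEquiv.coe_toMonoidHom, MulAut.conj_apply, inv_inv, ea, ea',
        commutatorElement_def, mul_inv_rev]
      calc a * b * (a' * b') * (b⁻¹ * a⁻¹) * (b'⁻¹ * a'⁻¹)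
          = a * (b * a') * b' * b⁻¹ * a⁻¹ * b'⁻¹ * a'⁻¹ := by group
        _ = a * a' * b * b' * b⁻¹ * (a⁻¹ * b'⁻¹) * a'⁻¹ := by rw [← c2.eq]; group
        _ = a * a' * (b * b' * b⁻¹ * b'⁻¹ * (a⁻¹ * a'⁻¹)) := by
          rw [c1.inv_inv.eq]; group
        _ = a * a' * ((a⁻¹ * a'⁻¹) * (b * b' * b⁻¹ * b'⁻¹)) := by
          rw [((((c4.inv_left.mul_left c2.inv_left).symm.mul_left
            (c1.inv_left.mul_left c5.inv_left).symm).mul_left
            (c4.inv_inv.mul_left c2.inv_inv).symm).mul_left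
            (c1.inv_inv.mul_left c5.inv_inv).symm).eq]
        _ = a * a' * a⁻¹ * a'⁻¹ * (b * b' * b⁻¹ * b'⁻¹) := by group
        _ = _ := by rw [c3.eq, show a' * a * a⁻¹ * a'⁻¹ = 1 by group, one_mul]
    rw [e, commutatorElement_def]
    exact mul_mem (mul_mem (mul_mem hb hb') (inv_mem hb)) (inv_mem hb')
  have h1 : x⁻¹ * t * x ∈ Q := by
    have := hder h.der
    rwa [Subgroup.mem_comap, MulEquiv.coe_toMonoidHom, MulAut.conj_apply, inv_inv] at this
  have h2 : x⁻¹ * t * x * t⁻¹ ∈ Q ⊓ N := Subgroup.mem_inf.2 ⟨mul_mem h1 (inv_mem h.mem), by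
    simpa using h.centralMod x⁻¹⟩
  rw [h.disj, Subgroup.mem_bot, mul_inv_eq_one] at h2
  calc x * t * x⁻¹ = x * (x⁻¹ * t * x) * x⁻¹ := by rw [h2]
    _ = t := by group

/-- `[N, Q]` lies in the odd core. -/
theorem Cfg.comm_le : ⁅N, Q⁆ ≤ Cfsg.oddCore G := by
  haveI : Fact (Nat.Prime 2) := ⟨Nat.prime_two⟩
  obtain ⟨P, hQP⟩ := h.two.exists_le_sylow
  have hP : (P : Subgroup G) ⊓ N ≤ centralizer (Q : Set G) :=
    h.centralizes inf_le_right (P.2.to_le inf_le_left)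
      ((le_inf (hQP.trans Subgroup.le_normalizer) (Subgroup.le_normalizer_of_normal)).trans
        (Subgroup.inf_normalizer_le_normalizer_inf))
  have hPt : ∀ p ∈ (P : Subgroup G), p * t = t * p := by
    intro p hp
    obtain ⟨n, hn, q, hq, e⟩ := h.decomp p
    have hnP : n ∈ (P : Subgroup G) ⊓ N := ⟨by
      have := mul_mem hp (inv_mem (hQP hq))
      rwa [e, mul_inv_cancel_right] at this, hn⟩
    have e1 : t * n = n * t := Subgroup.mem_centralizer_iff.1 (hP hnP) t h.mem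
    rw [e, mul_assoc, h.central q hq, ← mul_assoc, ← e1, mul_assoc]
  obtain ⟨k, hk⟩ := IsPGroup.iff_orderOf.1 h.two ⟨t, h.mem⟩
  rw [Subgroup.orderOf_mk] at hk
  have halone : ∀ i : ℕ, CfsgLib.CentralWeak.Alone (P : Subgroup G) (t ^ i) := by
    intro i g hg
    set u := t ^ i with hu
    have huN : g * u * g⁻¹ * u⁻¹ ∈ N := by
      rw [← QuotientGroup.eq_one_iff]
      have e := (QuotientGroup.eq_one_iff (N := N) _).2 (h.centralMod g)
      simp only [QuotientGroup.mk_mul, QuotientGroup.mk_inv, hu, QuotientGroup.mk_pow,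
        mul_inv_eq_one] at e ⊢
      rw [← conj_pow, e]
    have hQc : ∀ q ∈ Q, q * (g * u * g⁻¹) = g * u * g⁻¹ * q := by
      intro q hq
      have hm : g * u * g⁻¹ * u⁻¹ ∈ (P : Subgroup G) ⊓ N :=
        Subgroup.mem_inf.2 ⟨mul_mem hg (inv_mem (pow_mem (hQP h.mem) i)), huN⟩
      have e1 : Commute q (g * u * g⁻¹ * u⁻¹) := Subgroup.mem_centralizer_iff.1 (hP hm) q hq
      have e2 := e1.mul_right ((show Commute q t from h.central q hq).pow_right i)
      simp only [← hu, inv_mul_cancel_right] at e2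
      exact e2.eq
    set C := centralizer ({g * u * g⁻¹} : Set G) with hC
    have hQC : Q ≤ C := fun q hq => Subgroup.mem_centralizer_singleton_iff.2 (hQc q hq)
    have hSC : ((g • P : Sylow 2 G) : Subgroup G) ≤ C := by
      rw [Sylow.coe_subgroup_smul]
      rintro y ⟨p, hp, rfl⟩
      apply Subgroup.mem_centralizer_singleton_iff.2
      show g * p * g⁻¹ * (g * u * g⁻¹) = g * u * g⁻¹ * (g * p * g⁻¹)
      have ep : p * u = u * p := ((show Commute p t from hPt p hp).pow_right i).eq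
      calc g * p * g⁻¹ * (g * u * g⁻¹) = g * (p * u) * g⁻¹ := by group
        _ = _ := by rw [ep]; group
    obtain ⟨c, hc⟩ := CfsgLib.CentralWeak.exists_conj_sylow ((g • P).subtype hSC)
      (h.two.comap_subtype (K := C))
    have hx : ∀ q ∈ Q, ((c : G)⁻¹ * g)⁻¹ * q * ((c : G)⁻¹ * g) ∈ (P : Subgroup G) := by
      intro q hq
      have h1 : (c : G) * q * (c : G)⁻¹ ∈ ((g • P : Sylow 2 G) : Subgroup G) :=
        hc ⟨q, hQC hq⟩ (Subgroup.mem_subgroupOf.2 hq)
      rw [Sylow.coe_subgroup_smul] at h1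
      obtain ⟨p, hp, e⟩ := h1
      have e' : g * p * g⁻¹ = (c : G) * q * (c : G)⁻¹ := e
      rw [show ((c : G)⁻¹ * g)⁻¹ * q * ((c : G)⁻¹ * g) = g⁻¹ * ((c : G) * q * (c : G)⁻¹) * g by group,
        ← e', show g⁻¹ * (g * p * g⁻¹) * g = p by group]
      exact hp
    have ht := h.fixed_of_mem P hQP hx
    have hu' : (c : G)⁻¹ * g * u * ((c : G)⁻¹ * g)⁻¹ = u := by rw [hu, ← conj_pow, ht]
    have hcc := Subgroup.mem_centralizer_singleton_iff.1 c.2
    calc g * u * g⁻¹ = (c : G)⁻¹ * ((c : G) * (g * u * g⁻¹)) := by group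
      _ = (c : G)⁻¹ * (g * u * g⁻¹ * (c : G)) := by rw [hcc]
      _ = (c : G)⁻¹ * g * u * ((c : G)⁻¹ * g)⁻¹ := by group
      _ = u := hu'
  have hz := CfsgLib.CentralWeak.comm_mem_oddCore k P t (hQP h.mem)
    (hk ▸ pow_orderOf_eq_one t) halone
  set O := Cfsg.oddCore G
  have hOodd : Odd (Nat.card O) := CfsgLib.IsoApps.odd_oddCore
  have hON : O ≤ N := by
    intro o ho
    obtain ⟨n, hn, q, hq, e⟩ := h.decomp o
    obtain ⟨j, hj⟩ := h.two ⟨q, hq⟩
    have hj' : q ^ 2 ^ j = 1 := congrArg Subtype.val hj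
    rw [← QuotientGroup.eq_one_iff (N := N)]
    have h1 : ((o : G ⧸ N)) ^ 2 ^ j = 1 := by
      rw [e, QuotientGroup.mk_mul, (QuotientGroup.eq_one_iff n).2 hn, one_mul,
        ← QuotientGroup.mk_pow, hj', QuotientGroup.mk_one]
    have h2 : Odd (orderOf (o : G ⧸ N)) := (CfsgLib.IsoApps.odd_of_mem_oddCore ho).of_dvd_nat
      (orderOf_map_dvd (QuotientGroup.mk' N) o)
    rw [← orderOf_eq_one_iff]
    exact Nat.eq_one_of_dvd_coprimes
      (Nat.Coprime.pow_right j (Nat.coprime_two_right.2 h2)) dvd_rfl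
      (orderOf_dvd_of_pow_eq_one h1)
  rw [Subgroup.commutator_le]
  intro n hn q hq
  let X := {v : G // v * n⁻¹ ∈ O}
  have hOn : O.Normal := inferInstance
  letI act : MulAction (zpowers t) X :=
    { smul := fun a v => ⟨(a : G) * v.1 * (a : G)⁻¹, by
        have h1 : (a : G) * n * (a : G)⁻¹ * n⁻¹ ∈ O := by
          obtain ⟨j, hj⟩ := Subgroup.mem_zpowers_iff.1 a.2
          rw [← QuotientGroup.eq_one_iff, ← hj]
          have e := (QuotientGroup.eq_one_iff (N := O) _).2 (hz n)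
          simp only [QuotientGroup.mk_mul, QuotientGroup.mk_inv, mul_inv_eq_one] at e ⊢
          have e' : Commute (n : G ⧸ O) t := mul_inv_eq_iff_eq_mul.mp e
          rw [QuotientGroup.mk_zpow, ← (e'.zpow_right j).eq, mul_inv_cancel_right]
        rw [show (a : G) * v.1 * (a : G)⁻¹ * n⁻¹ =
          (a : G) * (v.1 * n⁻¹) * (a : G)⁻¹ * ((a : G) * n * (a : G)⁻¹ * n⁻¹) by group]
        exact mul_mem (hOn.conj_mem _ v.2 _) h1⟩
      one_smul := fun v => Subtype.ext (by show (1 : G) * v.1 * (1 : G)⁻¹ = v.1; group)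
      mul_smul := fun a b v => Subtype.ext (by
        show (a : G) * b * v.1 * ((a : G) * b)⁻¹ = (a : G) * ((b : G) * v.1 * (b : G)⁻¹) * (a : G)⁻¹
        group) }
  have hX : ¬ 2 ∣ Nat.card X := by
    let eX : O ≃ X :=
      { toFun := fun o => ⟨o.1 * n, by rw [mul_inv_cancel_right]; exact o.2⟩
        invFun := fun v => ⟨v.1 * n⁻¹, v.2⟩
        left_inv := fun o => Subtype.ext (mul_inv_cancel_right _ _)
        right_inv := fun v => Subtype.ext (inv_mul_cancel_right _ _) }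
    rw [← Nat.card_congr eX, ← even_iff_two_dvd, Nat.not_even_iff_odd]
    exact hOodd
  obtain ⟨v, hv⟩ := (h.two.to_le (Subgroup.zpowers_le.2 h.mem)).nonempty_fixed_point_of_prime_not_dvd_card
    X hX
  have hfix : t * v.1 * t⁻¹ = v.1 := congrArg Subtype.val (hv ⟨t, Subgroup.mem_zpowers t⟩)
  have hvN : v.1 ∈ N := by
    have := mul_mem (hON v.2) hn
    rwa [inv_mul_cancel_right] at this
  have hvq := h.cent v.1 hvN (mul_inv_eq_iff_eq_mul.1 hfix) q hq
  rw [commutatorElement_def, ← QuotientGroup.eq_one_iff]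
  have e := (QuotientGroup.eq_one_iff (N := O) _).2 v.2
  simp only [QuotientGroup.mk_mul, QuotientGroup.mk_inv, mul_inv_eq_one] at e
  have e2 : (q : G ⧸ O) * n = n * q := by
    rw [← e, ← QuotientGroup.mk_mul, hvq, QuotientGroup.mk_mul]
  simp only [QuotientGroup.mk_mul, QuotientGroup.mk_inv]
  rw [← e2]; group

end CfsgLib.FTRows.SharedCent

namespace CfsgLib.FTRows

/-- S2962 relative to the solvability of groups of odd order. -/
theorem shared_centralizer (hFT : OddSolvable.{u}) {G : Type u} [Group G] [Finite G]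
    (N Q : Subgroup G) [N.Normal] (hG : Q ⊔ N = ⊤) (hQ : IsPGroup 2 ↥Q) (hdisj : Q ⊓ N = ⊥)
    (t : G) (htZ : t ∈ Q ⊓ Subgroup.centralizer (Q : Set G)) (htQ : t ∈ ⁅Q, Q⁆)
    (hC : N ⊓ Subgroup.centralizer (Q : Set G) = N ⊓ Subgroup.centralizer ({t} : Set G)) :
    Group.IsSolvable ↥⁅N, Q⁆ ∧ Odd (Nat.card ↥⁅N, Q⁆) := by
  have h : SharedCent.Cfg N Q t :=
    ⟨hG, hQ, hdisj, htZ.1, fun q hq => Subgroup.mem_centralizer_iff.1 htZ.2 q hq, htQ,
      fun n hn hc q hq => by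
        have h1 : n ∈ N ⊓ Subgroup.centralizer ({t} : Set G) :=
          ⟨hn, Subgroup.mem_centralizer_singleton_iff.2 hc.symm⟩
        rw [← hC] at h1
        exact Subgroup.mem_centralizer_iff.1 h1.2 q hq⟩
  have hodd : Odd (Nat.card ↥⁅N, Q⁆) :=
    CfsgLib.IsoApps.odd_oddCore.of_dvd_nat (Subgroup.card_dvd_of_le h.comm_le)
  exact ⟨hFT _ hodd, hodd⟩

end CfsgLib.FTRows
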